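import Mathlib
import Cfsg.Agent.Lib.PushUp.Chain
import Cfsg.Agent.Lib.PushUp.Long

/-!
Systems of flags with transitive edges: shifts of critical chains and the vertices without partners.
-/

set_option autoImplicit false
set_option linter.unusedSectionVars false

namespace CfsgLib.PushPair

open Subgroup CfsgLib.PushUp

universe w v

variable {Γ : Type w} [Group Γ] {p : ℕ}

theorem cj_le_cj {g : Γ} {A B : Subgroup Γ} : cj g A ≤ cj g B ↔ A ≤ B :=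
  Subgroup.map_le_map_iff_of_injective (MulEquiv.injective _)

theorem cj_inv_cj (g : Γ) (A : Subgroup Γ) : cj g⁻¹ (cj g A) = A := by
  ext x; simp [mem_cj, mul_assoc]

theorem cj_sup (g : Γ) (A B : Subgroup Γ) : cj g (A ⊔ B) = cj g A ⊔ cj g B := Subgroup.map_sup _ _ _

theorem cj_cj_inv (g : Γ) (A : Subgroup Γ) : cj g (cj g⁻¹ A) = A := by
  ext x; simp [mem_cj, mul_assoc]

variable (𝒮 : Sys.{w, v} Γ p)

/-- The vertices at the end of a critical pair of distance `b`. -/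
def Ep (b : ℕ) (x : 𝒮.α) : Prop := ∃ y, 𝒮.Reach b x y ∧ ¬ 𝒮.V x ≤ 𝒮.Q y

/-- The vertex group of `x` normalizes the join of the modules of `x` and `y`. -/
def Rel (x y : 𝒮.α) : Prop := 𝒮.H x ≤ normalizer ((𝒮.V x ⊔ 𝒮.V y : Subgroup Γ) : Set Γ)

/-- Two vertices with the same groups and edges. -/
structure Same (x y : 𝒮.α) : Prop where
  H : 𝒮.H x = 𝒮.H y
  Q : 𝒮.Q x = 𝒮.Q y
  V : 𝒮.V x = 𝒮.V y
  edge : ∀ T, 𝒮.edge x T ↔ 𝒮.edge y T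

/-- The edges at a vertex are conjugate. -/
structure Homog : Prop where
  H_mv : ∀ g x, 𝒮.H (𝒮.mv g x) = cj g (𝒮.H x)
  trans : ∀ x T T', 𝒮.edge x T → 𝒮.edge x T' → ∃ h ∈ 𝒮.H x, T' = cj h T
  exists_edge : ∀ x, ∃ T, 𝒮.edge x T

/-- Finitely many kinds of vertices. -/
structure Keyed {κ : Type*} (key : 𝒮.α → κ) : Prop where
  key_mv : ∀ g x, key (𝒮.mv g x) = key x
  same : ∀ x y, key x = key y → ∃ g, Same 𝒮 (𝒮.mv g x) y

variable {𝒮}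

theorem adj_mv (g : Γ) {x y : 𝒮.α} (h : 𝒮.Adj x y) : 𝒮.Adj (𝒮.mv g x) (𝒮.mv g y) := by
  obtain ⟨T, h1, h2⟩ := h
  exact ⟨cj g T, 𝒮.edge_mv g _ _ h1, 𝒮.edge_mv g _ _ h2⟩

theorem reach_mv (g : Γ) : ∀ (n : ℕ) (x y : 𝒮.α), 𝒮.Reach n x y → 𝒮.Reach n (𝒮.mv g x) (𝒮.mv g y) := by
  intro n
  induction n with
  | zero => intro x y h; exact congrArg (𝒮.mv g) h
  | succ n ih =>
    rintro x y ⟨z, hz, hzy⟩
    exact ⟨_, adj_mv g hz, ih z y hzy⟩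

theorem ep_mv (g : Γ) {b : ℕ} {x : 𝒮.α} (h : Ep 𝒮 b x) : Ep 𝒮 b (𝒮.mv g x) := by
  obtain ⟨y, h1, h2⟩ := h
  exact ⟨_, reach_mv g b x y h1, by rw [𝒮.V_mv, 𝒮.Q_mv, cj_le_cj]; exact h2⟩

theorem Same.ep {b : ℕ} (hb : 1 ≤ b) {x y : 𝒮.α} (hs : Same 𝒮 x y) (h : Ep 𝒮 b x) : Ep 𝒮 b y := by
  obtain ⟨z, h1, h2⟩ := h
  obtain ⟨n, rfl⟩ : ∃ n, b = n + 1 := ⟨b - 1, by omega⟩
  obtain ⟨w, ⟨T, hxT, hwT⟩, hw⟩ := h1
  exact ⟨z, ⟨w, ⟨T, (hs.edge T).mp hxT, hwT⟩, hw⟩, hs.V ▸ h2⟩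

theorem Keyed.ep {κ : Type*} {key : 𝒮.α → κ} (hK : Keyed 𝒮 key) {b : ℕ} (hb : 1 ≤ b) {x y : 𝒮.α}
    (hxy : key x = key y) (h : Ep 𝒮 b x) : Ep 𝒮 b y := by
  obtain ⟨g, hg⟩ := hK.same x y hxy
  exact hg.ep hb (ep_mv g h)

variable [Finite Γ]

theorem cj_Q {x : 𝒮.α} {T : Subgroup Γ} (hT : 𝒮.edge x T) {h : Γ} (hh : h ∈ 𝒮.H x) : cj h (𝒮.Q x) = 𝒮.Q x :=
  cj_eq_self ((𝒮.flag x T hT).norm_Q hh)

theorem cj_V {x : 𝒮.α} {T : Subgroup Γ} (hT : 𝒮.edge x T) {h : Γ} (hh : h ∈ 𝒮.H x) : cj h (𝒮.V x) = 𝒮.V x :=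
  cj_eq_self ((𝒮.flag x T hT).norm_V hh)

theorem exists_chain : ∀ (n : ℕ) (x y : 𝒮.α), 𝒮.Reach n x y →
    ∃ c : ℕ → 𝒮.α, ∃ e : ℕ → Subgroup Γ,
      c 0 = x ∧ c n = y ∧ (∀ i, i < n → 𝒮.edge (c i) (e i)) ∧ ∀ i, i < n → 𝒮.edge (c (i + 1)) (e i) := by
  intro n
  induction n with
  | zero => intro x y h; exact ⟨fun _ => x, fun _ => ⊥, rfl, h, fun i hi => by omega, fun i hi => by omega⟩
  | succ n ih =>
    rintro x y ⟨z, ⟨T, h1, h2⟩, hz⟩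
    obtain ⟨c, e, hc0, hcn, hl, hr⟩ := ih z y hz
    refine ⟨fun i => match i with | 0 => x | j + 1 => c j, fun i => match i with | 0 => T | j + 1 => e j,
      rfl, hcn, ?_, ?_⟩
    · rintro (_ | j) hj
      · exact h1
      · exact hl j (by omega)
    · rintro (_ | j) hj
      · show 𝒮.edge (c 0) T
        rw [hc0]; exact h2
      · exact hr j (by omega)

theorem exists_crit {b : ℕ} (hb : 1 ≤ b) (hB : 𝒮.Below b) {x : 𝒮.α} (h : Ep 𝒮 b x) :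
    ∃ C : Chain 𝒮 b b, C.c 0 = x ∧ ¬ 𝒮.V (C.c 0) ≤ 𝒮.Q (C.c b) := by
  obtain ⟨y, h1, h2⟩ := h
  obtain ⟨c, e, hc0, hcn, hl, hr⟩ := exists_chain b x y h1
  exact ⟨⟨c, e, hl, hr, hb, le_rfl, hB⟩, hc0, show ¬ 𝒮.V (c 0) ≤ 𝒮.Q (c b) by rw [hc0, hcn]; exact h2⟩

/-- The translate of a chain. -/
def chainMv {b L : ℕ} (C : Chain 𝒮 b L) (g : Γ) : Chain 𝒮 b L where
  c i := 𝒮.mv g (C.c i)
  e i := cj g (C.e i)
  edge_l i hi := 𝒮.edge_mv g _ _ (C.edge_l i hi)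
  edge_r i hi := 𝒮.edge_mv g _ _ (C.edge_r i hi)
  hb := C.hb
  hL := C.hL
  below := C.below

/-- If the translate of `u` has its module in the core of the vertex before the last, then `Rel (c 0) u`. -/
theorem rel_of_shift {b L : ℕ} (C : Chain 𝒮 b L) (hc : ¬ 𝒮.V (C.c 0) ≤ 𝒮.Q (C.c b)) {u : 𝒮.α}
    (hu : 𝒮.edge u (C.e 0)) {T' : Subgroup Γ} (hT' : 𝒮.edge (C.c 0) T')
    (hopp : Opp (𝒮.H (C.c 0)) (𝒮.Q (C.c 0)) (C.e 0) T') {h : Γ} (hh : h ∈ 𝒮.H (C.c 0)) (he : T' = cj h (C.e 0))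
    (hle : 𝒮.V (𝒮.mv h u) ≤ 𝒮.Q (C.c (b - 1))) : Rel 𝒮 (C.c 0) u := by
  have hb := C.hb; have hL := C.hL
  have hcz : ¬ 𝒮.V (C.c 0) ≤ 𝒮.Q (C.c (0 + b)) := by simpa using hc
  obtain ⟨hne, -, -⟩ := C.cover_at (i := 0) (by omega) hcz
  rw [Nat.zero_add] at hne
  obtain ⟨x, hx, hxQ⟩ := SetLike.not_le_iff_exists.mp hne
  have F0 := C.flag_l (i := 0) (by omega)
  have F' := 𝒮.flag _ _ hT'
  have hu' : 𝒮.edge (𝒮.mv h u) T' := he ▸ 𝒮.edge_mv h u _ hu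
  have Fu := 𝒮.flag _ _ hu'
  have hxe : x ∈ C.e 0 := C.V_le_edge_l (i := b) (j := 0) hL (by omega) (by omega) (by omega) hx
  set N := 𝒮.V (C.c 0) ⊔ 𝒮.V (𝒮.mv h u) with hN
  have hNQ : N ≤ 𝒮.Q (C.c (b - 1)) := sup_le (C.near (by omega) (by omega) (by omega) (by omega)) hle
  have hxN : x ∈ normalizer (N : Set Γ) := by
    refine mem_normalizer_of_conj fun w hw => ?_
    have hwe : w ∈ C.e (0 + b - 1) := by
      rw [Nat.zero_add]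
      exact (C.flag_l (by omega)).Q_le (hNQ hw)
    obtain ⟨a, ha, q, hq, rfl⟩ := C.split_l (i := 0) (by omega) hcz hwe
    rw [Nat.zero_add] at hq
    obtain ⟨T, hT⟩ := C.exists_edge hL
    have hqx : Commute q x := (𝒮.flag _ _ hT).V_cent q hq x hx
    have e : x * (a * q) * x⁻¹ = (x * a * x⁻¹ * a⁻¹) * (a * q) := by
      calc x * (a * q) * x⁻¹ = x * a * (q * x⁻¹) := by group
        _ = x * a * (x⁻¹ * q) := by rw [hqx.inv_right.eq]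
        _ = _ := by group
    rw [e]
    exact mul_mem (mem_sup_left (F0.comm_mem_V (F0.T_le hxe) ha)) hw
  have hTN : T' ≤ normalizer (N : Set Γ) := by
    intro t ht
    refine mem_normalizer_of_conj fun w hw => ?_
    have e : cj t N = N := by
      rw [hN, cj_sup, cj_eq_self (F'.norm_V (F'.T_le ht)), cj_eq_self (Fu.norm_V (Fu.T_le ht))]
    exact e ▸ conj_mem_cj hw
  have hHN : 𝒮.H (C.c 0) ≤ normalizer (N : Set Γ) := by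
    rw [← hopp.left x hxe hxQ]
    exact sup_le ((Subgroup.closure_le _).mpr (Set.singleton_subset_iff.mpr hxN)) hTN
  have heq : N = cj h (𝒮.V (C.c 0) ⊔ 𝒮.V u) := by
    rw [hN, cj_sup, 𝒮.V_mv, cj_eq_self (F0.norm_V hh)]
  have e2 : cj h⁻¹ N = N := cj_eq_self (hHN (inv_mem hh))
  rw [heq, cj_inv_cj] at e2
  show 𝒮.H (C.c 0) ≤ normalizer ((𝒮.V (C.c 0) ⊔ 𝒮.V u : Subgroup Γ) : Set Γ)
  rw [e2, ← heq]
  exact hHN

/-- The second vertex of a critical chain is not related to the first. -/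
theorem not_rel (hH : Homog 𝒮) {b L : ℕ} (C : Chain 𝒮 b L) (hb2 : 2 ≤ b)
    (hc : ¬ 𝒮.V (C.c 0) ≤ 𝒮.Q (C.c b)) : ¬ Rel 𝒮 (C.c 1) (C.c 0) := by
  intro hrel
  have hL := C.hL
  obtain ⟨h, hh, he⟩ := hH.trans _ _ _ (C.edge_r 0 (by omega)) (C.edge_l 1 (by omega))
  refine hc ?_
  have hu : 𝒮.edge (𝒮.mv h (C.c 0)) (C.e 1) := he ▸ 𝒮.edge_mv h _ _ (C.edge_l 0 (by omega))
  have e : cj h (𝒮.V (C.c 1) ⊔ 𝒮.V (C.c 0)) = 𝒮.V (C.c 1) ⊔ 𝒮.V (C.c 0) := cj_eq_self (hrel hh)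
  refine (le_sup_right : 𝒮.V (C.c 0) ≤ 𝒮.V (C.c 1) ⊔ 𝒮.V (C.c 0)).trans ?_
  rw [← e, cj_sup, cj_V (C.edge_r 0 (by omega)) hh]
  refine sup_le (C.near (by omega) hL (by omega) (by omega)) ?_
  have := C.near_adj hu (C.edge_r 1 (by omega)) (i := 2) (j := b) (by omega) hL (by omega)
  rwa [𝒮.V_mv] at this

/-- The commutators of the core with a related module are central. -/
theorem rel_central (hH : Homog 𝒮) {d u : 𝒮.α} {e : Subgroup Γ} (hd : 𝒮.edge d e) (hu : 𝒮.edge u e)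
    (hrel : Rel 𝒮 d u) {q y : Γ} (hq : q ∈ 𝒮.Q d) (hy : y ∈ 𝒮.V u) :
    q * y * q⁻¹ * y⁻¹ ∈ centralizer (𝒮.H d : Set Γ) := by
  obtain ⟨T', hT', hopp⟩ := 𝒮.exists_opp d e hd
  obtain ⟨h, hh, he⟩ := hH.trans d e T' hd hT'
  have hu' : 𝒮.edge (𝒮.mv h u) T' := he ▸ 𝒮.edge_mv h u e hu
  have F := 𝒮.flag d e hd
  have Fu := 𝒮.flag u e hu
  have F' := 𝒮.flag d T' hT'
  have Fu' := 𝒮.flag _ _ hu'
  have hN : y ∈ 𝒮.V d ⊔ 𝒮.V (𝒮.mv h u) := by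
    have hy2 : y ∈ 𝒮.V d ⊔ 𝒮.V u := mem_sup_right hy
    rw [← cj_eq_self (hrel hh), cj_sup, cj_eq_self (F.norm_V hh)] at hy2
    rwa [𝒮.V_mv]
  obtain ⟨v, hv, y', hy', hvy⟩ := exists_mul (Fu'.V_le_T.trans (F'.T_le.trans F'.norm_V)) hN
  set z := q * y * q⁻¹ * y⁻¹ with hz
  have h1 : ∀ t ∈ e, t * z = z * t := fun t ht => Fu.quad y hy q (F.Q_le hq) t ht
  have h2 : ∀ t ∈ T', t * z = z * t := by
    have hz' := Fu'.quad y' hy' q (F'.Q_le hq)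
    have hqv : Commute q v := F.V_cent q hq v hv
    have hvz : Commute v (q * y' * q⁻¹ * y'⁻¹) := hz' v (F'.V_le_T hv)
    have e : z = q * y' * q⁻¹ * y'⁻¹ := by
      calc z = (q * v) * y' * q⁻¹ * y'⁻¹ * v⁻¹ := by rw [hz, ← hvy]; group
        _ = v * (q * y' * q⁻¹ * y'⁻¹) * v⁻¹ := by rw [hqv.eq]; group
        _ = _ := by rw [hvz.eq, mul_inv_cancel_right]
    intro t ht
    rw [e]; exact hz' t ht
  obtain ⟨x, hx, hxQ⟩ := F.exists_mem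
  exact hopp.cent_left hx hxQ (h1 x hx) h2

/-- A vertex without partner is centralized modulo the centre by the vertex with one. -/
theorem rest (hH : Homog 𝒮) {b L : ℕ} (C : Chain 𝒮 b L) (hc : ¬ 𝒮.V (C.c 0) ≤ 𝒮.Q (C.c b)) {i : 𝒮.α}
    (hi : 𝒮.edge i (C.e 0)) (hno : ∀ g : Γ, ¬ Ep 𝒮 b (𝒮.mv g i)) (hno1 : ¬ Ep 𝒮 b i)
    {t y : Γ} (ht : t ∈ C.e 0) (hy : y ∈ 𝒮.V i) :
    t * y * t⁻¹ * y⁻¹ ∈ centralizer (𝒮.H (C.c 0) : Set Γ) := by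
  have hb := C.hb; have hL := C.hL
  obtain ⟨T', hT', hopp⟩ := 𝒮.exists_opp _ _ (C.edge_l 0 (by omega))
  obtain ⟨h, hh, he⟩ := hH.trans _ _ _ (C.edge_l 0 (by omega)) hT'
  have hrel : Rel 𝒮 (C.c 0) i := by
    refine rel_of_shift C hc hi hT' hopp hh he ?_
    by_contra hne
    refine hno h ⟨C.c (b - 1), ?_, hne⟩
    have h1 : 𝒮.Reach 1 (𝒮.mv h i) (C.c 0) := ⟨_, ⟨T', he ▸ 𝒮.edge_mv h i _ hi, hT'⟩, rfl⟩
    have h2 := C.reach (i := 0) (b - 1) (by omega)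
    rw [Nat.zero_add] at h2
    have h3 := 𝒮.reach_append _ _ _ _ _ h1 h2
    rwa [show 1 + (b - 1) = b by omega] at h3
  have hi' : 𝒮.V i ≤ 𝒮.Q (C.c b) := by
    by_contra hne
    refine hno1 ⟨C.c b, ?_, hne⟩
    have h1 : 𝒮.Reach 1 i (C.c 1) := ⟨_, ⟨C.e 0, hi, C.edge_r 0 (by omega)⟩, rfl⟩
    have h2 := C.reach (i := 1) (b - 1) (by omega)
    rw [show 1 + (b - 1) = b by omega] at h2
    have h3 := 𝒮.reach_append _ _ _ _ _ h1 h2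
    rwa [show 1 + (b - 1) = b by omega] at h3
  have hcz : ¬ 𝒮.V (C.c 0) ≤ 𝒮.Q (C.c (0 + b)) := by simpa using hc
  obtain ⟨w, hw, q, hq, rfl⟩ := C.split_r (i := 0) (by omega) hcz ht
  rw [Nat.zero_add] at hw
  obtain ⟨T, hT⟩ := C.exists_edge hL
  have hwy : Commute w y := ((𝒮.flag _ _ hT).V_cent y (hi' hy) w hw).symm
  have hz := rel_central hH (C.edge_l 0 (by omega)) hi hrel hq hy
  have hwH : w ∈ 𝒮.H (C.c 0) := (C.flag_l (by omega)).T_le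
    (C.V_le_edge_l (i := b) (j := 0) hL (by omega) (by omega) (by omega) hw)
  have e : w * q * y * (w * q)⁻¹ * y⁻¹ = q * y * q⁻¹ * y⁻¹ := by
    calc w * q * y * (w * q)⁻¹ * y⁻¹ = w * (q * y * q⁻¹ * y⁻¹) * (y * w⁻¹) * y⁻¹ := by group
      _ = w * (q * y * q⁻¹ * y⁻¹) * w⁻¹ := by rw [hwy.symm.inv_right.eq]; group
      _ = _ := by rw [hz w hwH, mul_inv_cancel_right]
  rw [e]; exact hz

/-- The two-step chain `(x, y, z)`. -/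
def chain2 (hB : 𝒮.Below 2) {x y z : 𝒮.α} {e f : Subgroup Γ} (h0 : 𝒮.edge x e) (h1 : 𝒮.edge y e)
    (h2 : 𝒮.edge y f) (h3 : 𝒮.edge z f) : Chain 𝒮 2 2 where
  c i := match i with | 0 => x | 1 => y | _ => z
  e i := match i with | 0 => e | _ => f
  edge_l i hi := match i, hi with | 0, _ => h0 | 1, _ => h2
  edge_r i hi := match i, hi with | 0, _ => h1 | 1, _ => h3
  hb := by omega
  hL := le_rfl
  below := hB

/-- Five vertices around a pair of unrelated neighbours. -/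
theorem exists_five (hH : Homog 𝒮) (C : Chain 𝒮 2 2) (hc : ¬ 𝒮.V (C.c 0) ≤ 𝒮.Q (C.c 2))
    (hv : ¬ Rel 𝒮 (C.c 0) (C.c 1))
    (hmid : ∀ D : Chain 𝒮 2 2, D.c 0 = C.c 1 → ¬ 𝒮.V (D.c 0) ≤ 𝒮.Q (D.c 2) → ¬ Rel 𝒮 (D.c 0) (D.c 1)) :
    ∃ K : Chain 𝒮 2 5, K.c 2 = C.c 0 ∧ (∀ i, i + 2 ≤ 5 → ¬ 𝒮.V (K.c i) ≤ 𝒮.Q (K.c (i + 2))) ∧
      ∀ i, i = 1 ∨ i = 2 → Opp (𝒮.H (K.c (i + 1))) (𝒮.Q (K.c (i + 1))) (K.e i) (K.e (i + 1)) := by
  have hB := C.below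
  set x := C.c 0 with hx
  set m := C.c 1 with hm
  set z := C.c 2 with hz
  set e := C.e 0 with he
  set f := C.e 1 with hf
  have hxe : 𝒮.edge x e := C.edge_l 0 (by omega)
  have hme : 𝒮.edge m e := C.edge_r 0 (by omega)
  have hmf : 𝒮.edge m f := C.edge_l 1 (by omega)
  have hzf : 𝒮.edge z f := C.edge_r 1 (by omega)
  have hzx : ¬ 𝒮.V z ≤ 𝒮.Q x := (C.cover_at (i := 0) le_rfl (by simpa using hc)).1
  obtain ⟨T', hT', hoppx⟩ := 𝒮.exists_opp x e hxe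
  obtain ⟨hv', hhv, hev⟩ := hH.trans x e T' hxe hT'
  have hmT' : 𝒮.edge (𝒮.mv hv' m) T' := hev ▸ 𝒮.edge_mv hv' m e hme
  have h13 : ¬ 𝒮.V (𝒮.mv hv' m) ≤ 𝒮.Q m := fun h =>
    hv (rel_of_shift C hc hme hT' hoppx hhv hev (by simpa using h))
  set D := chain2 hB hmT' hT' hxe hme with hD
  have h31 : ¬ 𝒮.V m ≤ 𝒮.Q (𝒮.mv hv' m) := (D.cover_at (i := 0) le_rfl h13).1
  set E := chain2 hB hme hxe hT' hmT' with hE
  have hnr : ¬ Rel 𝒮 m x := hmid E rfl h31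
  obtain ⟨T'', hT'', hoppm⟩ := 𝒮.exists_opp m e hme
  obtain ⟨hm', hhm, hem⟩ := hH.trans m e T'' hme hT''
  have hxT'' : 𝒮.edge (𝒮.mv hm' x) T'' := hem ▸ 𝒮.edge_mv hm' x e hxe
  have h42 : ¬ 𝒮.V (𝒮.mv hm' x) ≤ 𝒮.Q x := fun h => hnr (rel_of_shift E h31 hxe hT'' hoppm hhm hem h)
  set F := chain2 hB hxT'' hT'' hme hxe with hF
  have h24 : ¬ 𝒮.V x ≤ 𝒮.Q (𝒮.mv hm' x) := (F.cover_at (i := 0) le_rfl h42).1
  refine ⟨{
    c := fun i => match i with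
      | 0 => 𝒮.mv hv' z | 1 => 𝒮.mv hv' m | 2 => x | 3 => m | 4 => 𝒮.mv hm' x | _ => 𝒮.mv hm' (𝒮.mv hv' m)
    e := fun i => match i with
      | 0 => cj hv' f | 1 => T' | 2 => e | 3 => T'' | _ => cj hm' T'
    edge_l := ?_, edge_r := ?_, hb := by omega, hL := by omega, below := hB }, rfl, ?_, ?_⟩
  · intro i hi
    match i, hi with
    | 0, _ => exact 𝒮.edge_mv hv' z f hzf
    | 1, _ => exact hmT'
    | 2, _ => exact hxe
    | 3, _ => exact hT''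
    | 4, _ => exact 𝒮.edge_mv hm' x T' hT'
  · intro i hi
    match i, hi with
    | 0, _ => exact 𝒮.edge_mv hv' m f hmf
    | 1, _ => exact hT'
    | 2, _ => exact hme
    | 3, _ => exact hxT''
    | 4, _ => exact 𝒮.edge_mv hm' _ T' hmT'
  · intro i hi
    match i, hi with
    | 0, _ =>
      show ¬ 𝒮.V (𝒮.mv hv' z) ≤ 𝒮.Q x
      rw [𝒮.V_mv, ← cj_Q hxe hhv, cj_le_cj]
      exact hzx
    | 1, _ => exact h13
    | 2, _ => exact h24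
    | 3, _ =>
      show ¬ 𝒮.V m ≤ 𝒮.Q (𝒮.mv hm' (𝒮.mv hv' m))
      rw [𝒮.Q_mv, ← cj_V hme hhm, cj_le_cj]
      exact h31
  · rintro i (rfl | rfl)
    · exact hoppx.symm
    · exact hoppm

/-- When the second vertex of every critical chain has a partner, `b < 3`. -/
theorem lt_three_of_next (hH : Homog 𝒮) {κ : Type*} [Finite κ] {key : 𝒮.α → κ} (hK : Keyed 𝒮 key) {b : ℕ}
    (hB : 𝒮.Below b) {o : 𝒮.α} (ho : Ep 𝒮 b o)
    (hnext : ∀ C : Chain 𝒮 b b, ¬ 𝒮.V (C.c 0) ≤ 𝒮.Q (C.c b) → Ep 𝒮 b (C.c 1)) : b < 3 := by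
  classical
  by_contra h3
  push Not at h3
  let EP : Type v := {x : 𝒮.α // Ep 𝒮 b x}
  let C₀ : EP → Chain 𝒮 b b := fun x => Classical.choose (exists_crit (by omega) hB x.2)
  have hC₀ : ∀ x : EP, (C₀ x).c 0 = x.1 ∧ ¬ 𝒮.V ((C₀ x).c 0) ≤ 𝒮.Q ((C₀ x).c b) := fun x =>
    Classical.choose_spec (exists_crit (by omega) hB x.2)
  let kp : EP → κ := fun x => key x.1
  let rep : Set.range kp → EP := fun k => Classical.choose k.2
  have hrep : ∀ k : Set.range kp, key (rep k).1 = k := fun k => Classical.choose_spec k.2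
  let next : Set.range kp → Set.range kp := fun k =>
    ⟨key ((C₀ (rep k)).c 1), ⟨⟨_, hnext _ (hC₀ (rep k)).2⟩, rfl⟩⟩
  -- a nonempty set of kinds mapped onto itself
  obtain ⟨K, ⟨⟨k₀, hk₀⟩, hK1⟩, hK2⟩ := Set.Finite.exists_minimal
    (s := {K : Set (Set.range kp) | K.Nonempty ∧ next '' K ⊆ K}) (Set.toFinite _)
    ⟨Set.univ, ⟨⟨key o, ⟨⟨o, ho⟩, rfl⟩⟩, trivial⟩, Set.subset_univ _⟩
  have hKeq : K ⊆ next '' K := hK2 ⟨⟨_, ⟨k₀, hk₀, rfl⟩⟩, Set.image_mono hK1⟩ hK1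
  let μ : 𝒮.α → Prop := fun x => ∃ h : key x ∈ Set.range kp, (⟨key x, h⟩ : Set.range kp) ∈ K
  have hμk : ∀ k ∈ K, ∀ x, key x = (k : κ) → μ x := fun k hk x e =>
    ⟨e ▸ k.2, by convert hk⟩
  have hμmv : ∀ g x, μ x → μ (𝒮.mv g x) := fun g x ⟨h, hx⟩ => hμk _ hx _ (hK.key_mv g x)
  have halive : ∀ x T, 𝒮.edge x T → μ x →
      ¬ 𝒮.H x ≤ normalizer ((⨆ u : {u : 𝒮.α // 𝒮.edge u T ∧ μ u}, 𝒮.V u : Subgroup Γ) : Set Γ) := by
    rintro x T hxT ⟨_, hx⟩ hn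
    obtain ⟨k, hk, hkx⟩ := hKeq hx
    have hk1 : key ((C₀ (rep k)).c 1) = key x := congrArg Subtype.val hkx
    obtain ⟨g, hg⟩ := hK.same _ _ hk1
    -- the system with this marking and the trivial liveness at the other vertices
    set C := C₀ (rep k) with hC
    have hc := (hC₀ (rep k)).2
    have hm : μ (C.c 0) := hμk k hk _ (by rw [hC, (hC₀ _).1, hrep])
    let W : Subgroup Γ → Subgroup Γ := fun T => ⨆ u : {u : 𝒮.α // 𝒮.edge u T ∧ μ u}, 𝒮.V u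
    have hWle : ∀ {u T}, 𝒮.edge u T → μ u → 𝒮.V u ≤ W T := fun {u T} h1 h2 =>
      le_iSup (fun u : {u : 𝒮.α // 𝒮.edge u T ∧ μ u} => 𝒮.V u) ⟨u, h1, h2⟩
    have hkey : ∀ (g : Γ) (T : Subgroup Γ), cj g (W T) ≤ W (cj g T) := by
      intro g T
      rw [cj, Subgroup.map_le_iff_le_comap]
      refine iSup_le fun u => ?_
      rw [← Subgroup.map_le_iff_le_comap]
      exact (𝒮.V_mv g u).symm.le.trans (hWle (𝒮.edge_mv g u T u.2.1) (hμmv g u u.2.2))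
    have hWeq : ∀ (g : Γ) (T : Subgroup Γ), cj g (W T) = W (cj g T) := fun g T => by
      refine le_antisymm (hkey g T) ?_
      rw [← cj_le_cj (g := g⁻¹), cj_inv_cj]
      exact (hkey g⁻¹ (cj g T)).trans (by rw [cj_inv_cj])
    have hL : b ≤ b := le_rfl
    have hx' : 𝒮.edge x (cj g (C.e 0)) := (hg.edge _).mp (𝒮.edge_mv g _ _ (C.edge_r 0 (by omega)))
    obtain ⟨h, hh, hhe⟩ := hH.trans x T _ hxT hx'
    have hW1 : W (cj g (C.e 0)) = W T := by rw [hhe, ← hWeq, cj_eq_self (hn hh)]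
    have hn' : 𝒮.H (C.c 1) ≤ normalizer (W (C.e 0) : Set Γ) := by
      intro a ha
      refine mem_normalizer_of_conj fun y hy => ?_
      have ha' : g * a * g⁻¹ ∈ normalizer (W T : Set Γ) := hn (by
        rw [← hg.H, hH.H_mv]; exact conj_mem_cj ha)
      have hy' : g * y * g⁻¹ ∈ W T := by rw [← hW1, ← hWeq]; exact conj_mem_cj hy
      have h2 := conj_mem ha' hy'
      rw [← hW1, ← hWeq, mem_cj] at h2
      simpa [mul_assoc] using h2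
    obtain ⟨h', hh', he'⟩ := hH.trans _ _ _ (C.edge_r 0 (by omega)) (C.edge_l 1 (by omega))
    refine hc ((hWle (C.edge_l 0 (by omega)) hm).trans ?_)
    rw [← cj_eq_self (hn' hh'), hWeq, ← he']
    exact iSup_le fun u => C.near_adj u.2.1 (C.edge_r 1 (by omega)) (i := 2) (j := b) (by omega) hL (by omega)
  let 𝒰 : Sys.{w, v} Γ p := { 𝒮 with mem := μ, mem_mv := hμmv, alive := halive }
  have hreach : ∀ (n : ℕ) (x y : 𝒮.α), 𝒰.Reach n x y → 𝒮.Reach n x y := by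
    intro n
    induction n with
    | zero => intro x y h; exact h
    | succ n ih => rintro x y ⟨z, hz, hzy⟩; exact ⟨z, hz, ih z y hzy⟩
  set C := C₀ (rep k₀) with hC
  let D : Chain 𝒰 b b :=
    ⟨C.c, C.e, C.edge_l, C.edge_r, C.hb, le_rfl, fun n hn x y hxy => hB n hn x y (hreach n x y hxy)⟩
  have hm : 𝒰.mem (D.c 0) := hμk k₀ hk₀ _ (by show key ((C₀ (rep k₀)).c 0) = _; rw [(hC₀ _).1, hrep])
  exact no_long (Classical.choice (exists_line D (hC₀ (rep k₀)).2 hm (3 * b) (by omega))) h3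

/-- When every vertex has a partner, `b < 3`. -/
theorem lt_three (hH : Homog 𝒮) {κ : Type*} [Finite κ] {key : 𝒮.α → κ} (hK : Keyed 𝒮 key) {b : ℕ}
    (hB : 𝒮.Below b) (hall : ∀ x, Ep 𝒮 b x) (o : 𝒮.α) : b < 3 :=
  lt_three_of_next hH hK hB (hall o) fun _ _ => hall _

end CfsgLib.PushPair
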