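import Mathlib
import Cfsg.Prelude.Def_BaumannBlocks
import Cfsg.Agent.Lib.PushUp.Summary

/-!
All pushing up groups over one `p`-group, inside one symmetric group.
-/

set_option autoImplicit false
set_option linter.unusedSectionVars false

namespace CfsgLib.PushPair

open Cfsg Subgroup CfsgLib.PushUp CfsgLib.PushRankOne

universe u

/-- A group in the pushing-up situation with Sylow subgroup `S`. -/
structure Sit (p : ℕ) [Fact p.Prime] (S : Type u) [Group S] where
  G : Type u
  [grp : Group G]
  [fin : Finite G]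
  τ : S →* G
  inj : Function.Injective τ
  P : Sylow p G
  range_eq : (P : Subgroup G) = τ.range
  setting : Setting P
  uniq : ∃! M : Subgroup G, IsCoatom M ∧ (P : Subgroup G) ≤ M
  psl : ∃ (F : Type) (_ : Field F) (_ : Fintype F) (_ : CharP F p)
    (f : G →* Matrix.ProjectiveSpecialLinearGroup (Fin 2) F), Function.Surjective f

attribute [instance] Sit.grp Sit.fin

/-- A situation in which the centre of `S` is not normal. -/
structure Member (p : ℕ) [Fact p.Prime] (S : Type u) [Group S] extends Sit p S where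
  mild : Mild P

variable {p : ℕ} [Fact p.Prime] {S : Type u} [Group S]

theorem Sit.exists_coords (m : Sit p S) :
    ∃ (g : m.G) (F : Type) (_ : Field F) (_ : Fintype F) (_ : CharP F p)
      (f : m.G →* Matrix.ProjectiveSpecialLinearGroup (Fin 2) F),
      Opp ⊤ (pCore p m.G) (m.P : Subgroup m.G) (cj g (m.P : Subgroup m.G)) ∧
      Coords p F (pCore p m.G) (m.P : Subgroup m.G) (cj g (m.P : Subgroup m.G)) f := by
  classical
  obtain ⟨F, _, _, _, f₀, hf⟩ := m.psl
  haveI : Finite (Matrix.ProjectiveSpecialLinearGroup (Fin 2) F) := Quotient.finite _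
  obtain ⟨g, hg⟩ := CfsgLib.PushUp.exists_opp m.setting m.uniq (sylowShape (F := F) p) f₀ hf
  obtain ⟨f, hC⟩ := exists_coords_of m.setting m.uniq f₀ hf hg ⟨g, rfl⟩
  exact ⟨g, F, inferInstance, inferInstance, inferInstance, f, hg, hC⟩

theorem Sit.exists_opp (m : Sit p S) :
    ∃ g : m.G, Opp ⊤ (pCore p m.G) (m.P : Subgroup m.G) (cj g (m.P : Subgroup m.G)) := by
  obtain ⟨g, F, _, _, _, f, hg, -⟩ := m.exists_coords
  exact ⟨g, hg⟩

theorem Sit.mem_P (m : Sit p S) {x : m.G} : x ∈ (m.P : Subgroup m.G) ↔ ∃ s, m.τ s = x := by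
  rw [m.range_eq]; exact MonoidHom.mem_range

theorem Sit.τ_mem (m : Sit p S) (s : S) : m.τ s ∈ (m.P : Subgroup m.G) := m.mem_P.mpr ⟨s, rfl⟩

theorem Sit.card_P (m : Sit p S) : Nat.card (m.P : Subgroup m.G) = Nat.card S := by
  rw [m.range_eq, MonoidHom.range_eq_map, Subgroup.card_map_of_injective m.inj, Subgroup.card_top]

/-- The fixed points of the Sylow subgroup on `S`. -/
theorem Sit.center_iff (m : Sit p S) {s : S} :
    m.τ s ∈ centralizer ((m.P : Subgroup m.G) : Set m.G) ↔ s ∈ center S := by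
  constructor
  · exact fun h => Subgroup.mem_center_iff.mpr fun t => m.inj (by
      rw [map_mul, map_mul]; exact h _ (m.τ_mem t))
  · intro h x hx
    obtain ⟨t, rfl⟩ := m.mem_P.mp hx
    rw [← map_mul, ← map_mul, Subgroup.mem_center_iff.mp h t]

variable (S) in
/-- A bound on the number of orbits of `S` on the groups. -/
noncomputable def deg : ℕ := (Nat.card S * Nat.card S ^ Nat.card S).factorial

variable (S) in
/-- The common set. -/
abbrev Pts : Type u := S × Fin (deg S)

/-- The regular action of `S`. -/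
def lam : S →* Equiv.Perm (Pts S) where
  toFun s := Equiv.prodCongr (Equiv.mulLeft s) (Equiv.refl _)
  map_one' := by ext x <;> simp
  map_mul' a b := by ext x <;> simp [mul_assoc]

theorem lam_apply (s : S) (x : Pts S) : lam s x = (s * x.1, x.2) := rfl

theorem lam_injective : Function.Injective (lam : S →* Equiv.Perm (Pts S)) := by
  intro a b h
  have h1 : 0 < deg S := Nat.factorial_pos _
  have := congrArg (fun e : Equiv.Perm (Pts S) => (e (1, ⟨0, h1⟩)).1) h
  simpa [lam_apply] using this

variable (S) in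
/-- The regular image of `S`. -/
abbrev base : Subgroup (Equiv.Perm (Pts S)) := (lam : S →* Equiv.Perm (Pts S)).range

/-- The permutation inducing an automorphism of `S`. -/
def autPerm (φ : S ≃* S) : Equiv.Perm (Pts S) := Equiv.prodCongr φ.toEquiv (Equiv.refl _)

theorem autPerm_conj (φ : S ≃* S) (s : S) : autPerm φ * lam s * (autPerm φ)⁻¹ = lam (φ s) := by
  rw [mul_inv_eq_iff_eq_mul]
  ext x <;> simp [autPerm, lam_apply]

variable [Finite S]

theorem cj_autPerm (φ : S ≃* S) : cj (autPerm φ) (base S) = base S := by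
  refine Subgroup.eq_of_le_of_card_ge ?_ (Subgroup.card_map_of_injective (MulEquiv.injective _)).ge
  rintro _ ⟨_, ⟨s, rfl⟩, rfl⟩
  exact ⟨φ s, (autPerm_conj φ s).symm⟩

theorem Sit.index_dvd (m : Sit p S) : (m.P : Subgroup m.G).index ∣ deg S := by
  refine Nat.dvd_factorial (Nat.pos_of_ne_zero Subgroup.index_ne_zero_of_finite) ?_
  refine (Nat.le_of_dvd Nat.card_pos (Subgroup.index_dvd_card _)).trans ?_
  have hQ : Nat.card (pCore p m.G) ≤ Nat.card S := m.card_P ▸ Subgroup.card_le_of_le m.setting.core_le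
  set φ : m.G →* MulAut (pCore p m.G) := MulAut.conjNormal with hφ
  have hker : φ.ker ≤ pCore p m.G := fun g hg => m.setting.charP fun q hq => by
    have h1 := congrArg Subtype.val (DFunLike.congr_fun (MonoidHom.mem_ker.mp hg) ⟨q, hq⟩)
    simp only [hφ, MulAut.conjNormal_apply, MulAut.one_apply] at h1
    exact (mul_inv_eq_iff_eq_mul.mp h1).symm
  have haut : Nat.card φ.range ≤ Nat.card S ^ Nat.card S :=
    calc Nat.card φ.range ≤ Nat.card (MulAut (pCore p m.G)) := Subgroup.card_le_card_group _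
      _ ≤ Nat.card (↥(pCore p m.G) → ↥(pCore p m.G)) :=
          Nat.card_le_card_of_injective _ DFunLike.coe_injective
      _ = Nat.card (pCore p m.G) ^ Nat.card (pCore p m.G) := Nat.card_fun
      _ ≤ Nat.card (pCore p m.G) ^ Nat.card S := Nat.pow_le_pow_right Nat.card_pos hQ
      _ ≤ _ := Nat.pow_le_pow_left hQ _
  rw [← φ.ker.card_mul_index, Subgroup.index_ker]
  exact Nat.mul_le_mul ((Subgroup.card_le_of_le hker).trans hQ) haut

/-- Every situation acts on the common set, extending the regular action. -/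
theorem Sit.exists_emb (m : Sit p S) :
    ∃ e : m.G →* Equiv.Perm (Pts S), Function.Injective e ∧ ∀ s, e (m.τ s) = lam s := by
  classical
  set H := (m.P : Subgroup m.G) with hH
  obtain ⟨M, hM⟩ := m.index_dvd
  have hM0 : 0 < M := by
    rcases Nat.eq_zero_or_pos M with h | h
    · exact absurd (hM.trans (by rw [h, mul_zero])) (Nat.factorial_pos _).ne'
    · exact h
  haveI : Fintype (m.G ⧸ H) := Fintype.ofFinite _
  obtain ⟨σ⟩ : Nonempty (Fin (deg S) ≃ (m.G ⧸ H) × Fin M) := by
    refine ⟨Fintype.equivOfCardEq ?_⟩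
    rw [Fintype.card_fin, Fintype.card_prod, Fintype.card_fin, hM, ← Nat.card_eq_fintype_card]
    rfl
  let θ : Pts S → m.G × Fin M := fun x => (m.τ x.1 * (σ x.2).1.out⁻¹, (σ x.2).2)
  have hinj : Function.Injective θ := by
    rintro ⟨a, k⟩ ⟨b, l⟩ h
    obtain ⟨h1, h2⟩ := Prod.ext_iff.mp h
    simp only [θ] at h1 h2
    have h3 : (σ k).1 = (σ l).1 := by
      rw [← QuotientGroup.out_eq' (σ k).1, ← QuotientGroup.out_eq' (σ l).1, QuotientGroup.eq]
      have e : (σ k).1.out⁻¹ * (σ l).1.out = (m.τ a)⁻¹ * m.τ b := by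
        rw [show (σ k).1.out⁻¹ = (m.τ a)⁻¹ * (m.τ b * (σ l).1.out⁻¹) by rw [← h1]; group]
        group
      rw [e]
      exact H.mul_mem (H.inv_mem (m.τ_mem a)) (m.τ_mem b)
    have hkl : k = l := σ.injective (Prod.ext h3 h2)
    subst hkl
    exact Prod.ext (m.inj (mul_right_cancel h1)) rfl
  have hcard : Nat.card (Pts S) = Nat.card (m.G × Fin M) := by
    rw [Nat.card_prod, Nat.card_prod, Nat.card_fin, Nat.card_fin, hM, ← m.card_P, ← hH,
      ← H.card_mul_index, mul_assoc]
  have hbij : Function.Bijective θ := (Nat.bijective_iff_injective_and_card θ).mpr ⟨hinj, hcard⟩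
  let eθ := Equiv.ofBijective θ hbij
  let act : m.G →* Equiv.Perm (m.G × Fin M) :=
    { toFun := fun g => Equiv.prodCongr (Equiv.mulLeft g) (Equiv.refl _)
      map_one' := by ext x <;> simp
      map_mul' := fun a b => by ext x <;> simp [mul_assoc] }
  refine ⟨(eθ.symm.permCongrHom.toMonoidHom).comp act, ?_, fun s => ?_⟩
  · intro a b h
    have h1 : act a = act b := eθ.symm.permCongrHom.injective h
    have h2 := congrArg (fun e : Equiv.Perm (m.G × Fin M) => (e (1, ⟨0, hM0⟩)).1) h1
    simpa [act] using h2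
  · refine Equiv.ext fun x => eθ.injective ?_
    show eθ (eθ.symm (act (m.τ s) (eθ.symm.symm x))) = eθ (lam s x)
    rw [Equiv.apply_symm_apply, Equiv.symm_symm]
    show (m.τ s * (m.τ x.1 * (σ x.2).1.out⁻¹), (σ x.2).2) = (m.τ (s * x.1) * (σ x.2).1.out⁻¹, (σ x.2).2)
    rw [map_mul, mul_assoc]

/-- The embedding of a member in the common symmetric group. -/
noncomputable def Sit.emb (m : Sit p S) : m.G →* Equiv.Perm (Pts S) := Classical.choose m.exists_emb

theorem Sit.emb_injective (m : Sit p S) : Function.Injective m.emb := (Classical.choose_spec m.exists_emb).1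

theorem Sit.emb_τ (m : Sit p S) (s : S) : m.emb (m.τ s) = lam s := (Classical.choose_spec m.exists_emb).2 s

theorem Sit.emb_comp (m : Sit p S) : m.emb.comp m.τ = (lam : S →* Equiv.Perm (Pts S)) := MonoidHom.ext m.emb_τ

theorem Sit.map_P (m : Sit p S) : (m.P : Subgroup m.G).map m.emb = base S := by
  rw [m.range_eq, MonoidHom.map_range, m.emb_comp]

theorem Sit.map_τ (m : Sit p S) (X : Subgroup S) : (X.map m.τ).map m.emb = X.map lam := by
  rw [Subgroup.map_map, m.emb_comp]

end CfsgLib.PushPair
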