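import Mathlib
import Cfsg.Agent.Lib.RankFrattini
import Cfsg.Agent.Lib.PushPair.Member

/-!
What one member says about the Frattini layers of `S`.
-/

set_option autoImplicit false
set_option linter.unusedSectionVars false

namespace CfsgLib.PushPair

open Cfsg Subgroup CfsgLib.PushUp CfsgLib.PushRankOne CfsgLib.PSL2
open scoped commutatorElement

universe u

section OneLike

variable {G : Type u} [Group G] [Finite G] {p : ℕ} [Fact p.Prime] {P : Sylow p G}

/-- One noncentral factor: the residual moves the core into the module. -/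
structure OneLike (P : Sylow p G) (X : Subgroup G) : Prop where
  res : ∀ n ∈ pCore p G, ∀ r ∈ Cfsg.pResidual p G, r * n * r⁻¹ * n⁻¹ ∈ vmod P
  le : X ≤ (P : Subgroup G)
  sup : X ⊔ pCore p G = (P : Subgroup G)
  abel : ∀ a ∈ X, ∀ b ∈ X, a * b = b * a
  elem : ∀ a ∈ X, a ^ p = 1

/-- For odd `p` the core is the module times the fixed points of the residual. -/
theorem OneLike.split_core {X : Subgroup G} (h : OneLike P X) (hS : Setting P) (hd : Mild P) (hp : p ≠ 2)
    {g : G} (hopp : Opp ⊤ (pCore p G) (P : Subgroup G) (cj g (P : Subgroup G)))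
    {F : Type} [Field F] [Fintype F] [CharP F p] {f : G →* Matrix.ProjectiveSpecialLinearGroup (Fin 2) F}
    (C : Coords p F (pCore p G) (P : Subgroup G) (cj g (P : Subgroup G)) f) {q : G} (hq : q ∈ pCore p G) :
    ∃ v ∈ vmod P, ∃ w ∈ pCore p G, w ∈ centralizer (Cfsg.pResidual p G : Set G) ∧ v * w = q := by
  have hV := vmod_mdl hS hd
  haveI : (vmod P).Normal := normalClosure_normal
  haveI : (zc P).Normal := Subgroup.normal_inf_normal _ _
  obtain ⟨ρ, φ, hsect, hρ, hρS, -, -⟩ := exists_sect_vmod hS hd hopp ⟨g, rfl⟩ C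
  have hkill : ∀ r : G, (orderOf r).Coprime p → ∀ w ∈ pCore p G, r * w * r⁻¹ * w⁻¹ ∈ zc P →
      r * w = w * r := by
    intro r hr w hw hz
    have h0 : r * w * r⁻¹ * w⁻¹ ∈ (⊥ : Subgroup G) := push_down (q := w) hr (by group)
      (exists_pow_mem_of_mem_core hS _ (hV.le hz.1))
      (by rw [Subgroup.mem_bot, Subgroup.mem_center_iff.mp hz.2 r, mul_inv_cancel_right, mul_inv_cancel])
    rw [Subgroup.mem_bot, mul_inv_eq_one, mul_inv_eq_iff_eq_mul] at h0
    exact h0
  have hker : ρ.ker = pCore p G := by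
    refine ker_eq_core hS C hρS (fun r hr hρr w hw => ?_) (fun w hw => ?_)
    · refine hkill r hr w hw ?_
      have hd1 := h.res w hw r (Subgroup.subset_closure hr)
      set d := r * w * r⁻¹ * w⁻¹ with hdd
      refine push_down (q := w) hr (by rw [hdd]; group) (exists_pow_mem_of_mem_core hS _ (hV.le hd1))
        ((hsect.ker _ (hV.comm_mem hd1 r)).mp ?_)
      rw [hsect.map_comm r hd1, hρr, Matrix.SpecialLinearGroup.coe_one, Matrix.one_mulVec, sub_self]
    · refine MonoidHom.mem_ker.mpr (sl_eq_of_mulVec fun x => ?_)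
      obtain ⟨y, hy, rfl⟩ := hsect.onto x
      rw [← hsect.equiv w y hy, show w * y = y * w from hV.cent y hy w hw, mul_inv_cancel_right,
        Matrix.SpecialLinearGroup.coe_one, Matrix.one_mulVec]
  -- a coprime element acting as minus one
  obtain ⟨r₀, hr₀⟩ := hρ (-1)
  obtain ⟨k, hk⟩ := CfsgLib.PResidual.exists_pow_coprime (p := p) r₀
  set r := r₀ ^ p ^ k with hr
  have hρr : ρ r = -1 := by
    rw [hr, map_pow, hr₀]
    exact Odd.neg_one_pow (Odd.pow ((Fact.out : p.Prime).odd_of_ne_two hp))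
  have hφr : ∀ y ∈ vmod P, φ (r * y * r⁻¹) = -φ y := fun y hy => by
    rw [hsect.equiv r y hy, hρr, Matrix.SpecialLinearGroup.coe_neg, Matrix.SpecialLinearGroup.coe_one,
      Matrix.neg_mulVec, Matrix.one_mulVec]
  have h2 : (2 : F) ≠ 0 := by
    intro h0
    have h' : ((2 : ℕ) : F) = 0 := by exact_mod_cast h0
    exact hp ((Nat.prime_dvd_prime_iff_eq (Fact.out : p.Prime) Nat.prime_two).mp ((CharP.cast_eq_zero_iff F p 2).mp h'))
  have hrR : r ∈ Cfsg.pResidual p G := Subgroup.subset_closure hk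
  set d := r * q * r⁻¹ * q⁻¹ with hdd
  have hd1 : d ∈ vmod P := h.res q hq r hrR
  obtain ⟨v, hv, hvd⟩ := hsect.onto ((-(2 : F)⁻¹) • φ d)
  set w := v⁻¹ * q with hw
  have hwQ : w ∈ pCore p G := mul_mem (inv_mem (hV.le hv)) hq
  have hrw : r * w = w * r := by
    refine hkill r hk w hwQ ?_
    have e : r * w * r⁻¹ * w⁻¹ = (r * v * r⁻¹)⁻¹ * d * v := by rw [hdd, hw]; group
    have hrv : r * v * r⁻¹ ∈ vmod P := hV.mem_conj hv r
    rw [e]
    refine (hsect.ker _ (mul_mem (mul_mem (inv_mem hrv) hd1) hv)).mp ?_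
    rw [hsect.mul _ (mul_mem (inv_mem hrv) hd1) _ hv, hsect.mul _ (inv_mem hrv) _ hd1, hsect.map_inv hrv,
      hφr v hv, hvd]
    funext i
    simp only [Pi.add_apply, Pi.neg_apply, Pi.smul_apply, smul_eq_mul, Pi.zero_apply, neg_neg]
    field_simp
    ring
  refine ⟨v, hv, w, hwQ, ?_, by rw [hw, mul_inv_cancel_left]⟩
  -- the residual centralizes `w`
  haveI : (Cfsg.pResidual p G).Normal := CfsgLib.PResidual.pResidual_normal
  have hgen : Cfsg.pResidual p G ≤ centralizer {w} := by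
    refine (Subgroup.closure_le _).mpr fun x hx => ?_
    rw [SetLike.mem_coe, mem_centralizer_singleton_iff]
    have hxR : x ∈ Cfsg.pResidual p G := Subgroup.subset_closure hx
    refine hkill x hx w hwQ ?_
    set e := x * w * x⁻¹ * w⁻¹ with he
    have he1 : e ∈ vmod P := h.res w hwQ x hxR
    set x' := r * x * r⁻¹ with hx'
    set c := x'⁻¹ * x with hc
    have hcQ : c ∈ pCore p G := by
      rw [← hker, MonoidHom.mem_ker, hc, hx']
      simp only [map_mul, map_inv, hρr]
      simp [mul_assoc]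
    have hre : r * e * r⁻¹ = x' * w * x'⁻¹ * w⁻¹ := by
      have hrwi : r * w⁻¹ * r⁻¹ = w⁻¹ := by
        rw [(show Commute r w from hrw).inv_right.eq, mul_inv_cancel_right]
      calc r * e * r⁻¹ = (r * x * r⁻¹) * (r * w * r⁻¹) * (r * x * r⁻¹)⁻¹ * (r * w⁻¹ * r⁻¹) := by rw [he]; group
        _ = _ := by rw [hrwi, hrw, mul_inv_cancel_right]
    have hfix := res_comm_core hS hd le_rfl h.res (c * w * c⁻¹ * w⁻¹)
      (Subgroup.commutator_mem_commutator hcQ hwQ)
    have hce : e = c * w * c⁻¹ * w⁻¹ * (r * e * r⁻¹) := by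
      have hx'R : x' ∈ Cfsg.pResidual p G := mul_mem (mul_mem hrR hxR) (inv_mem hrR)
      have h1 := hfix x' hx'R
      rw [hre]
      calc e = x' * (c * w * c⁻¹ * w⁻¹) * x'⁻¹ * (x' * w * x'⁻¹ * w⁻¹) := by rw [he, hc]; group
        _ = _ := by rw [h1, mul_inv_cancel_right]
    have hz : c * w * c⁻¹ * w⁻¹ ∈ zc P := by
      have hmem : c * w * c⁻¹ * w⁻¹ ∈ vmod P := by
        have e2 : c * w * c⁻¹ * w⁻¹ = e * (r * e * r⁻¹)⁻¹ := eq_mul_inv_of_mul_eq hce.symm
        rw [e2]
        exact mul_mem he1 (inv_mem (hV.mem_conj he1 r))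
      refine mem_of_res_fixed (p := p) hsect hρ hmem fun s hs => ?_
      rw [hfix s hs, mul_inv_cancel_right, mul_inv_cancel]
      exact one_mem _
    refine (hsect.ker e he1).mp ?_
    have h3 := congrArg φ hce
    rw [hsect.mul _ hz.1 _ (hV.mem_conj he1 r), (hsect.ker _ hz.1).mpr hz, zero_add, hφr e he1] at h3
    funext i
    have h4 := congrFun h3 i
    simp only [Pi.neg_apply] at h4
    exact (mul_eq_zero.mp (show (2 : F) * φ e i = 0 by linear_combination h4)).resolve_left h2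
  exact fun y hy => (mem_centralizer_singleton_iff.mp (hgen hy))

end OneLike

variable {p : ℕ} [Fact p.Prime] {S : Type u} [Group S] [Finite S]

/-- The elements of `S` centralized by the residual of a situation. -/
def Sit.fix (m : Sit p S) : Subgroup S := (centralizer (Cfsg.pResidual p m.G : Set m.G)).comap m.τ

instance (m : Sit p S) : m.fix.Normal := by
  haveI : (Cfsg.pResidual p m.G).Normal := CfsgLib.PResidual.pResidual_normal
  haveI : (centralizer (Cfsg.pResidual p m.G : Set m.G)).Normal := inferInstance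
  exact Subgroup.Normal.comap inferInstance _

theorem Sit.isPGroup (m : Sit p S) : IsPGroup p S :=
  IsPGroup.of_injective m.P.isPGroup' (m.τ.codRestrict (m.P : Subgroup m.G) m.τ_mem)
    fun _ _ h => m.inj (congrArg Subtype.val h)

/-- A subgroup containing the Frattini subgroup. -/
theorem frattini_le_of_split (hP : IsPGroup p S) (N : Subgroup S) [N.Normal] (A B : Set S)
    (hs : ∀ s, ∃ a ∈ A, ∃ b ∈ B, s⁻¹ * (a * b) ∈ N) (hAA : ∀ a ∈ A, ∀ a' ∈ A, ⁅a, a'⁆ ∈ N)
    (hAB : ∀ a ∈ A, ∀ b ∈ B, ⁅a, b⁆ ∈ N) (hBB : ∀ b ∈ B, ∀ b' ∈ B, ⁅b, b'⁆ ∈ N)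
    (hA : ∀ a ∈ A, a ^ p ∈ N) (hB : ∀ b ∈ B, b ^ p ∈ N) : frattini S ≤ N := by
  set π := QuotientGroup.mk' N
  have hc : ∀ {x y : S}, ⁅x, y⁆ ∈ N → Commute (π x) (π y) := fun {x y} h => by
    have h1 : π ⁅x, y⁆ = 1 := (QuotientGroup.eq_one_iff _).mpr h
    rw [map_commutatorElement, commutatorElement_eq_one_iff_mul_comm] at h1
    exact h1
  have hsplit : ∀ s, ∃ a ∈ A, ∃ b ∈ B, π s = π a * π b := fun s => by
    obtain ⟨a, ha, b, hb, h⟩ := hs s
    exact ⟨a, ha, b, hb, by rw [← map_mul]; exact QuotientGroup.eq.mpr h⟩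
  refine CfsgLib.RankFrattini.frattini_le_of_elementary hP N (fun s t => ?_) fun s => ?_
  · obtain ⟨a, ha, b, hb, hs'⟩ := hsplit s
    obtain ⟨a', ha', b', hb', ht'⟩ := hsplit t
    refine (QuotientGroup.eq_one_iff _).mp ?_
    show π ⁅s, t⁆ = 1
    rw [map_commutatorElement, hs', ht', commutatorElement_eq_one_iff_mul_comm]
    exact (((hc (hAA a ha a' ha')).mul_right (hc (hAB a ha b' hb'))).mul_left
      (((hc (hAB a' ha' b hb)).symm).mul_right (hc (hBB b hb b' hb')))).eq
  · obtain ⟨a, ha, b, hb, hs'⟩ := hsplit s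
    refine (QuotientGroup.eq_one_iff _).mp ?_
    show π (s ^ p) = 1
    rw [map_pow, hs', (hc (hAB a ha b hb)).mul_pow, ← map_pow, ← map_pow,
      show π (a ^ p) = 1 from (QuotientGroup.eq_one_iff _).mpr (hA a ha),
      show π (b ^ p) = 1 from (QuotientGroup.eq_one_iff _).mpr (hB b hb), one_mul]

/-- The demands on the Frattini layers at one member. -/
structure Good (m : Sit p S) : Prop where
  frat : (frattini ↥(frattini S)).map (frattini S).subtype ≤ m.fix
  two : p = 2 → ⁅frattini S, (⊤ : Subgroup S)⁆ ≤ m.fix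
  three : p = 3 → ⁅⁅frattini S, (⊤ : Subgroup S)⁆, (⊤ : Subgroup S)⁆ ≤ m.fix
  big : 3 < p → ⁅frattini S, (⊤ : Subgroup S)⁆ ≤ m.fix ∧ ∀ s : S, s ^ p ∈ m.fix
  half : ∀ a ∈ frattini S, ∀ b : S, ⁅a, b⁆ ∈ center S ⊔ m.fix

variable (m : Member p S)

theorem mem_center_sup_fix {s : S}
    (h : m.τ s ∈ centralizer (Cfsg.pResidual p m.G : Set m.G) ⊔ fx (vmod m.P) (m.P : Subgroup m.G)) :
    s ∈ center S ⊔ m.fix := by
  haveI : (Cfsg.pResidual p m.G).Normal := CfsgLib.PResidual.pResidual_normal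
  obtain ⟨n, hn, z, hz, hnz⟩ := exists_mul (normalizer_top _ _) h
  obtain ⟨c, rfl⟩ := m.mem_P.mp (m.setting.core_le ((vmod_mdl m.setting m.mild).le hz.1))
  have h1 : s * c⁻¹ ∈ m.fix := by
    show m.τ (s * c⁻¹) ∈ centralizer (Cfsg.pResidual p m.G : Set m.G)
    rw [map_mul, map_inv, ← hnz, mul_inv_cancel_right]; exact hn
  rw [show s = s * c⁻¹ * c by group]
  exact mul_mem (mem_sup_right h1) (mem_sup_left (m.center_iff.mp hz.2))

include m in
theorem center_pow {z : S} (hz : z ∈ center S) : z ^ p = 1 := m.inj (by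
  rw [map_pow, map_one]
  exact m.mild.elem _ ⟨m.τ_mem z, m.center_iff.mpr hz⟩)

theorem comm_le_fix {a b : S} (ha : a ∈ center S ⊔ m.fix) : ⁅a, b⁆ ∈ m.fix := by
  obtain ⟨z, hz, f, hf, rfl⟩ := Subgroup.mem_sup_of_normal_right.mp ha
  have hzb : Commute z b := (Subgroup.mem_center_iff.mp hz b).symm
  have hzf : Commute z (f * b * f⁻¹) := (Subgroup.mem_center_iff.mp hz _).symm
  have e : ⁅z * f, b⁆ = ⁅f, b⁆ := by
    rw [commutatorElement_def, commutatorElement_def]
    calc z * f * b * (z * f)⁻¹ * b⁻¹ = (z * (f * b * f⁻¹)) * z⁻¹ * b⁻¹ := by group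
      _ = _ := by rw [hzf.eq, mul_inv_cancel_right]
  rw [e, commutatorElement_def, show f * b * f⁻¹ * b⁻¹ = f * (b * f⁻¹ * b⁻¹) by group]
  exact mul_mem hf ((inferInstance : m.fix.Normal).conj_mem _ (inv_mem hf) b)

/-- The Frattini subgroup is central modulo the fixed points. -/
theorem good_of_half (h : frattini S ≤ center S ⊔ m.fix) (hpow : 3 < p → ∀ s : S, s ^ p ∈ m.fix) :
    Good m.toSit := by
  have h1 : ⁅frattini S, (⊤ : Subgroup S)⁆ ≤ m.fix :=
    Subgroup.commutator_le.mpr fun a ha b _ => comm_le_fix m (h ha)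
  refine ⟨?_, fun _ => h1, fun _ => ?_, fun hp => ⟨h1, hpow hp⟩,
    fun a ha b => mem_sup_right (comm_le_fix m (h ha))⟩
  · refine Subgroup.map_le_iff_le_comap.mpr (CfsgLib.RankFrattini.frattini_le_of_elementary (p := p)
      (m.isPGroup.to_subgroup _) _ (fun a b => ?_) fun a => ?_)
    · show (frattini S).subtype ⁅a, b⁆ ∈ m.fix
      rw [map_commutatorElement]
      exact comm_le_fix m (h a.2)
    · show (frattini S).subtype (a ^ p) ∈ m.fix
      obtain ⟨z, hz, f, hf, hzf⟩ := Subgroup.mem_sup_of_normal_right.mp (h a.2)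
      rw [map_pow, Subgroup.coe_subtype, ← hzf,
        (show Commute z f from (Subgroup.mem_center_iff.mp hz f).symm).mul_pow, center_pow m hz, one_mul]
      exact pow_mem hf p
  · exact (Subgroup.commutator_mono h1 le_rfl).trans (Subgroup.commutator_le_left _ _)

theorem good_of_one {A : Subgroup m.G} (hA : One m.P A) : Good m.toSit := by
  have hS := m.setting
  have hd := m.mild
  have hle : ⁅pCore p m.G, pCore p m.G⁆ ⊔ fx (vmod m.P) (m.P : Subgroup m.G) ≤
      centralizer (Cfsg.pResidual p m.G : Set m.G) ⊔ fx (vmod m.P) (m.P : Subgroup m.G) :=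
    sup_le_sup_right (fun z hz r hr => hA.res_derived hS hd z hz r hr) _
  have hder : ∀ a b : S, ⁅a, b⁆ ∈ center S ⊔ m.fix := fun a b => mem_center_sup_fix m (hle (hA.derived_le hS hd (by
    rw [map_commutatorElement]
    exact Subgroup.commutator_mem_commutator (m.τ_mem a) (m.τ_mem b))))
  refine good_of_half m (frattini_le_of_split m.isPGroup _ (A.comap m.τ) ((pCore p m.G).comap m.τ)
    (fun s => ?_) (fun a _ b _ => hder a b) (fun a _ b _ => hder a b) (fun a _ b _ => hder a b)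
    (fun a ha => ?_) fun b hb => ?_) fun hp s => ?_
  · obtain ⟨a, ha, q, hq, haq⟩ := exists_mul' (X := A) (normalizer_top (pCore p m.G) A) (hA.sup.ge (m.τ_mem s))
    obtain ⟨a', rfl⟩ := m.mem_P.mp (hA.le ha)
    obtain ⟨q', rfl⟩ := m.mem_P.mp (hS.core_le hq)
    refine ⟨a', ha, q', hq, ?_⟩
    rw [show s = a' * q' from m.inj (by rw [map_mul, haq]), inv_mul_cancel]
    exact one_mem _
  · rw [show a ^ p = 1 from m.inj (by rw [map_pow, map_one]; exact hA.elem _ ha)]
    exact one_mem _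
  · refine mem_sup_right ?_
    intro r hr
    rw [map_pow]
    exact hA.res_pow hS hd hb hr
  · intro r hr
    rw [map_pow]
    exact hA.res_pow_odd hS hd (by omega) (m.τ_mem s) hr

theorem good_of_oneLike {X : Subgroup m.G} (hX : OneLike m.P X) (hp : p = 3) : Good m.toSit := by
  have hS := m.setting
  have hd := m.mild
  have hV := vmod_mdl hS hd
  obtain ⟨g, F, _, _, _, f, hopp, C⟩ := m.toSit.exists_coords
  refine good_of_half m (frattini_le_of_split m.isPGroup _ (X.comap m.τ) ((vmod m.P).comap m.τ)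
    (fun s => ?_) (fun a ha b hb => ?_) (fun a ha b hb => ?_) (fun a ha b hb => ?_)
    (fun a ha => ?_) fun b hb => ?_) fun h3 => absurd hp (by omega)
  · obtain ⟨x, hx, q, hq, hxq⟩ := exists_mul' (X := X) (normalizer_top (pCore p m.G) X) (hX.sup.ge (m.τ_mem s))
    obtain ⟨v, hv, w, hwQ, hw, hvw⟩ := hX.split_core hS hd (by omega) hopp C hq
    obtain ⟨a, rfl⟩ := m.mem_P.mp (hX.le hx)
    obtain ⟨b, rfl⟩ := m.mem_P.mp (hS.core_le (hV.le hv))
    obtain ⟨c, rfl⟩ := m.mem_P.mp (hS.core_le hwQ)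
    refine ⟨a, hx, b, hv, mem_sup_right ?_⟩
    have e : s = a * (b * c) := m.inj (by rw [map_mul, map_mul, hvw, hxq])
    rw [e, show (a * (b * c))⁻¹ * (a * b) = c⁻¹ by group]
    exact inv_mem hw
  · rw [show ⁅a, b⁆ = 1 from commutatorElement_eq_one_iff_mul_comm.mpr (m.inj (by
      rw [map_mul, map_mul]; exact hX.abel _ ha _ hb))]
    exact one_mem _
  · refine mem_sup_left (m.center_iff.mp ?_)
    rw [map_commutatorElement, commutatorElement_def]
    exact (flag_top hS hd).quad _ hb _ (m.τ_mem a)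
  · rw [show ⁅a, b⁆ = 1 from commutatorElement_eq_one_iff_mul_comm.mpr (m.inj (by
      rw [map_mul, map_mul]; exact hV.comm _ ha _ hb))]
    exact one_mem _
  · rw [show a ^ p = 1 from m.inj (by rw [map_pow, map_one]; exact hX.elem _ ha)]
    exact one_mem _
  · rw [show b ^ p = 1 from m.inj (by rw [map_pow, map_one]; exact vmod_pow hS hd hb)]
    exact one_mem _

theorem good_of_two {T' X Y A C D : Subgroup m.G} (h : Two m.P T' X Y A C D) : Good m.toSit ∧ p = 3 := by
  have hS := m.setting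
  have hd := m.mild
  obtain ⟨F, _, _, _, f₀, hf₀⟩ := m.psl
  obtain ⟨f, hC⟩ := exists_coords_of hS m.uniq f₀ hf₀ h.opp h.conj
  have hp3 : p = 3 := h.p_eq_three hS hd hC
  refine ⟨?_, hp3⟩
  have hder : ∀ a b : S, ⁅a, b⁆ ∈ (C ⊔ D).comap m.τ := fun a b => by
    show m.τ ⁅a, b⁆ ∈ C ⊔ D
    rw [map_commutatorElement]
    exact h.derived_le' hS hd (Subgroup.commutator_mem_commutator (m.τ_mem a) (m.τ_mem b))
  haveI : ((C ⊔ D).comap m.τ).Normal := ⟨fun x hx y => by
    rw [show y * x * y⁻¹ = ⁅y, x⁆ * x by rw [commutatorElement_def]; group]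
    exact mul_mem (hder y x) hx⟩
  have hcd : ∀ {e : m.G}, e ∈ C ⊔ D → ∃ c ∈ C, ∃ d ∈ D, c * d = e := fun {e} he =>
    exists_mul (fun k hk => mem_normalizer_of_conj fun l hl => by
      rw [(h.CD l hl k hk).symm, mul_inv_cancel_right]; exact hl) he
  have hΦ : frattini S ≤ (C ⊔ D).comap m.τ := by
    refine frattini_le_of_split m.isPGroup _ (X.comap m.τ) (A.comap m.τ) (fun s => ?_)
      (fun a _ b _ => hder a b) (fun a _ b _ => hder a b) (fun a _ b _ => hder a b) (fun a ha => ?_) fun b hb => ?_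
    · obtain ⟨x, hx, q, hq, hxq⟩ := exists_mul' (X := X) (normalizer_top (pCore p m.G) X) (h.X_sup.ge (m.τ_mem s))
      obtain ⟨c, hc, a, ha, d, hd', hcad⟩ := h.split q hq
      obtain ⟨x, rfl⟩ := m.mem_P.mp (h.X_le hx)
      obtain ⟨c, rfl⟩ := m.mem_P.mp (hS.core_le (h.C_le hc))
      obtain ⟨a, rfl⟩ := m.mem_P.mp (hS.core_le (h.A_le ha))
      obtain ⟨d, rfl⟩ := m.mem_P.mp (hS.core_le (h.D_le hd'))
      refine ⟨x, hx, a, ha, ?_⟩
      have e : s = x * (c * a * d) := m.inj (by simp only [map_mul]; rw [hcad, hxq])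
      rw [e, show (x * (c * a * d))⁻¹ * (x * a) = d⁻¹ * (a⁻¹ * c⁻¹ * a⁻¹⁻¹) by group]
      exact mul_mem (inv_mem (show m.τ d ∈ C ⊔ D from mem_sup_right hd'))
        (‹((C ⊔ D).comap m.τ).Normal›.conj_mem _ (inv_mem (show m.τ c ∈ C ⊔ D from mem_sup_left hc)) _)
    · rw [show a ^ p = 1 from m.inj (by rw [map_pow, map_one]; exact h.elemX _ ha)]
      exact one_mem _
    · rw [show b ^ p = 1 from m.inj (by rw [map_pow, map_one]; exact h.elemA _ hb)]
      exact one_mem _
  have hDD : ⁅D, D⁆ ≤ centralizer (Cfsg.pResidual p m.G : Set m.G) :=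
    fun z hz r hr => h.res_derived hS hd z hz r hr
  have hΦS : ∀ a ∈ frattini S, ∀ b : S, ⁅a, b⁆ ∈ center S ⊔ m.fix := fun a ha b => by
    refine mem_center_sup_fix m ?_
    rw [map_commutatorElement, commutatorElement_def]
    exact sup_le (le_sup_right) (hDD.trans le_sup_left) (h.comm_sup hS hd (hΦ ha) (m.τ_mem b))
  refine ⟨?_, fun h2 => by omega, fun _ => ?_, fun h3 => by omega, hΦS⟩
  · refine Subgroup.map_le_iff_le_comap.mpr (CfsgLib.RankFrattini.frattini_le_of_elementary (p := p)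
      (m.isPGroup.to_subgroup _) _ (fun a b => ?_) fun a => ?_)
    · show (frattini S).subtype ⁅a, b⁆ ∈ m.fix
      obtain ⟨c, hc, d, hd', hcd₁⟩ := hcd (hΦ a.2)
      obtain ⟨c', hc', d', hd'', hcd₂⟩ := hcd (hΦ b.2)
      show m.τ ((frattini S).subtype ⁅a, b⁆) ∈ centralizer (Cfsg.pResidual p m.G : Set m.G)
      rw [map_commutatorElement, map_commutatorElement, Subgroup.coe_subtype, ← hcd₁, ← hcd₂, commutatorElement_def]
      have c1 : Commute d c' := (h.CD c' hc' d hd').symm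
      have c2 : Commute c d' := h.CD c hc d' hd''
      have c3 : Commute c c' := h.abelC c hc c' hc'
      have hz : d * d' * d⁻¹ * d'⁻¹ ∈ D :=
        mul_mem (mul_mem (mul_mem hd' hd'') (inv_mem hd')) (inv_mem hd'')
      have e : c * d * (c' * d') * (c * d)⁻¹ * (c' * d')⁻¹ = d * d' * d⁻¹ * d'⁻¹ := by
        calc c * d * (c' * d') * (c * d)⁻¹ * (c' * d')⁻¹
            = c * (d * c') * d' * d⁻¹ * (c⁻¹ * d'⁻¹) * c'⁻¹ := by group
          _ = c * c' * (d * d' * d⁻¹ * d'⁻¹) * (c' * c)⁻¹ := by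
              rw [c1.eq, c2.inv_inv.eq]; group
          _ = _ := by
              rw [← c3.eq, (show Commute (c * c') (d * d' * d⁻¹ * d'⁻¹) from
                Commute.mul_left (h.CD c hc _ hz) (h.CD c' hc' _ hz)).eq, mul_inv_cancel_right]
      rw [e]
      exact hDD (Subgroup.commutator_mem_commutator hd' hd'')
    · show m.τ ((frattini S).subtype (a ^ p)) ∈ centralizer (Cfsg.pResidual p m.G : Set m.G)
      obtain ⟨c, hc, d, hd', hcd₁⟩ := hcd (hΦ a.2)
      rw [map_pow, map_pow, Subgroup.coe_subtype, ← hcd₁, (show Commute c d from h.CD c hc d hd').mul_pow,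
        h.elemC c hc, one_mul]
      intro r hr
      set u := r * d * r⁻¹ * d⁻¹ with hu
      have hu' := h.res_D hS hd d hd' r hr
      have h2 : Commute u d := ((vmod_mdl hS hd).cent u hu' d (h.D_le hd')).symm
      have e : r * d ^ p * r⁻¹ = d ^ p := by
        rw [← conj_pow, show r * d * r⁻¹ = u * d by rw [hu]; group, h2.mul_pow, vmod_pow hS hd hu', one_mul]
      exact mul_inv_eq_iff_eq_mul.mp e
  · refine Subgroup.commutator_le.mpr fun a ha b _ => comm_le_fix m ?_
    exact (Subgroup.commutator_le.mpr fun x hx y _ => hΦS x hx y) ha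

end CfsgLib.PushPair
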