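import Mathlib
import Cfsg.Agent.Lib.PushPair.Graph
import Cfsg.Agent.Lib.PushPair.Local

/-!
At distance two a related pair of neighbours gives one noncentral factor.
-/

set_option autoImplicit false
set_option linter.unusedSectionVars false

namespace CfsgLib.PushPair

open Cfsg Subgroup CfsgLib.PushUp CfsgLib.PushRankOne

universe u w v

variable {G : Type u} [Group G] [Finite G] {p : ℕ} [Fact p.Prime] {P : Sylow p G}
  {Γ : Type w} [Group Γ] [Finite Γ] {𝒮 : Sys.{w, v} Γ p} {ψ : G →* Γ}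

/-- If the residual moves the core into the module, every neighbour is related. -/
theorem rel_of_res {x u : 𝒮.α} {T : Subgroup Γ} (Pu : PullAt P 𝒮 x T ψ)
    (hres : ∀ n ∈ pCore p G, ∀ r ∈ Cfsg.pResidual p G, r * n * r⁻¹ * n⁻¹ ∈ vmod P)
    (hxT : 𝒮.edge x T) (huT : 𝒮.edge u T) (hu : 𝒮.V u ≤ 𝒮.Q x) : Rel 𝒮 x u := by
  obtain ⟨hψ, hH, hQ, hV, hP, -⟩ := Pu
  have Fx := 𝒮.flag x T hxT
  have Fu := 𝒮.flag u T huT
  set N := 𝒮.V x ⊔ 𝒮.V u with hN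
  have hNQ : N ≤ 𝒮.Q x := sup_le Fx.V_le hu
  show 𝒮.H x ≤ normalizer (N : Set Γ)
  rw [← hH, ← res_sup (S := P), Subgroup.map_sup, hP]
  refine sup_le ?_ ?_
  · rintro _ ⟨r, hr, rfl⟩
    refine mem_normalizer_of_conj fun n hn => ?_
    obtain ⟨a, ha, rfl⟩ : n ∈ (pCore p G).map ψ := hQ ▸ hNQ hn
    have h1 : ψ (r * a * r⁻¹ * a⁻¹) ∈ N := mem_sup_left (hV ▸ ⟨_, hres a ha r hr, rfl⟩)
    have e : ψ r * ψ a * (ψ r)⁻¹ = ψ (r * a * r⁻¹ * a⁻¹) * ψ a := by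
      simp only [map_mul, map_inv]; group
    rw [e]; exact mul_mem h1 hn
  · intro t ht
    refine mem_normalizer_of_conj fun n hn => ?_
    have e : cj t N = N := by
      rw [hN, cj_sup, cj_eq_self (Fx.norm_V (Fx.T_le ht)), cj_eq_self (Fu.norm_V (Fu.T_le ht))]
    exact e ▸ conj_mem_cj hn

/-- A related pair at the start of a critical two-step chain gives one noncentral factor. -/
theorem oneLike_of_rel (hHom : Homog 𝒮) (C : Chain 𝒮 2 2) (hc : ¬ 𝒮.V (C.c 0) ≤ 𝒮.Q (C.c 2))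
    (Pu : PullAt P 𝒮 (C.c 0) (C.e 0) ψ) (hS : Setting P) (hd : Mild P) (hrel : Rel 𝒮 (C.c 0) (C.c 1)) :
    ∃ X, OneLike P X := by
  obtain ⟨hψ, hH, hQ, hV, hP, -⟩ := Pu
  have hMdl := vmod_mdl hS hd
  haveI : (vmod P).Normal := normalClosure_normal
  have F0 := C.flag_l (i := 0) (by omega)
  have F1 : Flag p (𝒮.H (C.c 1)) (𝒮.Q (C.c 1)) (𝒮.V (C.c 1)) (C.e 0) := C.flag_r (i := 0) (by omega)
  have F1' : Flag p (𝒮.H (C.c 1)) (𝒮.Q (C.c 1)) (𝒮.V (C.c 1)) (C.e 1) := C.flag_l (by omega)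
  have F2 : Flag p (𝒮.H (C.c 2)) (𝒮.Q (C.c 2)) (𝒮.V (C.c 2)) (C.e 1) := C.flag_r (i := 1) (by omega)
  have hcz : ¬ 𝒮.V (C.c 0) ≤ 𝒮.Q (C.c (0 + 2)) := hc
  obtain ⟨hne, hcov, -⟩ := C.cover_at (i := 0) le_rfl hcz
  simp only [Nat.zero_add] at hne hcov
  have hrange : 𝒮.H (C.c 0) ≤ ψ.range := hH ▸ Subgroup.map_le_range ψ _
  have hmc : ∀ {Z : Subgroup Γ}, Z ≤ 𝒮.H (C.c 0) → (Z.comap ψ).map ψ = Z := fun {Z} hZ => by
    rw [Subgroup.map_comap_eq]; exact inf_eq_right.mpr (hZ.trans hrange)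
  have inj_mem : ∀ {Z : Subgroup G} {W : Subgroup Γ}, Z.map ψ = W → ∀ {x}, ψ x ∈ W ↔ x ∈ Z :=
    fun {Z W} h {x} => by rw [← h]; exact Subgroup.mem_map_iff_mem hψ
  have hy_Q : 𝒮.V (C.c 1) ≤ 𝒮.Q (C.c 0) := C.near (by omega) (by omega) (by omega) (by omega)
  have hx_Q1 : 𝒮.V (C.c 2) ≤ 𝒮.Q (C.c 1) := C.near le_rfl (by omega) (by omega) (by omega)
  have hx_e : 𝒮.V (C.c 2) ≤ C.e 0 := hx_Q1.trans F1.Q_le
  set Y := (𝒮.V (C.c 1)).comap ψ with hY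
  set X := (𝒮.V (C.c 2)).comap ψ with hX
  have hYQ : Y ≤ pCore p G := fun y hy => (inj_mem hQ).mp (hy_Q hy)
  set N := vmod P ⊔ Y with hN
  have hNmap : N.map ψ = 𝒮.V (C.c 0) ⊔ 𝒮.V (C.c 1) := by
    rw [hN, Subgroup.map_sup, hV, hmc (F1.V_le_T.trans F0.T_le)]
  haveI hNn : N.Normal := ⟨fun n hn g => by
    refine (inj_mem hNmap).mp ?_
    rw [map_mul, map_mul, map_inv]
    exact conj_mem (hrel (hH ▸ ⟨g, mem_top g, rfl⟩)) ((inj_mem hNmap).mpr hn)⟩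
  have hNQ : N ≤ pCore p G := sup_le hMdl.le hYQ
  have hcen : ∀ q ∈ pCore p G, ∀ y ∈ Y, q * y * q⁻¹ * y⁻¹ ∈ center G := fun q hq y hy => by
    refine Subgroup.mem_center_iff.mpr fun g => hψ ?_
    have h := rel_central hHom (C.edge_l 0 (by omega)) (C.edge_r 0 (by omega)) hrel ((inj_mem hQ).mpr hq) hy
      (ψ g) (hH ▸ ⟨g, mem_top g, rfl⟩)
    simp only [map_mul, map_inv]
    exact h
  have hsplit : ∀ n ∈ N, ∃ v ∈ vmod P, ∃ y ∈ Y, v * y = n := fun n hn =>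
    exists_mul (normalizer_top (vmod P) Y) hn
  have hXY : ∀ x ∈ X, ∀ y ∈ Y, x * y = y * x := fun x hx y hy => hψ (by
    rw [map_mul, map_mul]; exact F1.V_cent _ (hx_Q1 hx) _ hy)
  obtain ⟨x, hx, hxQ⟩ : ∃ x ∈ X, x ∉ pCore p G := by
    obtain ⟨z, hz, hzQ⟩ := SetLike.not_le_iff_exists.mp hne
    obtain ⟨x, hx, rfl⟩ : z ∈ (P : Subgroup G).map ψ := hP ▸ hx_e hz
    exact ⟨x, hz, fun h => hzQ ((inj_mem hQ).mpr h)⟩
  have hXP : X ≤ (P : Subgroup G) := fun a ha => (inj_mem hP).mp (hx_e ha)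
  have hxP := hXP hx
  have hxN : x ∈ actKer N (vmod P) := by
    intro n hn
    obtain ⟨v, hv, y, hy, rfl⟩ := hsplit n hn
    have e : x * (v * y) * x⁻¹ * (v * y)⁻¹ = (x * v * x⁻¹) * v⁻¹ := by
      calc x * (v * y) * x⁻¹ * (v * y)⁻¹ = (x * v * x⁻¹) * ((x * y) * x⁻¹ * y⁻¹) * v⁻¹ := by group
        _ = _ := by rw [hXY x hx y hy, mul_inv_cancel_right, mul_inv_cancel, mul_one]
    rw [e]; exact hMdl.comm_mem hv x
  set E := pCore p G ⊓ centralizer (N : Set G) with hE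
  haveI : (centralizer (N : Set G)).Normal := inferInstance
  haveI : E.Normal := Subgroup.normal_inf_normal _ _
  have hxE : x ∈ actKer E (vmod P) := by
    intro q hq
    obtain ⟨hqQ, hqN⟩ := Subgroup.mem_inf.mp hq
    have hq0 : ψ q ∈ C.e 0 := F0.Q_le ((inj_mem hQ).mpr hqQ)
    have hq1 : ψ q ∈ 𝒮.Q (C.c 1) := F1.mem_of_cent hq0 fun y hy => by
      obtain ⟨y, -, rfl⟩ : y ∈ (⊤ : Subgroup G).map ψ := hH ▸ F0.T_le (F1.V_le_T hy)
      rw [← map_mul, ← map_mul]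
      exact congrArg ψ (hqN y (mem_sup_right hy)).symm
    obtain ⟨a, ha, q', hq', haq⟩ := C.split_l (i := 0) le_rfl hcz (x := ψ q) (F1'.Q_le hq1)
    simp only [Nat.zero_add] at hq'
    obtain ⟨v, hv, rfl⟩ : a ∈ (vmod P).map ψ := hV ▸ ha
    have hqx : Commute q' (ψ x) := F2.V_cent q' hq' _ hx
    have e : x * q * x⁻¹ * q⁻¹ = x * v * x⁻¹ * v⁻¹ := hψ (by
      simp only [map_mul, map_inv, ← haq]
      calc ψ x * (ψ v * q') * (ψ x)⁻¹ * (ψ v * q')⁻¹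
          = ψ x * ψ v * (q' * (ψ x)⁻¹ * q'⁻¹) * (ψ v)⁻¹ := by group
        _ = _ := by rw [hqx.inv_right.eq, mul_inv_cancel_right])
    rw [e]; exact hMdl.comm_mem hv x
  have hRN : Cfsg.pResidual p G ≤ actKer N (vmod P) := res_le_of_mem hS hxP hxN hxQ
  have hRE : Cfsg.pResidual p G ≤ actKer E (vmod P) := res_le_of_mem hS hxP hxE hxQ
  haveI : (pCore p G).Normal := inferInstance
  have hQE : ∀ q ∈ pCore p G, ∀ r ∈ Cfsg.pResidual p G, r * q * r⁻¹ * q⁻¹ ∈ E := by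
    intro q hq r hr
    refine Subgroup.mem_inf.mpr ⟨mul_mem (‹(pCore p G).Normal›.conj_mem q hq r) (inv_mem hq), fun n hn => ?_⟩
    set v := r⁻¹ * n * r * n⁻¹ with hv
    have hvV : v ∈ vmod P := by simpa [hv] using hRN (inv_mem hr) n hn
    set z := q * n * q⁻¹ * n⁻¹ with hz
    have hzc : ∀ g : G, Commute z g := fun g => by
      obtain ⟨v', hv', y, hy, hvy⟩ := hsplit n hn
      have h1 : Commute q v' := hMdl.cent v' hv' q hq
      have hzy := hcen q hq y hy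
      have e : z = q * y * q⁻¹ * y⁻¹ := by
        calc z = (q * v') * y * q⁻¹ * y⁻¹ * v'⁻¹ := by rw [hz, ← hvy]; group
          _ = v' * (q * y * q⁻¹ * y⁻¹) * v'⁻¹ := by rw [h1.eq]; group
          _ = _ := by rw [Subgroup.mem_center_iff.mp hzy v', mul_inv_cancel_right]
      rw [e]; exact (Subgroup.mem_center_iff.mp hzy g).symm
    have hqv : Commute q v := hMdl.cent v hvV q hq
    have hqn : q⁻¹ * n * q = z⁻¹ * n := by
      have e : n = z * (q⁻¹ * n * q) := by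
        calc n = q⁻¹ * (z * n) * q := by rw [hz]; group
          _ = (q⁻¹ * z) * n * q := by group
          _ = _ := by rw [← (hzc q⁻¹).eq]; group
      exact eq_inv_mul_of_mul_eq e.symm
    have e : (r * q * r⁻¹ * q⁻¹) * n * (r * q * r⁻¹ * q⁻¹)⁻¹ = n := by
      calc (r * q * r⁻¹ * q⁻¹) * n * (r * q * r⁻¹ * q⁻¹)⁻¹
          = r * q * r⁻¹ * (q⁻¹ * n * q) * r * q⁻¹ * r⁻¹ := by group
        _ = (r * q * r⁻¹ * z⁻¹) * n * r * q⁻¹ * r⁻¹ := by rw [hqn]; group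
        _ = z⁻¹ * (r * (q * v) * n * q⁻¹ * r⁻¹) := by
            rw [← ((hzc (r * q * r⁻¹)).inv_left).eq, hv]; group
        _ = z⁻¹ * (r * v * (z * n) * r⁻¹) := by rw [hqv.eq, hz]; group
        _ = z⁻¹ * z * (r * v * n * r⁻¹) := by
            rw [show r * v * (z * n) = (r * v * z) * n by group, ← (hzc (r * v)).eq]; group
        _ = _ := by rw [hv]; group
    exact (mul_inv_eq_iff_eq_mul.mp e).symm
  refine ⟨X, ⟨res_push hS (inf_le_left : E ≤ pCore p G) (Z := pCore p G) hQE fun e he r hr => hRE hr e he,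
    hXP, ?_, fun a ha b hb => hψ ?_, fun a ha => hψ ?_⟩⟩
  · apply Subgroup.map_injective hψ
    rw [Subgroup.map_sup, hmc (hx_e.trans F0.T_le), hQ, hP, hcov]
  · rw [map_mul, map_mul]; exact F2.abel _ ha _ hb
  · rw [map_pow, map_one]; exact F2.elem _ ha

end CfsgLib.PushPair
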