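import Mathlib
import Cfsg.Agent.Lib.PushPair.Graph
import Cfsg.Agent.Lib.PushPair.Member

/-!
The system of flags of a family of pushing up groups over one `p`-group.
-/

set_option autoImplicit false
set_option linter.unusedSectionVars false

namespace CfsgLib.PushPair

open Cfsg Subgroup CfsgLib.PushUp CfsgLib.PushRankOne

universe u

variable {p : ℕ} [Fact p.Prime] {S : Type u} [Group S] [Finite S]

/-- The group, core and module of a member inside the common group. -/
noncomputable def key (m : Member p S) :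
    Subgroup (Equiv.Perm (Pts S)) × Subgroup (Equiv.Perm (Pts S)) × Subgroup (Equiv.Perm (Pts S)) :=
  ((⊤ : Subgroup m.G).map m.emb, (pCore p m.G).map m.emb, (vmod m.P).map m.emb)

/-- The edges at the translate of a member. -/
def IsEdge (m : Member p S) (g : Equiv.Perm (Pts S)) (T : Subgroup (Equiv.Perm (Pts S))) : Prop :=
  (∃ γ, T = cj γ (base S)) ∧ T ≤ cj g (key m).1

variable {m : Member p S}

theorem cj_emb {X : Subgroup m.G} {k : m.G} (hk : k ∈ normalizer (X : Set m.G)) :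
    cj (m.emb k) (X.map m.emb) = X.map m.emb :=
  cj_eq_self (Subgroup.le_normalizer_map m.emb ⟨k, hk, rfl⟩)

theorem cj_emb_normal (X : Subgroup m.G) [X.Normal] (k : m.G) : cj (m.emb k) (X.map m.emb) = X.map m.emb :=
  cj_emb (norm_of_normal X k)

theorem base_le : base S ≤ (key m).1 := by
  rw [← m.map_P]; exact Subgroup.map_mono le_top

theorem IsEdge.exists_eq {g : Equiv.Perm (Pts S)} {T : Subgroup (Equiv.Perm (Pts S))} (h : IsEdge m g T) :
    ∃ k : m.G, T = cj (g * m.emb k) (base S) := by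
  obtain ⟨⟨γ, rfl⟩, hle⟩ := h
  set T' := (cj (g⁻¹ * γ) (base S)).comap m.emb with hT'
  have hsub : cj (g⁻¹ * γ) (base S) ≤ (⊤ : Subgroup m.G).map m.emb := by
    intro x hx
    have h1 : g * x * g⁻¹ ∈ cj g ((⊤ : Subgroup m.G).map m.emb) := hle (by
      rw [mem_cj] at hx ⊢
      simpa [mul_assoc] using hx)
    simpa [mul_assoc] using mem_cj.mp h1
  have hmap : T'.map m.emb = cj (g⁻¹ * γ) (base S) := by
    rw [hT', Subgroup.map_comap_eq]
    exact inf_eq_right.mpr (hsub.trans (Subgroup.map_le_range _ _))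
  have hcard : Nat.card T' = Nat.card (m.P : Subgroup m.G) := by
    rw [← Subgroup.card_map_of_injective m.emb_injective (K := T'), hmap,
      Subgroup.card_map_of_injective (MulEquiv.injective _), ← m.map_P,
      Subgroup.card_map_of_injective m.emb_injective]
  have hp : IsPGroup p T' := by
    have h := ((m.P.isPGroup'.map m.emb).map (MulAut.conj (g⁻¹ * γ)).toMonoidHom).comap_of_injective
      m.emb m.emb_injective
    rwa [m.map_P] at h
  obtain ⟨R, hR⟩ := hp.exists_le_sylow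
  have hPT : T' = (R : Subgroup m.G) := Subgroup.eq_of_le_of_card_ge hR (by
    rw [hcard]
    obtain ⟨k, rfl⟩ := MulAction.exists_smul_eq m.G m.P R
    exact (Subgroup.card_map_of_injective (MulEquiv.injective _)).le)
  obtain ⟨k, hk⟩ := MulAction.exists_smul_eq m.G m.P R
  refine ⟨k, ?_⟩
  have hk' : T' = cj k (m.P : Subgroup m.G) := by rw [hPT, ← hk]; rfl
  rw [← cj_cj g (m.emb k), show cj (m.emb k) (base S) = (cj k (m.P : Subgroup m.G)).map m.emb from ?_,
    ← hk', hmap, cj_cj, mul_inv_cancel_left]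
  rw [map_cj, m.map_P]

theorem cj_key_top (g : Equiv.Perm (Pts S)) (k : m.G) : cj (g * m.emb k) (key m).1 = cj g (key m).1 := by
  rw [← cj_cj]; exact congrArg (cj g) (cj_emb_normal ⊤ k)

theorem cj_key_core (g : Equiv.Perm (Pts S)) (k : m.G) : cj (g * m.emb k) (key m).2.1 = cj g (key m).2.1 := by
  rw [← cj_cj]; exact congrArg (cj g) (cj_emb_normal _ k)

theorem cj_key_vmod (g : Equiv.Perm (Pts S)) (k : m.G) : cj (g * m.emb k) (key m).2.2 = cj g (key m).2.2 := by
  haveI : (vmod m.P).Normal := normalClosure_normal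
  rw [← cj_cj]; exact congrArg (cj g) (cj_emb_normal _ k)

theorem isEdge_self (g : Equiv.Perm (Pts S)) : IsEdge m g (cj g (base S)) :=
  ⟨⟨g, rfl⟩, Subgroup.map_mono base_le⟩

theorem flag_edge {g : Equiv.Perm (Pts S)} {T : Subgroup (Equiv.Perm (Pts S))} (h : IsEdge m g T) :
    Flag p (cj g (key m).1) (cj g (key m).2.1) (cj g (key m).2.2) T := by
  obtain ⟨k, rfl⟩ := h.exists_eq
  have hf : Function.Injective ((MulAut.conj (g * m.emb k)).toMonoidHom.comp m.emb) :=
    fun a b h => m.emb_injective ((MulAut.conj (g * m.emb k)).injective h)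
  have h := (flag_top m.setting m.mild).map hf
  rw [map_conj_comp, map_conj_comp, map_conj_comp, map_conj_comp, m.map_P] at h
  rw [← cj_key_top g k, ← cj_key_core g k, ← cj_key_vmod g k]
  exact h

theorem IsEdge.mv {g : Equiv.Perm (Pts S)} {T : Subgroup (Equiv.Perm (Pts S))} (h : IsEdge m g T)
    (γ : Equiv.Perm (Pts S)) : IsEdge m (γ * g) (cj γ T) := by
  obtain ⟨⟨δ, rfl⟩, hle⟩ := h
  exact ⟨⟨γ * δ, cj_cj _ _ _⟩, (Subgroup.map_mono hle).trans (cj_cj _ _ _).le⟩

theorem IsEdge.move {g : Equiv.Perm (Pts S)} {T : Subgroup (Equiv.Perm (Pts S))} (h : IsEdge m g T)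
    {γ : Equiv.Perm (Pts S)} (hγ : γ ∈ cj g (key m).1) : IsEdge m g (cj γ T) := by
  obtain ⟨⟨δ, rfl⟩, hle⟩ := h
  exact ⟨⟨γ * δ, cj_cj _ _ _⟩, (Subgroup.map_mono hle).trans (le_of_eq (cj_eq_self (Subgroup.le_normalizer hγ)))⟩

theorem IsEdge.exists_opp {g : Equiv.Perm (Pts S)} {T : Subgroup (Equiv.Perm (Pts S))} (h : IsEdge m g T) :
    ∃ T', IsEdge m g T' ∧ Opp (cj g (key m).1) (cj g (key m).2.1) T T' := by
  obtain ⟨k, rfl⟩ := h.exists_eq
  obtain ⟨y, hy⟩ := m.toSit.exists_opp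
  refine ⟨cj (g * m.emb k) ((cj y (m.P : Subgroup m.G)).map m.emb), ⟨⟨g * m.emb k * m.emb y, ?_⟩, ?_⟩, ?_⟩
  · rw [← cj_cj (g * m.emb k) (m.emb y), map_cj, m.map_P]
  · rw [← cj_key_top g k]
    exact Subgroup.map_mono (Subgroup.map_mono le_top)
  · have h := hy.map (f := (MulAut.conj (g * m.emb k)).toMonoidHom.comp m.emb)
    rw [map_conj_comp, map_conj_comp, map_conj_comp, map_conj_comp, m.map_P] at h
    rw [← cj_key_top g k, ← cj_key_core g k]
    exact h

/-- The vertices of a family. -/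
abbrev Vtx (F : Member p S → Prop) : Type (u + 1) := {m : Member p S // F m} × Equiv.Perm (Pts S)

/-- The system of a family. -/
noncomputable def fam (F : Member p S → Prop) : Sys.{u, u + 1} (Equiv.Perm (Pts S)) p where
  α := Vtx F
  mv γ x := (x.1, γ * x.2)
  H x := cj x.2 (key x.1.1).1
  Q x := cj x.2 (key x.1.1).2.1
  V x := cj x.2 (key x.1.1).2.2
  edge x T := IsEdge x.1.1 x.2 T
  V_mv _ _ := (cj_cj _ _ _).symm
  Q_mv _ _ := (cj_cj _ _ _).symm
  edge_mv γ _ _ h := h.mv γ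
  edge_move _ _ _ h hγ := h.move hγ
  flag _ _ h := flag_edge h
  exists_opp _ _ h := h.exists_opp
  mem _ := False
  mem_mv _ _ h := h
  alive _ _ _ h := h.elim

variable {F : Member p S → Prop}

/-- The vertex of a member. -/
def vtx (m : Member p S) (hm : F m) (g : Equiv.Perm (Pts S)) : (fam F).α := (⟨m, hm⟩, g)

theorem fam_homog : Homog (fam F) where
  H_mv _ _ := (cj_cj _ _ _).symm
  trans x T T' h h' := by
    obtain ⟨k, rfl⟩ := h.exists_eq
    obtain ⟨l, rfl⟩ := h'.exists_eq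
    refine ⟨x.2 * x.1.1.emb (l * k⁻¹) * x.2⁻¹, conj_mem_cj ⟨_, mem_top _, rfl⟩, ?_⟩
    rw [cj_cj, map_mul, map_inv]
    congr 1
    group
  exists_edge x := ⟨_, isEdge_self x.2⟩

/-- Members with the same groups. -/
noncomputable def vkey (x : (fam F).α) :
    Subgroup (Equiv.Perm (Pts S)) × Subgroup (Equiv.Perm (Pts S)) × Subgroup (Equiv.Perm (Pts S)) :=
  key x.1.1

theorem fam_keyed : Keyed (fam F) vkey where
  key_mv _ _ := rfl
  same x y h := by
    refine ⟨y.2 * x.2⁻¹, ⟨?_, ?_, ?_, fun T => ?_⟩⟩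
    · show cj (y.2 * x.2⁻¹ * x.2) (key x.1.1).1 = cj y.2 (key y.1.1).1
      rw [inv_mul_cancel_right, show key x.1.1 = key y.1.1 from h]
    · show cj (y.2 * x.2⁻¹ * x.2) (key x.1.1).2.1 = cj y.2 (key y.1.1).2.1
      rw [inv_mul_cancel_right, show key x.1.1 = key y.1.1 from h]
    · show cj (y.2 * x.2⁻¹ * x.2) (key x.1.1).2.2 = cj y.2 (key y.1.1).2.2
      rw [inv_mul_cancel_right, show key x.1.1 = key y.1.1 from h]
    · show (_ ∧ _) ↔ (_ ∧ _)
      show ((∃ γ, T = cj γ (base S)) ∧ T ≤ cj (y.2 * x.2⁻¹ * x.2) (key x.1.1).1) ↔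
        ((∃ γ, T = cj γ (base S)) ∧ T ≤ cj y.2 (key y.1.1).1)
      rw [inv_mul_cancel_right, show key x.1.1 = key y.1.1 from h]

/-- A vertex with an edge, seen as a copy of its member. -/
theorem exists_pull (x : (fam F).α) {T : Subgroup (Equiv.Perm (Pts S))} (hT : (fam F).edge x T) :
    ∃ ψ : x.1.1.G →* Equiv.Perm (Pts S), PullAt x.1.1.P (fam F) x T ψ := by
  obtain ⟨⟨m, hm⟩, g⟩ := x
  haveI : (vmod m.P).Normal := normalClosure_normal
  obtain ⟨k, rfl⟩ := (hT : IsEdge m g T).exists_eq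
  refine ⟨(MulAut.conj (g * m.emb k)).toMonoidHom.comp m.emb,
    ⟨fun a b h => m.emb_injective ((MulAut.conj (g * m.emb k)).injective h), ?_, ?_, ?_, ?_, fun T₁ hT₁ => ?_⟩⟩
  · rw [map_conj_comp]; exact cj_key_top g k
  · rw [map_conj_comp]; exact cj_key_core g k
  · rw [map_conj_comp]; exact cj_key_vmod g k
  · rw [map_conj_comp, m.map_P]
  · obtain ⟨k₁, rfl⟩ := (hT₁ : IsEdge m g T₁).exists_eq
    refine ⟨k⁻¹ * k₁, ?_⟩
    rw [map_conj_comp, map_cj, cj_cj, m.map_P]
    congr 1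
    rw [map_mul, map_inv]
    group

/-- A failure in a subfamily is a failure in the family. -/
theorem reach_incl {F' : Member p S → Prop} (h : ∀ m, F' m → F m) : ∀ (n : ℕ) (x y : (fam F').α),
    (fam F').Reach n x y → (fam F).Reach n (⟨x.1.1, h _ x.1.2⟩, x.2) (⟨y.1.1, h _ y.1.2⟩, y.2) := by
  intro n
  induction n with
  | zero =>
    intro x y hxy
    obtain rfl : x = y := hxy
    rfl
  | succ n ih =>
    rintro x y ⟨z, ⟨T, h1, h2⟩, hzy⟩
    exact ⟨(⟨z.1.1, h _ z.1.2⟩, z.2), ⟨T, h1, h2⟩, ih z y hzy⟩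

end CfsgLib.PushPair
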