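import Mathlib
import Cfsg.Agent.Lib.PushRankOne.CLPushing
import Cfsg.Agent.Lib.PushPair.System

/-!
Without failures a centrally large subgroup generates a common normal subgroup.
-/

set_option autoImplicit false
set_option linter.unusedSectionVars false

namespace CfsgLib.PushPair

open Cfsg Subgroup CfsgLib.PushUp CfsgLib.PushRankOne

universe u

section CL

variable {X Y : Type*} [Group X] [Group Y]

/-- The measure of a centrally large subgroup. -/
def CLIn (f : ℕ) (R : Subgroup X) : Prop := Nat.card R * Nat.card (center R) = f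

/-- Minimal among the subgroups of measure `f`. -/
def MinIn (f : ℕ) (R : Subgroup X) : Prop := CLIn f R ∧ ∀ L, L ≤ R → CLIn f L → L = R

theorem clIn_map {ι : X →* Y} (hι : Function.Injective ι) {f : ℕ} {R : Subgroup X} :
    CLIn f (R.map ι) ↔ CLIn f R := by
  rw [CLIn, CLIn, ← Nat.card_congr (R.equivMapOfInjective ι hι).toEquiv,
    ← Nat.card_congr (Subgroup.centerCongr (R.equivMapOfInjective ι hι)).toEquiv]

theorem minIn_map {ι : X →* Y} (hι : Function.Injective ι) {f : ℕ} {R : Subgroup X} :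
    MinIn f (R.map ι) ↔ MinIn f R := by
  constructor
  · exact fun h => ⟨(clIn_map hι).mp h.1, fun L hL hc =>
      Subgroup.map_injective hι (h.2 _ (Subgroup.map_mono hL) ((clIn_map hι).mpr hc))⟩
  · refine fun h => ⟨(clIn_map hι).mpr h.1, fun L hL hc => ?_⟩
    have e : (L.comap ι).map ι = L := by
      rw [Subgroup.map_comap_eq]; exact inf_eq_right.mpr (hL.trans (Subgroup.map_le_range ι R))
    rw [← e] at hc hL ⊢
    rw [h.2 _ ((Subgroup.map_le_map_iff_of_injective hι).mp hL) ((clIn_map hι).mp hc)]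

theorem isMinimalCentrallyLarge_minIn {R : Subgroup X} :
    IsMinimalCentrallyLarge R ↔ MinIn (maxCentralProduct X) R := Iff.rfl

theorem clIn_le [Finite X] (R : Subgroup X) :
    Nat.card R * Nat.card (center R) ≤ maxCentralProduct X :=
  le_csSup ⟨Nat.card X * Nat.card X, by
    rintro k ⟨L, rfl⟩
    exact Nat.mul_le_mul (Subgroup.card_le_card_group L)
      ((Subgroup.card_le_card_group _).trans (Subgroup.card_le_card_group L))⟩ ⟨R, rfl⟩

theorem mcp_le_of_injective [Finite Y] {ι : X →* Y} (hι : Function.Injective ι) :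
    maxCentralProduct X ≤ maxCentralProduct Y := by
  refine csSup_le ⟨_, ⊥, rfl⟩ ?_
  rintro k ⟨R, rfl⟩
  rw [Nat.card_congr (R.equivMapOfInjective ι hι).toEquiv,
    Nat.card_congr (Subgroup.centerCongr (R.equivMapOfInjective ι hι)).toEquiv]
  exact clIn_le _

theorem mcp_congr [Finite X] [Finite Y] (e : X ≃* Y) : maxCentralProduct X = maxCentralProduct Y :=
  le_antisymm (mcp_le_of_injective (ι := e.toMonoidHom) e.injective)
    (mcp_le_of_injective (ι := e.symm.toMonoidHom) e.symm.injective)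

theorem mcp_of_ge [Finite X] {H R : Subgroup X} (hR : IsCentrallyLarge R) (hle : R ≤ H) :
    maxCentralProduct H = maxCentralProduct X := by
  refine le_antisymm (mcp_le_of_injective (ι := H.subtype) H.subtype_injective) ?_
  have h : CLIn (maxCentralProduct X) (R.subgroupOf H) := by
    rw [← clIn_map H.subtype_injective, Subgroup.subgroupOf_map_subtype, inf_eq_left.mpr hle]
    exact hR
  exact h ▸ clIn_le _

end CL

variable {p : ℕ} [Fact p.Prime] {S : Type u} [Group S] [Finite S]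

variable (p S) in
/-- A pair of characteristic subgroups, one of which is normal in every member. -/
def PairOK : Prop :=
  ∃ S₁ S₂ : Subgroup S, S₁ ≠ ⊥ ∧ S₂ ≠ ⊥ ∧ S₁.Characteristic ∧ S₂.Characteristic ∧ S₁ ≤ center S ∧
    maxCentralProduct S₂ = maxCentralProduct S ∧
    ∀ m : Member p S, S₁.map m.τ ≤ center m.G ∨ (S₂.map m.τ).Normal

theorem cent_iff (m : Member p S) {X : Subgroup S} :
    X.map lam ≤ centralizer ((key m).1 : Set (Equiv.Perm (Pts S))) ↔ X.map m.τ ≤ center m.G := by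
  constructor
  · rintro h _ ⟨x, hx, rfl⟩
    refine Subgroup.mem_center_iff.mpr fun g => m.emb_injective ?_
    rw [map_mul, map_mul, m.emb_τ]
    exact h ⟨x, hx, rfl⟩ _ ⟨g, mem_top g, rfl⟩
  · rintro h _ ⟨x, hx, rfl⟩ _ ⟨g, -, rfl⟩
    rw [← m.emb_τ, ← map_mul, ← map_mul, Subgroup.mem_center_iff.mp (h ⟨x, hx, rfl⟩) g]

/-- A flag is a frame inside its edge. -/
theorem frame_of_flag {Γ : Type*} [Group Γ] [Finite Γ] {H Q V T : Subgroup Γ} (h : Flag p H Q V T) :
    CfsgLib.PushRankOne.Frame (Q.subgroupOf T) (V.subgroupOf T) := by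
  have hn : ∀ {N : Subgroup Γ}, H ≤ normalizer (N : Set Γ) → (N.subgroupOf T).Normal := fun {N} hN =>
    ⟨fun x hx g => Subgroup.mem_subgroupOf.mpr (by
      simpa using conj_mem (hN (h.T_le g.2)) (Subgroup.mem_subgroupOf.mp hx))⟩
  have hc : (center T).map T.subtype = V ⊓ centralizer (T : Set Γ) := by
    rw [CfsgLib.PushRankOne.center_map]
    exact le_antisymm (fun x hx => ⟨h.fx_le hx, hx.2⟩) (inf_le_inf_right _ h.V_le_T)
  refine ⟨hn h.norm_Q, hn h.norm_V, fun x hx => h.V_le hx, fun v hv q hq => Subtype.ext (h.V_cent _ hq _ hv),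
    fun x hx => ?_, fun x hxQ v hv hxv => ?_, ?_⟩
  · exact (hc.le ⟨x, hx, rfl⟩).1
  · refine Subgroup.mem_center_iff.mpr fun t => Subtype.ext ?_
    exact h.fixed _ x.2 (fun hq => hxQ hq) _ hv (congrArg Subtype.val hxv) _ t.2
  · rw [← Subgroup.card_map_of_injective T.subtype_injective (K := center T), hc,
      Nat.card_congr (Subgroup.subgroupOfEquivOfLe h.Q_le).toEquiv,
      Nat.card_congr (Subgroup.subgroupOfEquivOfLe h.V_le_T).toEquiv]
    exact h.index

/-- Without failures the members have a common normal subgroup of the same measure. -/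
theorem exists_common_normal [Nontrivial S] (F : Member p S → Prop) (m₀ : Member p S) (hm₀ : F m₀)
    (hno : ∀ n (x y : (fam F).α), (fam F).Reach n x y → (fam F).V x ≤ (fam F).Q y) :
    ∃ S₂ : Subgroup S, S₂ ≠ ⊥ ∧ S₂.Characteristic ∧ maxCentralProduct S₂ = maxCentralProduct S ∧
      ∀ m, F m → (S₂.map m.τ).Normal := by
  classical
  set 𝒮 := fam F with h𝒮
  let Conn : 𝒮.α → Prop := fun x => ∃ n z, 𝒮.edge z (base S) ∧ 𝒮.Reach n x z
  let o : 𝒮.α := vtx m₀ hm₀ 1
  have hedge1 : ∀ (m : Member p S) (hm : F m), 𝒮.edge (vtx m hm 1) (base S) := fun m hm => by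
    show IsEdge m 1 (base S)
    have := isEdge_self (m := m) 1
    rwa [cj_one] at this
  have hConn0 : Conn o := ⟨0, o, hedge1 m₀ hm₀, rfl⟩
  -- connected vertices reach each other
  have hlink : ∀ x y, Conn x → Conn y → ∃ n, 𝒮.Reach n x y := by
    rintro x y ⟨n, z, hz, hxz⟩ ⟨n', z', hz', hyz'⟩
    exact ⟨n + (1 + n'), 𝒮.reach_append n _ x z y hxz
      (𝒮.reach_append 1 n' z z' y ⟨z', ⟨_, hz, hz'⟩, rfl⟩ (𝒮.reach_symm n' _ _ hyz'))⟩
  set M := ⨅ x : {x : 𝒮.α // Conn x}, 𝒮.Q x with hM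
  have hMo : M ≤ 𝒮.Q o := iInf_le (fun x : {x : 𝒮.α // Conn x} => 𝒮.Q x) ⟨o, hConn0⟩
  have hMbase : M ≤ base S := hMo.trans (𝒮.flag o _ (hedge1 m₀ hm₀)).Q_le
  have hinv : ∀ g, (∀ x, Conn x → Conn (𝒮.mv g x)) → cj g M = M := fun g hg => by
    refine cj_eq_self ?_
    have key : ∀ a ∈ M, ∀ x, Conn x → g * a * g⁻¹ ∈ 𝒮.Q (𝒮.mv g x) := fun a ha x hx => by
      rw [𝒮.Q_mv]; exact conj_mem_cj (iInf_le (fun x : {x : 𝒮.α // Conn x} => 𝒮.Q x) ⟨x, hx⟩ ha)
    refine mem_normalizer_of_conj fun a ha => ?_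
    rw [hM, Subgroup.mem_iInf]
    rintro ⟨y, hy⟩
    -- iterate `g` back to `y`
    have hpow : ∀ k : ℕ, Conn (𝒮.mv (g ^ k) y) := by
      intro k
      induction k with
      | zero =>
        have e : 𝒮.mv (g ^ 0) y = y := by show (y.1, g ^ 0 * y.2) = y; rw [pow_zero, one_mul]; rfl
        rw [e]; exact hy
      | succ k ih =>
        have e : 𝒮.mv (g ^ (k + 1)) y = 𝒮.mv g (𝒮.mv (g ^ k) y) := by
          show (y.1, g ^ (k + 1) * y.2) = (y.1, g * (g ^ k * y.2))
          rw [pow_succ', mul_assoc]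
        rw [e]; exact hg _ ih
    have hord : 0 < orderOf g := orderOf_pos g
    have h := key a ha _ (hpow (orderOf g - 1))
    have e : 𝒮.mv g (𝒮.mv (g ^ (orderOf g - 1)) y) = y := by
      show (y.1, g * (g ^ (orderOf g - 1) * y.2)) = y
      rw [← mul_assoc, ← pow_succ', show orderOf g - 1 + 1 = orderOf g by omega, pow_orderOf_eq_one, one_mul]; rfl
    rwa [e] at h
  have hConn_aut : ∀ (φ : S ≃* S) x, Conn x → Conn (𝒮.mv (autPerm φ) x) := by
    rintro φ x ⟨n, z, hz, hxz⟩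
    refine ⟨n, 𝒮.mv (autPerm φ) z, ?_, reach_mv _ n x z hxz⟩
    have := 𝒮.edge_mv (autPerm φ) z _ hz
    rwa [cj_autPerm] at this
  have hConn_emb : ∀ (m : Member p S), F m → ∀ (k : m.G) x, Conn x → Conn (𝒮.mv (m.emb k) x) := by
    rintro m hm k x ⟨n, z, hz, hxz⟩
    refine ⟨n + 1, vtx m hm 1, hedge1 m hm,
      𝒮.reach_append n 1 _ _ _ (reach_mv _ n x z hxz) ⟨_, ⟨cj (m.emb k) (base S), 𝒮.edge_mv _ z _ hz, ?_⟩, rfl⟩⟩
    exact (isEdge_self (m := m) 1 |> fun h => by
      rw [cj_one] at h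
      exact h.move (γ := m.emb k) (by rw [cj_one]; exact ⟨k, mem_top k, rfl⟩))
  set S₂ := M.comap (lam : S →* Equiv.Perm (Pts S)) with hS₂
  haveI hchar : S₂.Characteristic := by
    refine Subgroup.characteristic_iff_map_le.mpr ?_
    rintro φ _ ⟨x, hx, rfl⟩
    show lam (φ x) ∈ M
    rw [← autPerm_conj, ← hinv _ (hConn_aut φ)]
    exact conj_mem_cj hx
  have hnormal : ∀ m, F m → (S₂.map m.τ).Normal := fun m hm => ⟨fun y hy g => by
    obtain ⟨x, hx, rfl⟩ := hy
    have h1 : m.emb (g * m.τ x * g⁻¹) ∈ M := by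
      rw [← hinv _ (hConn_emb m hm g), map_mul, map_mul, map_inv, m.emb_τ]
      exact conj_mem_cj hx
    obtain ⟨z, hz⟩ := hMbase h1
    exact ⟨z, show lam z ∈ M from hz ▸ h1, m.emb_injective (by rw [m.emb_τ, hz])⟩⟩
  -- a minimal centrally large subgroup inside every connected core
  obtain ⟨R₁, hR₁⟩ := exists_minimalCL (X := S)
  let score : Subgroup S → ℕ := fun R =>
    {A : Subgroup (Equiv.Perm (Pts S)) | ∃ x, Conn x ∧ 𝒮.Q x = A ∧ R.map lam ≤ A}.ncard
  obtain ⟨R, hR, hmax⟩ := Set.exists_max_image {R : Subgroup S | IsMinimalCentrallyLarge R} score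
    (Set.toFinite _) ⟨R₁, hR₁⟩
  have hall : ∀ x, Conn x → R.map lam ≤ 𝒮.Q x := by
    by_contra hne
    push Not at hne
    have hex : ∃ n, ∃ x z, 𝒮.edge z (base S) ∧ 𝒮.Reach n x z ∧ ¬ R.map lam ≤ 𝒮.Q x := by
      obtain ⟨x, ⟨n, z, hz, hxz⟩, hx⟩ := hne
      exact ⟨n, x, z, hz, hxz, hx⟩
    obtain ⟨x, z, hz, hxz, hx⟩ := Nat.find_spec hex
    have hxConn : Conn x := ⟨_, z, hz, hxz⟩
    obtain ⟨T, hT, hRT⟩ : ∃ T, 𝒮.edge x T ∧ R.map lam ≤ T := by
      rcases hn : Nat.find hex with _ | n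
      · rw [hn] at hxz
        obtain rfl : x = z := hxz
        exact ⟨_, hz, Subgroup.map_le_range _ _⟩
      · rw [hn] at hxz
        obtain ⟨w, ⟨T, hxT, hwT⟩, hwz⟩ := hxz
        refine ⟨T, hxT, le_trans ?_ (𝒮.flag w T hwT).Q_le⟩
        by_contra hw
        exact Nat.find_min hex (show n < Nat.find hex by omega) ⟨w, z, hz, hwz, hw⟩
    have Fl := 𝒮.flag x T hT
    have hmcp : maxCentralProduct T = maxCentralProduct S := by
      obtain ⟨γ, hγ⟩ := (hT : IsEdge x.1.1 x.2 T).1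
      rw [hγ]
      exact (mcp_congr ((MonoidHom.ofInjective lam_injective).trans
        ((base S).equivMapOfInjective _ (MulEquiv.injective (MulAut.conj γ))))).symm
    set RT := (R.map lam).subgroupOf T with hRT'
    have hmap : RT.map T.subtype = R.map lam := by
      rw [hRT', Subgroup.subgroupOf_map_subtype, inf_eq_left.mpr hRT]
    have hRTmin : IsMinimalCentrallyLarge RT := by
      rw [isMinimalCentrallyLarge_minIn, ← minIn_map T.subtype_injective, hmap, hmcp,
        minIn_map lam_injective]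
      exact hR
    have hRTQ : ¬ RT ≤ (𝒮.Q x).subgroupOf T := fun h => hx (by
      rw [← hmap]
      exact (Subgroup.map_mono h).trans (by rw [Subgroup.subgroupOf_map_subtype]; exact inf_le_left))
    obtain ⟨hnew, hnewQ, -⟩ := (frame_of_flag Fl).reduce hRTmin hRTQ
    set N := (RT ⊓ (𝒮.Q x).subgroupOf T ⊔ (𝒮.V x).subgroupOf T).map T.subtype with hN
    have hV : ∀ y, Conn y → 𝒮.V x ≤ 𝒮.Q y := fun y hy => by
      obtain ⟨k, hk⟩ := hlink x y hxConn hy
      exact hno k x y hk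
    have hNQ : ∀ y, Conn y → R.map lam ≤ 𝒮.Q y → N ≤ 𝒮.Q y := fun y hy hyR => by
      rw [hN, Subgroup.map_sup, Subgroup.subgroupOf_map_subtype]
      exact sup_le ((Subgroup.map_mono inf_le_left).trans (hmap.le.trans hyR)) (inf_le_left.trans (hV y hy))
    have hNx : N ≤ 𝒮.Q x := (Subgroup.map_mono hnewQ).trans
      (by rw [Subgroup.subgroupOf_map_subtype]; exact inf_le_left)
    have hNbase : N ≤ base S := by
      rw [hN, Subgroup.map_sup, Subgroup.subgroupOf_map_subtype]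
      exact sup_le ((Subgroup.map_mono inf_le_left).trans (hmap.le.trans (Subgroup.map_le_range _ _)))
        (inf_le_left.trans ((hV o hConn0).trans (𝒮.flag o _ (hedge1 m₀ hm₀)).Q_le))
    set R' := N.comap (lam : S →* Equiv.Perm (Pts S)) with hR'
    have hR'map : R'.map lam = N := by
      rw [hR', Subgroup.map_comap_eq]; exact inf_eq_right.mpr hNbase
    have hR'min : IsMinimalCentrallyLarge R' := by
      rw [isMinimalCentrallyLarge_minIn, ← minIn_map lam_injective, hR'map, hN, ← hmcp,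
        minIn_map T.subtype_injective]
      exact hnew
    refine Nat.not_lt.mpr (hmax R' hR'min) ?_
    refine Set.ncard_lt_ncard ⟨?_, fun hsub => ?_⟩ (Set.toFinite _)
    · rintro A ⟨y, hy, rfl, hyR⟩
      exact ⟨y, hy, rfl, hR'map ▸ hNQ y hy hyR⟩
    · obtain ⟨y, hy, hyQ, hyR⟩ := hsub ⟨x, hxConn, rfl, hR'map ▸ hNx⟩
      exact hx hyR
  have hRS₂ : R ≤ S₂ := Subgroup.map_le_iff_le_comap.mp (le_iInf fun x => hall x.1 x.2)
  refine ⟨S₂, fun h => ?_, hchar, mcp_of_ge hR.1 hRS₂, hnormal⟩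
  have hRbot : R = ⊥ := le_bot_iff.mp (hRS₂.trans h.le)
  have hcl := (CfsgLib.CentrallyLarge.isCentrallyLarge_iff.mp hR.1).2
  rw [hRbot] at hcl
  have htop : (⊤ : Subgroup S) ≤ ⊥ := fun x _ => hcl fun y hy => by
    rw [show y = 1 from Subgroup.mem_bot.mp hy, one_mul, mul_one]
  exact bot_ne_top (le_antisymm bot_le htop)

/-- Without failures the pair is found. -/
theorem pairOK_of_noFail [Nontrivial S] (F : Member p S → Prop) (X : Subgroup S) (hX : X ≠ ⊥) [X.Characteristic]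
    (hXc : X ≤ center S) (hout : ∀ m, ¬ F m → X.map m.τ ≤ center m.G) (m₀ : Member p S) (hm₀ : F m₀)
    (hno : ∀ n (x y : (fam F).α), (fam F).Reach n x y → (fam F).V x ≤ (fam F).Q y) : PairOK p S := by
  obtain ⟨S₂, hne, hchar, hm, hn⟩ := exists_common_normal F m₀ hm₀ hno
  exact ⟨X, S₂, hX, hne, inferInstance, hchar, hXc, hm,
    fun m => (em (F m)).elim (fun h => Or.inr (hn m h)) fun h => Or.inl (hout m h)⟩

end CfsgLib.PushPair
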