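import Mathlib
import Cfsg.Agent.Lib.PushPair.Middle
import Cfsg.Agent.Lib.PushPair.NoFail

/-!
Either one pair works for all members, or every member has one or two noncentral factors.
-/

set_option autoImplicit false
set_option linter.unusedSectionVars false

namespace CfsgLib.PushPair

open Cfsg Subgroup CfsgLib.PushUp CfsgLib.PushRankOne
open scoped commutatorElement

universe u

variable {p : ℕ} [Fact p.Prime] {S : Type u} [Group S] [Finite S]

section Uniform

variable {F : Member p S → Prop}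

theorem good_of_dist_one {C : Chain (fam F) 1 1} (hc : ¬ (fam F).V (C.c 0) ≤ (fam F).Q (C.c 1)) :
    Good (C.c 0).1.1.toSit := by
  obtain ⟨ψ, P⟩ := exists_pull (C.c 0) (C.edge_l 0 (by omega))
  obtain ⟨A, hA⟩ := exists_one hc P
  exact good_of_one _ hA

/-- The middle vertex of a critical two-step chain is unrelated to its neighbours. -/
theorem mid_unrelated (C : Chain (fam F) 2 2) (hc : ¬ (fam F).V (C.c 0) ≤ (fam F).Q (C.c 2))
    (D : Chain (fam F) 2 2) (hD : D.c 0 = C.c 1) (hd : ¬ (fam F).V (D.c 0) ≤ (fam F).Q (D.c 2)) :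
    ¬ Rel (fam F) (D.c 0) (D.c 1) := by
  intro hrel
  obtain ⟨ψ, P⟩ := exists_pull (D.c 0) (D.edge_l 0 (by omega))
  obtain ⟨X, hX⟩ := oneLike_of_rel fam_homog D hd P (D.c 0).1.1.setting (D.c 0).1.1.mild hrel
  have hT : (fam F).edge (D.c 0) (C.e 0) := hD ▸ C.edge_r 0 (by omega)
  obtain ⟨ψ', P'⟩ := exists_pull (D.c 0) hT
  have h := rel_of_res P' hX.res hT (C.edge_l 0 (by omega))
    (hD ▸ C.near (by omega) (by omega) (by omega) (by omega))
  rw [hD] at h
  exact not_rel fam_homog C le_rfl hc h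

theorem good_of_unrelated (C : Chain (fam F) 2 2) (hc : ¬ (fam F).V (C.c 0) ≤ (fam F).Q (C.c 2))
    (hv : ¬ Rel (fam F) (C.c 0) (C.c 1)) : Good (C.c 0).1.1.toSit ∧ p = 3 := by
  obtain ⟨K, hK2, hcrit, hopp⟩ := exists_five fam_homog C hc hv (mid_unrelated C hc)
  obtain ⟨ψ, P⟩ := exists_pull (K.c 2) (K.edge_l 2 (by omega))
  obtain ⟨ψ₃, P₃⟩ := exists_pull (K.c 3) (K.edge_l 3 (by omega))
  obtain ⟨T', X, Y, A, B, D, hT⟩ := exists_two K hcrit hopp P P₃ (K.c 2).1.1.setting (K.c 2).1.1.mild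
    (K.c 3).1.1.setting (K.c 3).1.1.mild
  have h := good_of_two _ hT
  rwa [hK2] at h

theorem good_of_uniform_two (hB : (fam F).Below 2) (hall : ∀ x, Ep (fam F) 2 x) (x : (fam F).α) :
    Good x.1.1.toSit := by
  obtain ⟨C, rfl, hc⟩ := exists_crit (by omega) hB (hall x)
  by_cases hrel : Rel (fam F) (C.c 0) (C.c 1)
  · obtain ⟨D, hD, hd⟩ := exists_crit (by omega) hB (hall (C.c 1))
    have hp3 := (good_of_unrelated D hd (mid_unrelated C hc D hD hd)).2
    obtain ⟨ψ, P⟩ := exists_pull (C.c 0) (C.edge_l 0 (by omega))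
    obtain ⟨X, hX⟩ := oneLike_of_rel fam_homog C hc P (C.c 0).1.1.setting (C.c 0).1.1.mild hrel
    exact good_of_oneLike _ hX hp3
  · exact (good_of_unrelated C hc hrel).1

end Uniform

/-- The part of the centre reached by the module of a member. -/
def Member.low (m : Member p S) : Subgroup S := ⁅(⊤ : Subgroup S), (vmod m.P).comap m.τ⁆

theorem low_le_center (m : Member p S) : m.low ≤ center S :=
  Subgroup.commutator_le.mpr fun s _ w hw => m.center_iff.mp (by
    rw [map_commutatorElement, commutatorElement_def]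
    exact (flag_top m.setting m.mild).quad _ hw _ (m.τ_mem s))

theorem low_not_central (m : Member p S) : ¬ m.low.map m.τ ≤ center m.G := by
  intro h
  have F := flag_top m.setting m.mild
  obtain ⟨x, hx, hxQ⟩ := F.exists_mem
  refine hxQ (F.mem_of_cent hx fun v hv => ?_)
  refine F.fixmod v hv (fun t ht => ?_) x hx
  obtain ⟨s, rfl⟩ := m.mem_P.mp ht
  obtain ⟨w, rfl⟩ := m.mem_P.mp (F.V_le_T hv)
  rw [Subgroup.coe_top, Subgroup.centralizer_univ, ← commutatorElement_def, ← map_commutatorElement]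
  exact h ⟨_, Subgroup.commutator_mem_commutator (mem_top s) hv, rfl⟩

/-- The members in which `X` is not central. -/
def Out (X : Subgroup S) (m : Member p S) : Prop := ¬ X.map m.τ ≤ center m.G

theorem Out.congr {X : Subgroup S} {m m' : Member p S} (h : key m = key m') (hm : Out X m) : Out X m' := by
  intro hc
  refine hm ((cent_iff m).mp ?_)
  rw [h]
  exact (cent_iff m').mpr hc

theorem pairOK_top [Nontrivial S] (X : Subgroup S) (hX : X ≠ ⊥) [X.Characteristic] (hXc : X ≤ center S)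
    (h : ∀ m : Member p S, X.map m.τ ≤ center m.G) : PairOK p S :=
  ⟨X, ⊤, hX, top_ne_bot, inferInstance, inferInstance, hXc, mcp_congr Subgroup.topEquiv, fun m => Or.inl (h m)⟩

/-- The main recursion. -/
theorem step [Nontrivial S] : ∀ (n : ℕ) (X : Subgroup S), X ≠ ⊥ → X.Characteristic → X ≤ center S →
    (∀ h i : Member p S, ¬ Out X h → Out X i → ∀ φ : S ≃* S,
      (i.low.map φ.toMonoidHom).map h.τ ≤ center h.G) →
    (key '' {m : Member p S | Out X m}).ncard = n →
    PairOK p S ∨ ((∀ m : Member p S, Out X m → Good m.toSit) ∧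
      ∃ k ≤ 2, ∃ x y : (fam (Out X (p := p))).α, (fam (Out X)).Reach k x y ∧ ¬ (fam (Out X)).V x ≤ (fam (Out X)).Q y) := by
  intro n
  induction n using Nat.strong_induction_on with
  | _ n ih =>
  intro X hX hchar hXc hinv hn
  classical
  by_cases hne : ∃ m : Member p S, Out X m
  swap
  · push Not at hne
    exact Or.inl (pairOK_top X hX hXc fun m => not_not.mp (hne m))
  obtain ⟨m₀, hm₀⟩ := hne
  set 𝒮 := fam (Out X (p := p)) with h𝒮
  by_cases hfail : ∃ k, ∃ x y : 𝒮.α, 𝒮.Reach k x y ∧ ¬ 𝒮.V x ≤ 𝒮.Q y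
  swap
  · push Not at hfail
    exact Or.inl (pairOK_of_noFail (Out X) X hX hXc (fun m hm => not_not.mp hm) m₀ hm₀ hfail)
  set b := Nat.find hfail with hb
  obtain ⟨x₀, y₀, hxy, hxy'⟩ := Nat.find_spec hfail
  rw [← hb] at hxy
  have hb1 : 1 ≤ b := by
    rcases Nat.eq_zero_or_pos b with h | h
    · rw [h] at hxy
      obtain rfl : x₀ = y₀ := hxy
      obtain ⟨T, hT⟩ := fam_homog.exists_edge x₀
      exact absurd (𝒮.flag x₀ T hT).V_le hxy'
    · exact h
  have hB : 𝒮.Below b := fun k hk u v huv => by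
    by_contra h
    exact Nat.find_min hfail hk ⟨u, v, huv, h⟩
  let E : Member p S → Prop := fun m => ∃ hm : Out X m, Ep 𝒮 b (vtx m hm 1)
  have hEp : ∀ x : 𝒮.α, Ep 𝒮 b x ↔ E x.1.1 := by
    intro x
    have key : ∀ g g' : Equiv.Perm (Pts S), Ep 𝒮 b (x.1, g) → Ep 𝒮 b (x.1, g') := fun g g' h => by
      have h1 := ep_mv (g' * g⁻¹) h
      have e : 𝒮.mv (g' * g⁻¹) (x.1, g) = (x.1, g') := Prod.ext rfl (inv_mul_cancel_right g' g)
      rwa [e] at h1
    exact ⟨fun h => ⟨x.1.2, key x.2 1 h⟩, fun ⟨_, h⟩ => key 1 x.2 h⟩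
  have hone : b = 1 → ∀ m, E m → Good m.toSit := by
    rintro hb' m ⟨hm, hEm⟩
    rw [hb'] at hEm hB
    obtain ⟨C, hc0, hc⟩ := exists_crit le_rfl hB hEm
    have h := good_of_dist_one hc
    rwa [hc0] at h
  by_cases hall : ∀ m, Out X m → E m
  · -- every member has a partner
    have hall' : ∀ x : 𝒮.α, Ep 𝒮 b x := fun x => (hEp x).mpr (hall _ x.1.2)
    have hb3 := lt_three fam_homog fam_keyed hB hall' x₀
    refine Or.inr ⟨fun m hm => ?_, b, by omega, x₀, y₀, hxy, hxy'⟩
    rcases (show b = 1 ∨ b = 2 by omega) with h | h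
    · exact hone h m (hall m hm)
    · rw [h] at hB hall'
      exact good_of_uniform_two hB hall' (vtx m hm 1)
  · push Not at hall
    obtain ⟨i₀, hi₀, hi₀E⟩ := hall
    set X' : Subgroup S := ⨆ (i : {i : Member p S // Out X i ∧ ¬ E i}) (φ : S ≃* S),
      i.1.low.map φ.toMonoidHom with hX'
    have hle : ∀ (i : Member p S), Out X i → ¬ E i → ∀ φ : S ≃* S, i.low.map φ.toMonoidHom ≤ X' :=
      fun i hi hiE φ => le_iSup_of_le (⟨i, hi, hiE⟩ : {i : Member p S // Out X i ∧ ¬ E i}) (le_iSup_of_le φ le_rfl)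
    haveI hchar' : X'.Characteristic := by
      refine Subgroup.characteristic_iff_map_le.mpr fun ψ => ?_
      rw [hX', Subgroup.map_le_iff_le_comap]
      refine iSup_le fun i => iSup_le fun φ => ?_
      rw [← Subgroup.map_le_iff_le_comap, Subgroup.map_map]
      exact hle i.1 i.2.1 i.2.2 (φ.trans ψ)
    have hX'c : X' ≤ center S := by
      refine iSup_le fun i => iSup_le fun φ => ?_
      refine (Subgroup.map_mono (low_le_center i.1)).trans ?_
      exact (Subgroup.characteristic_iff_map_eq.mp (inferInstance : (center S).Characteristic) φ).le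
    -- the members with partners centralize the new subgroup
    have hrest : ∀ d, E d → ∀ i : Member p S, Out X i → ¬ E i → ∀ φ : S ≃* S,
        (i.low.map φ.toMonoidHom).map d.τ ≤ center d.G := by
      rintro d ⟨hd, hdE⟩ i hi hiE φ
      obtain ⟨C, hc0, hc⟩ := exists_crit hb1 hB hdE
      have he := C.edge_l 0 (by have := C.hL; have := C.hb; omega)
      rw [hc0] at he
      obtain ⟨k, hk⟩ : ∃ k, C.e 0 = cj (1 * d.emb k) (base S) := (he : IsEdge d 1 (C.e 0)).exists_eq
      set C' := chainMv C (d.emb k)⁻¹ with hC'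
      have he0 : C'.e 0 = base S := by
        show cj (d.emb k)⁻¹ (C.e 0) = base S
        rw [hk, one_mul, cj_inv_cj]
      have hH : 𝒮.H (C'.c 0) = (key d).1 := by
        show 𝒮.H (𝒮.mv (d.emb k)⁻¹ (C.c 0)) = _
        rw [hc0]
        show cj ((d.emb k)⁻¹ * 1) (key d).1 = _
        rw [mul_one, ← map_inv d.emb k]
        exact cj_emb_normal ⊤ k⁻¹
      have hc' : ¬ 𝒮.V (C'.c 0) ≤ 𝒮.Q (C'.c b) := by
        show ¬ 𝒮.V (𝒮.mv _ (C.c 0)) ≤ 𝒮.Q (𝒮.mv _ (C.c b))
        rw [𝒮.V_mv, 𝒮.Q_mv, cj_le_cj]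
        exact hc
      have hiv : 𝒮.edge (vtx i hi (autPerm φ)) (C'.e 0) := by
        rw [he0]
        show IsEdge i (autPerm φ) (base S)
        have := isEdge_self (m := i) (autPerm φ)
        rwa [cj_autPerm] at this
      rw [Subgroup.map_le_iff_le_comap, Member.low, Subgroup.map_commutator,
        Subgroup.map_top_of_surjective φ.toMonoidHom φ.surjective]
      refine Subgroup.commutator_le.mpr fun s _ y hy => ?_
      obtain ⟨w, hw, rfl⟩ := hy
      have h := rest fam_homog C' hc' hiv (fun g h => hiE ((hEp _).mp h)) (fun h => hiE ((hEp _).mp h))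
        (t := lam s) (y := lam (φ w)) (he0 ▸ ⟨s, rfl⟩) (by
          show lam (φ w) ∈ cj (autPerm φ) ((vmod i.P).map i.emb)
          rw [← autPerm_conj]
          exact conj_mem_cj ⟨i.τ w, hw, i.emb_τ w⟩)
      rw [hH] at h
      refine Subgroup.mem_center_iff.mpr fun g => d.emb_injective ?_
      rw [map_mul, map_mul, map_commutatorElement, map_commutatorElement, d.emb_τ, d.emb_τ]
      exact h _ ⟨g, mem_top g, rfl⟩
    have hout' : ∀ m : Member p S, Out X' m ↔ Out X m ∧ ¬ E m := by
      intro m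
      constructor
      · intro hm
        by_contra hcon
        refine hm (Subgroup.map_le_iff_le_comap.mpr (iSup_le fun i => iSup_le fun φ => ?_))
        rw [← Subgroup.map_le_iff_le_comap]
        by_cases hmX : Out X m
        · exact hrest m (by_contra fun h => hcon ⟨hmX, h⟩) i.1 i.2.1 i.2.2 φ
        · exact hinv m i.1 hmX i.2.1 φ
      · rintro ⟨hm, hmE⟩ hc
        refine low_not_central m (le_trans (Subgroup.map_mono ?_) hc)
        refine le_trans (le_of_eq ?_) (hle m hm hmE (MulEquiv.refl S))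
        exact (Subgroup.map_id _).symm
    have hX'ne : X' ≠ ⊥ := fun h => (hout' i₀).mpr ⟨hi₀, hi₀E⟩ (by rw [h, Subgroup.map_bot]; exact bot_le)
    have hinv' : ∀ h i : Member p S, ¬ Out X' h → Out X' i → ∀ φ : S ≃* S,
        (i.low.map φ.toMonoidHom).map h.τ ≤ center h.G := by
      intro h i hh hi φ
      obtain ⟨hiX, hiE⟩ := (hout' i).mp hi
      by_cases hhX : Out X h
      · exact hrest h (by_contra fun hne => hh ((hout' h).mpr ⟨hhX, hne⟩)) i hiX hiE φ
      · exact hinv h i hhX hiX φ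
    have hlt : (key '' {m : Member p S | Out X' m}).ncard < n := by
      rw [← hn]
      refine Set.ncard_lt_ncard ⟨Set.image_mono fun m hm => ((hout' m).mp hm).1, fun hsub => ?_⟩ (Set.toFinite _)
      obtain ⟨⟨d, hd⟩, g⟩ := x₀
      have hdE : E d := (hEp _).mp ⟨y₀, hxy, hxy'⟩
      obtain ⟨m, hm, hkey⟩ := hsub ⟨d, hd, rfl⟩
      exact ((hout' d).mp (Out.congr hkey hm)).2 hdE
    rcases ih _ hlt X' hX'ne hchar' hX'c hinv' rfl with h | ⟨hgood, k, hk, x, y, hk', hk''⟩
    · exact Or.inl h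
    · have hincl := reach_incl (fun m hm => ((hout' m).mp hm).1) k x y hk'
      have hbk : b ≤ k := Nat.find_min' hfail ⟨_, _, hincl, hk''⟩
      have hb' : b = 1 := by
        by_contra hne
        have hbk' : b = k := by omega
        refine ((hout' x.1.1).mp x.1.2).2 ((hEp (⟨x.1.1, ((hout' _).mp x.1.2).1⟩, x.2)).mp ?_)
        refine ⟨(⟨y.1.1, ((hout' _).mp y.1.2).1⟩, y.2), ?_, fun h => hk'' h⟩
        rw [hbk']; exact hincl
      refine Or.inr ⟨fun m hm => ?_, b, by omega, x₀, y₀, hxy, hxy'⟩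
      by_cases hmE : E m
      · exact hone hb' m hmE
      · exact hgood m ((hout' m).mpr ⟨hm, hmE⟩)

/-- The dichotomy for a `p`-group. -/
theorem engine [Nontrivial S] (hP : IsPGroup p S) : PairOK p S ∨ ∀ m : Member p S, Good m.toSit := by
  haveI := hP.center_nontrivial
  have hout : ∀ m : Member p S, Out (center S) m := by
    intro m h
    refine m.mild.noncentral (normal_of_le_center fun z hz => ?_)
    obtain ⟨s, rfl⟩ := m.mem_P.mp hz.1
    exact h ⟨s, m.center_iff.mp hz.2, rfl⟩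
  rcases step _ (center S) ((Subgroup.nontrivial_iff_ne_bot _).mp inferInstance) inferInstance le_rfl
    (fun h i hh _ => absurd (hout h) hh) rfl with h | ⟨h, -⟩
  · exact Or.inl h
  · exact Or.inr fun m => h m (hout m)

end CfsgLib.PushPair
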