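import Mathlib
import Cfsg.Prelude.Def_BaumannBlocks
import Cfsg.Agent.Lib.PushRankOne.CLPushing
import Cfsg.Agent.Lib.PushPair.Engine

/-!
The conditions on `S`, and the reductions to the case `C(Z(J(S))) = S`.
-/

set_option autoImplicit false
set_option linter.unusedSectionVars false

namespace CfsgLib.PushPair

open Cfsg Subgroup CfsgLib.PushUp CfsgLib.PushRankOne
open scoped commutatorElement

universe u

variable {p : ℕ} [Fact p.Prime] {S : Type u} [Group S] [Finite S]

/-- A characteristic intersection. -/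
theorem char_inf {H K : Subgroup S} (hH : H.Characteristic) (hK : K.Characteristic) : (H ⊓ K).Characteristic :=
  Subgroup.characteristic_iff_map_le.mpr fun φ => (Subgroup.map_inf_le _ _ _).trans
    (inf_le_inf (Subgroup.characteristic_iff_map_le.mp hH φ) (Subgroup.characteristic_iff_map_le.mp hK φ))

/-- A characteristic subgroup of a characteristic subgroup is characteristic. -/
theorem char_map_subtype {H : Subgroup S} (hH : H.Characteristic) {K : Subgroup H} (hK : K.Characteristic) :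
    (K.map H.subtype).Characteristic := by
  refine Subgroup.characteristic_iff_map_le.mpr fun φ => ?_
  rintro _ ⟨_, ⟨k, hk, rfl⟩, rfl⟩
  have hφ : H.map φ.toMonoidHom = H := Subgroup.characteristic_iff_map_eq.mp hH φ
  let ψ : H ≃* H := (H.equivMapOfInjective φ.toMonoidHom φ.injective).trans (MulEquiv.subgroupCongr hφ)
  exact ⟨ψ k, Subgroup.characteristic_iff_map_le.mp hK ψ ⟨k, hk, rfl⟩, rfl⟩

theorem inf_center_ne_bot (hP : IsPGroup p S) {N : Subgroup S} [N.Normal] (hN : N ≠ ⊥) : N ⊓ center S ≠ ⊥ := by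
  haveI := hP.isNilpotent
  exact inf_center_ne_bot_of_nilpotent hN

/-- The Frattini conditions. -/
structure Conds (p : ℕ) (S : Type u) [Group S] : Prop where
  frat : (frattini ↥(frattini S)).map (frattini S).subtype = ⊥
  two : p = 2 → ⁅frattini S, (⊤ : Subgroup S)⁆ = ⊥
  three : p = 3 → ⁅⁅frattini S, (⊤ : Subgroup S)⁆, (⊤ : Subgroup S)⁆ = ⊥
  big : 3 < p → ⁅frattini S, (⊤ : Subgroup S)⁆ = ⊥ ∧ powerClosure p 1 (⊤ : Subgroup S) = ⊥

theorem powerClosure_char (n : ℕ) {H : Subgroup S} (hH : H.Characteristic) :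
    (powerClosure p n H).Characteristic := by
  refine Subgroup.characteristic_iff_map_le.mpr fun φ => ?_
  rw [powerClosure, MonoidHom.map_closure]
  refine Subgroup.closure_mono ?_
  rintro _ ⟨_, ⟨x, hx, rfl⟩, rfl⟩
  exact ⟨φ x, Subgroup.characteristic_iff_map_le.mp hH φ ⟨x, hx, rfl⟩, map_pow φ x _⟩

/-- A characteristic subgroup fixed by all residuals gives a pair. -/
theorem pairOK_of_fix [Nontrivial S] (hP : IsPGroup p S) (X : Subgroup S) (hchar : X.Characteristic)
    (hX : X ≠ ⊥) (h : ∀ m : Member p S, X ≤ m.fix) : PairOK p S := by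
  haveI := hchar
  haveI := char_inf hchar (inferInstance : (center S).Characteristic)
  refine pairOK_top (X ⊓ center S) (inf_center_ne_bot hP hX) inf_le_right fun m => ?_
  rintro _ ⟨x, hx, rfl⟩
  refine eq_center_of_centralized (S := m.P) (res_sup (S := m.P)) (fun y hy => (h m hx.1) y hy) fun y hy => ?_
  exact (m.center_iff.mpr hx.2) y hy

theorem pair_or_conds [Nontrivial S] (hP : IsPGroup p S) : PairOK p S ∨ Conds p S := by
  rcases engine hP with h | hG
  · exact Or.inl h
  by_cases hpair : PairOK p S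
  · exact Or.inl hpair
  have key : ∀ X : Subgroup S, X.Characteristic → (∀ m : Member p S, X ≤ m.fix) → X = ⊥ := fun X hX h =>
    by_contra fun hne => hpair (pairOK_of_fix hP X hX hne h)
  haveI hΦ : (frattini S).Characteristic := frattini_characteristic
  haveI : (⁅frattini S, (⊤ : Subgroup S)⁆).Characteristic := Subgroup.commutator_characteristic _ _
  exact Or.inr ⟨key _ (char_map_subtype hΦ frattini_characteristic) fun m => (hG m).frat,
    fun h => key _ inferInstance fun m => (hG m).two h,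
    fun h => key _ (Subgroup.commutator_characteristic _ _) fun m => (hG m).three h,
    fun h => ⟨key _ inferInstance fun m => ((hG m).big h).1,
      key _ (powerClosure_char 1 inferInstance) fun m => (Subgroup.closure_le _).mpr (by
        rintro _ ⟨x, -, rfl⟩
        rw [pow_one]
        exact ((hG m).big h).2 x)⟩⟩

/-! ### Situations -/

variable (S) in
/-- `Z(J(S))`. -/
abbrev zjS : Subgroup S := thompsonSubgroupA S ⊓ centralizer (thompsonSubgroupA S : Set S)

variable (S) in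
/-- `C(Z(J(S)))`. -/
abbrev jt : Subgroup S := centralizer (zjS S : Set S)

variable (p S) in
/-- The pair asked for. -/
def PairSit : Prop :=
  ∃ S₁ S₂ : Subgroup S, S₁ ≠ ⊥ ∧ S₂ ≠ ⊥ ∧ S₁.Characteristic ∧ S₂.Characteristic ∧ S₁ ≤ center S ∧ S₂ ≤ jt S ∧
    (S₂.subgroupOf (jt S)).Characteristic ∧ maxCentralProduct S₂ = maxCentralProduct (jt S) ∧
    ∀ s : Sit p S, (S₁.map s.τ).Normal ∨ (S₂.map s.τ).Normal

theorem zjS_eq : CfsgLib.ZJ.zj 0 (⊤ : Subgroup S) = zjS S := by
  rw [CfsgLib.ZJ.zj, CfsgLib.ZJ.thompsonJ, CfsgLib.ZJ.goodMax_top_zero]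
  rfl

theorem Sit.zj_P (s : Sit p S) : CfsgLib.ZJ.zj 0 (s.P : Subgroup s.G) = (zjS S).map s.τ := by
  rw [s.range_eq, MonoidHom.range_eq_map, CfsgLib.ZJ.zj_map 0 s.inj, zjS_eq]

theorem Sit.map_jt (s : Sit p S) : (jt S).map s.τ =
    (s.P : Subgroup s.G) ⊓ centralizer (CfsgLib.ZJ.zj 0 (s.P : Subgroup s.G) : Set s.G) := by
  rw [s.zj_P, s.range_eq, MonoidHom.range_eq_map, map_inf_cent s.inj, top_inf_eq]

theorem Sit.hJ (s : Sit p S) (h : jt S = ⊤) :
    (s.P : Subgroup s.G) ≤ centralizer (CfsgLib.ZJ.zj 0 (s.P : Subgroup s.G) : Set s.G) := by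
  have h1 := s.map_jt
  rw [h, ← MonoidHom.range_eq_map, ← s.range_eq] at h1
  exact inf_eq_left.mp h1.symm

theorem Sit.map_center (s : Sit p S) : (center S).map s.τ = zs s.P := by
  ext x
  constructor
  · rintro ⟨z, hz, rfl⟩
    exact ⟨s.τ_mem z, s.center_iff.mpr hz⟩
  · intro hx
    obtain ⟨z, rfl⟩ := s.mem_P.mp hx.1
    exact ⟨z, s.center_iff.mp hx.2, rfl⟩

theorem Sit.exists_outside (s : Sit p S) (h : jt S = ⊤) (hz : ¬ zs s.P ≤ center s.G) :
    ¬ (zs s.P).Normal ∧ ∃ A ∈ CfsgLib.ZJ.goodMax 0 (s.P : Subgroup s.G), ¬ A ≤ pCore p s.G := by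
  refine ⟨fun hn => hz (center_of_zs_normal s.setting hn), ?_⟩
  by_contra hall
  push Not at hall
  rcases case_inside s.setting hall with h1 | h1
  · exact hz h1
  · rw [inf_eq_left.mpr (s.hJ h)] at h1
    exact not_le_core s.setting (@CfsgLib.le_pCore _ _ p _ h1 s.P.isPGroup')

theorem char_subgroupOf_top {H K : Subgroup S} (hK : K = ⊤) (hH : H.Characteristic) :
    (H.subgroupOf K).Characteristic := by
  refine Subgroup.characteristic_iff_map_le.mpr fun φ => ?_
  rintro _ ⟨x, hx, rfl⟩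
  subst hK
  exact Subgroup.characteristic_iff_map_le.mp hH ((Subgroup.topEquiv.symm.trans φ).trans Subgroup.topEquiv)
    ⟨(x : S), hx, rfl⟩

/-- A pair inside `S = C(Z(J(S)))`. -/
theorem pairSit_of (h : jt S = ⊤) {S₁ S₂ : Subgroup S} (h₁ : S₁ ≠ ⊥) (h₂ : S₂ ≠ ⊥) (c₁ : S₁.Characteristic)
    (c₂ : S₂.Characteristic) (hle : S₁ ≤ center S) (hm : maxCentralProduct S₂ = maxCentralProduct S)
    (hs : ∀ s : Sit p S, (S₁.map s.τ).Normal ∨ (S₂.map s.τ).Normal) : PairSit p S :=
  ⟨S₁, S₂, h₁, h₂, c₁, c₂, hle, h ▸ le_top, char_subgroupOf_top h c₂,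
    hm.trans (mcp_congr ((Subgroup.topEquiv.symm).trans (MulEquiv.subgroupCongr h.symm))), hs⟩

theorem pairSit_of_jt [Nontrivial S] (hP : IsPGroup p S) (h : ⁅zjS S, (⊤ : Subgroup S)⁆ ≠ ⊥) :
    PairSit p S := by
  haveI hA : (thompsonSubgroupA S).Characteristic := by
    refine Subgroup.characteristic_iff_map_le.mpr fun φ => ?_
    have h1 := CfsgLib.ZJ.thompsonJ_map 0 (f := φ.toMonoidHom) φ.injective (⊤ : Subgroup S)
    rw [Subgroup.map_top_of_surjective φ.toMonoidHom φ.surjective, CfsgLib.ZJ.thompsonJ,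
      CfsgLib.ZJ.goodMax_top_zero] at h1
    exact h1.ge
  haveI hZ : (zjS S).Characteristic := char_inf hA (inferInstance : (centralizer _).Characteristic)
  haveI hJt : (jt S).Characteristic := inferInstance
  haveI : (⁅zjS S, (⊤ : Subgroup S)⁆).Characteristic := Subgroup.commutator_characteristic _ _
  refine ⟨⁅zjS S, ⊤⁆ ⊓ center S, jt S, inf_center_ne_bot hP h, fun h0 => ?_, char_inf inferInstance inferInstance,
    hJt, inf_le_right, le_rfl, ?_, rfl, fun s => ?_⟩
  · exact (bot_lt_iff_ne_bot.mpr (inf_center_ne_bot hP h)).ne' (le_bot_iff.mp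
      (inf_le_right.trans ((Subgroup.center_le_centralizer _).trans h0.le)))
  · rw [Subgroup.subgroupOf_self]; infer_instance
  · have hle : (⁅zjS S, ⊤⁆ ⊓ center S).map s.τ ≤
        ⁅CfsgLib.ZJ.zj 0 (s.P : Subgroup s.G), (s.P : Subgroup s.G)⁆ ⊓ zs s.P := by
      refine (Subgroup.map_inf_le _ _ _).trans (inf_le_inf ?_ s.map_center.le)
      rw [Subgroup.map_commutator, ← s.zj_P, ← MonoidHom.range_eq_map, ← s.range_eq]
    rcases trichotomy s.setting with h1 | h1 | ⟨-, h1⟩
    · exact Or.inl (normal_of_le_center (hle.trans (inf_le_right.trans h1)))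
    · exact Or.inr (s.map_jt ▸ h1)
    · exact Or.inl (normal_of_le_center (hle.trans h1.comm_le))

theorem jt_eq_top (h : ⁅zjS S, (⊤ : Subgroup S)⁆ = ⊥) : jt S = ⊤ := by
  refine top_le_iff.mp fun x _ => ?_
  exact Subgroup.commutator_eq_bot_iff_le_centralizer.mp ((Subgroup.commutator_comm _ _).trans h) (mem_top x)

/-- Either a pair exists, or the centre is elementary and the conditions hold. -/
theorem pairSit_or_conds [Nontrivial S] (hP : IsPGroup p S) (h : jt S = ⊤) :
    PairSit p S ∨ (∀ z ∈ center S, z ^ p = 1) ∧ Conds p S := by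
  by_cases hel : ∀ z ∈ center S, z ^ p = 1
  swap
  · refine Or.inl ?_
    push Not at hel
    obtain ⟨z, hz, hz1⟩ := hel
    refine pairSit_of h (S₁ := powerClosure p 1 (center S)) (S₂ := ⊤) (fun h0 => hz1 ?_) top_ne_bot
      (powerClosure_char 1 inferInstance) inferInstance ((Subgroup.closure_le _).mpr ?_)
      (mcp_congr Subgroup.topEquiv) fun s => Or.inl (normal_of_le_center ?_)
    · rw [← Subgroup.mem_bot, ← h0]
      exact Subgroup.subset_closure ⟨z, hz, by rw [pow_one]⟩
    · rintro _ ⟨x, hx, rfl⟩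
      exact pow_mem hx _
    · rw [powerClosure, MonoidHom.map_closure, Subgroup.closure_le]
      rintro _ ⟨_, ⟨x, hx, rfl⟩, rfl⟩
      rw [map_pow, pow_one]
      have hx' : s.τ x ∈ zs s.P := s.map_center.le ⟨x, hx, rfl⟩
      by_cases hzc : zs s.P ≤ center s.G
      · exact pow_mem (hzc hx') p
      · obtain ⟨hn, A, hA, hAQ⟩ := s.exists_outside h hzc
        exact (outside s.setting (mdl_closure s.setting hn) hA hAQ).power _ (Subgroup.le_normalClosure hx')
  rcases pair_or_conds hP with ⟨S₁, S₂, h₁, h₂, c₁, c₂, hle, hm, hall⟩ | hc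
  · refine Or.inl (pairSit_of h h₁ h₂ c₁ c₂ hle hm fun s => ?_)
    by_cases hzc : zs s.P ≤ center s.G
    · exact Or.inl (normal_of_le_center ((Subgroup.map_mono hle).trans (s.map_center.le.trans hzc)))
    · obtain ⟨hn, hA⟩ := s.exists_outside h hzc
      have hm : Mild s.P := ⟨hn, ⟨0, Or.inl rfl, hA⟩, fun x hx => by
        obtain ⟨z, hz, rfl⟩ := s.map_center.ge hx
        rw [← map_pow, hel z hz, map_one]⟩
      rcases hall { toSit := s, mild := hm } with h1 | h1
      · exact Or.inl (normal_of_le_center h1)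
      · exact Or.inr h1
  · exact Or.inr ⟨hel, hc⟩

theorem exists_sit {G : Type u} [Group G] [Finite G] (τ : S →* G) (hτ : Function.Injective τ) (P : Sylow p G)
    (hP : (P : Subgroup G) = τ.range) (hE₁ : centralizer (pCore p G : Set G) ≤ pCore p G)
    (hE₂ : ∃! M : Subgroup G, IsCoatom M ∧ (P : Subgroup G) ≤ M) (K : Subgroup G) [K.Normal] (F : Type) [Field F]
    [Fintype F] (n : ℕ) (hF : Fintype.card F = p ^ n)
    (hE₃ : Nonempty (G ⧸ K ≃* Matrix.ProjectiveSpecialLinearGroup (Fin 2) F)) :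
    ∀ {S₁ S₂ : Subgroup S}, (∀ s : Sit p S, (S₁.map s.τ).Normal ∨ (S₂.map s.τ).Normal) →
      (S₁.map τ).Normal ∨ (S₂.map τ).Normal := by
  intro S₁ S₂ h
  haveI : CharP F p := charP_of_card_eq_prime_pow (f := n) hF
  have hn : 1 ≤ n := Nat.one_le_iff_ne_zero.mpr fun h0 => by
    have := Fintype.one_lt_card (α := F)
    rw [hF, h0, pow_zero] at this
    exact lt_irrefl _ this
  obtain ⟨e⟩ := hE₃
  exact h ⟨G, τ, hτ, P, hP, setting P hE₁ hE₂ K F n hn hF ⟨e⟩, hE₂, F, inferInstance, inferInstance, inferInstance,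
    e.toMonoidHom.comp (QuotientGroup.mk' K), e.surjective.comp (QuotientGroup.mk'_surjective K)⟩

theorem normal_of_situation {G : Type u} [Group G] [Finite G] {P : Subgroup G} (e : S ≃* P)
    (h : IsPushingUpSituation p P) {S₁ S₂ : Subgroup S}
    (hall : ∀ s : Sit p S, (S₁.map s.τ).Normal ∨ (S₂.map s.τ).Normal) :
    (S₁.map (P.subtype.comp (e : S ≃* P).toMonoidHom)).Normal ∨
      (S₂.map (P.subtype.comp (e : S ≃* P).toMonoidHom)).Normal := by
  obtain ⟨-, ⟨R, rfl⟩, hE₁, hE₂, K, hK, F, _, _, n, hF, hE₃⟩ := h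
  haveI := hK
  refine exists_sit _ (fun a b h => e.injective ((R : Subgroup G).subtype_injective h)) R ?_ hE₁ hE₂ K F n hF hE₃ hall
  rw [MonoidHom.range_comp, MonoidHom.range_eq_top.mpr e.surjective, ← MonoidHom.range_eq_map, Subgroup.range_subtype]

end CfsgLib.PushPair
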