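import Mathlib
import Cfsg.Agent.Lib.CentrallyLarge
import Cfsg.Agent.Lib.PushPair.Reduce

/-!
The pairs from minimal centrally large subgroups, and the lattice facts when they are abelian.
-/

set_option autoImplicit false
set_option linter.unusedSectionVars false

namespace CfsgLib.PushPair

open Cfsg Subgroup CfsgLib.PushUp CfsgLib.PushRankOne
open scoped commutatorElement Pointwise

universe u

section Transport

variable {X Y : Type*} [Group X] [Group Y] [Finite X] [Finite Y] {p : ℕ} [Fact p.Prime] (e : X ≃* Y)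

theorem isMinimalCentrallyLarge_map {R : Subgroup X} :
    IsMinimalCentrallyLarge (R.map e.toMonoidHom) ↔ IsMinimalCentrallyLarge R := by
  rw [isMinimalCentrallyLarge_minIn, isMinimalCentrallyLarge_minIn, ← mcp_congr e]
  exact minIn_map e.injective

theorem card_omegaOneCenter_map (R : Subgroup X) :
    Nat.card ↥(omegaOneCenter p (R.map e.toMonoidHom)) = Nat.card ↥(omegaOneCenter p R) := by
  rw [card_omegaOneCenter, card_omegaOneCenter]
  set f : R ≃* R.map e.toMonoidHom := R.equivMapOfInjective e.toMonoidHom e.injective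
  refine (Nat.card_congr (f.toEquiv.subtypeEquiv fun x => ?_)).symm
  show x ∈ center R ∧ x ^ p = 1 ↔ f x ∈ center _ ∧ f x ^ p = 1
  refine and_congr ⟨fun hx => Subgroup.mem_center_iff.mpr fun y => ?_, fun hx => ?_⟩ ?_
  · obtain ⟨y, rfl⟩ := f.surjective y
    rw [← map_mul, ← map_mul, Subgroup.mem_center_iff.mp hx y]
  · exact Subgroup.mem_center_iff.mpr fun y => f.injective (by
      rw [map_mul, map_mul]; exact Subgroup.mem_center_iff.mp hx (f y))
  · rw [← map_pow, map_eq_one_iff f f.injective]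

theorem minimalJoin_map : (minimalCentrallyLargeJoin X).map e.toMonoidHom = minimalCentrallyLargeJoin Y := by
  refine le_antisymm ?_ ?_
  · rw [Subgroup.map_le_iff_le_comap]
    refine sSup_le fun R hR => Subgroup.map_le_iff_le_comap.mp (le_sSup ?_)
    exact (isMinimalCentrallyLarge_map e).mpr hR
  · refine sSup_le fun R (hR : IsMinimalCentrallyLarge R) => ?_
    have e1 : (R.comap e.toMonoidHom).map e.toMonoidHom = R :=
      Subgroup.map_comap_eq_self_of_surjective e.surjective R
    rw [← e1] at hR ⊢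
    exact Subgroup.map_mono (le_sSup ((isMinimalCentrallyLarge_map e).mp hR))

include e in
theorem maxOmega_map : maxOmegaCenterOfMinimalCL p X = maxOmegaCenterOfMinimalCL p Y := by
  refine congrArg sSup (Set.ext fun k => ⟨?_, ?_⟩)
  · rintro ⟨R, hR, rfl⟩
    exact ⟨_, (isMinimalCentrallyLarge_map e).mpr hR, card_omegaOneCenter_map e R⟩
  · rintro ⟨R, hR, rfl⟩
    have e1 : (R.comap e.toMonoidHom).map e.toMonoidHom = R :=
      Subgroup.map_comap_eq_self_of_surjective e.surjective R
    exact ⟨R.comap e.toMonoidHom, (isMinimalCentrallyLarge_map e).mp (e1.symm ▸ hR),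
      by rw [← card_omegaOneCenter_map e, e1]⟩

theorem frattini_map_of (R : Subgroup X) :
    ((frattini R).map R.subtype).map e.toMonoidHom ≤
      (frattini ↥(R.map e.toMonoidHom)).map (R.map e.toMonoidHom).subtype := by
  rintro _ ⟨_, ⟨r, hr, rfl⟩, rfl⟩
  refine ⟨R.equivMapOfInjective e.toMonoidHom e.injective r, ?_, rfl⟩
  exact frattini_le_comap_frattini_of_surjective
    (φ := (R.equivMapOfInjective e.toMonoidHom e.injective).toMonoidHom) (R.equivMapOfInjective e.toMonoidHom e.injective).surjective hr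

theorem frattiniJoin_le : (frattiniOfMinimalCLJoin p X).map e.toMonoidHom ≤ frattiniOfMinimalCLJoin p Y := by
  rw [Subgroup.map_le_iff_le_comap]
  refine iSup_le fun R => Subgroup.map_le_iff_le_comap.mp ((frattini_map_of e R.1).trans ?_)
  exact le_iSup (fun Q : {Q : Subgroup Y // IsMinimalCentrallyLarge Q ∧
      Nat.card ↥(omegaOneCenter p Q) = maxOmegaCenterOfMinimalCL p Y} => (frattini Q.1).map Q.1.subtype)
    ⟨_, (isMinimalCentrallyLarge_map e).mpr R.2.1, by rw [card_omegaOneCenter_map, R.2.2, maxOmega_map e]⟩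

theorem frattiniJoin_map : (frattiniOfMinimalCLJoin p X).map e.toMonoidHom = frattiniOfMinimalCLJoin p Y := by
  refine le_antisymm (frattiniJoin_le e) ?_
  have h := Subgroup.map_mono (f := e.toMonoidHom) (frattiniJoin_le (p := p) e.symm)
  rwa [Subgroup.map_map, show e.toMonoidHom.comp e.symm.toMonoidHom = MonoidHom.id Y from
    MonoidHom.ext e.apply_symm_apply, Subgroup.map_id] at h

end Transport

variable {p : ℕ} [Fact p.Prime] {S : Type u} [Group S] [Finite S]

theorem minimalJoin_char : (minimalCentrallyLargeJoin S).Characteristic :=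
  Subgroup.characteristic_iff_map_eq.mpr fun φ => minimalJoin_map φ

theorem frattiniJoin_char : (frattiniOfMinimalCLJoin p S).Characteristic :=
  Subgroup.characteristic_iff_map_eq.mpr fun φ => frattiniJoin_map φ

/-- `S` as the Sylow subgroup of a situation. -/
noncomputable def Sit.equiv (s : Sit p S) : S ≃* (s.P : Subgroup s.G) :=
  (MonoidHom.ofInjective s.inj).trans (MulEquiv.subgroupCongr s.range_eq.symm)

theorem Sit.map_equiv (s : Sit p S) (X : Subgroup S) :
    (X.map s.equiv.toMonoidHom).map (s.P : Subgroup s.G).subtype = X.map s.τ := by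
  rw [Subgroup.map_map]; rfl

theorem pairSit_derived (hP : IsPGroup p S) (h : jt S = ⊤) {R : Subgroup S} (hR : IsMinimalCentrallyLarge R)
    (hne : ⁅R, R⁆ ≠ ⊥) : PairSit p S := by
  haveI := commutator_characteristic hR
  refine pairSit_of h (S₁ := ⁅R, R⁆ ⊓ center S) (S₂ := minimalCentrallyLargeJoin S)
    (inf_center_ne_bot hP hne) (fun h0 => hne (le_bot_iff.mp ?_)) (char_inf inferInstance inferInstance)
    minimalJoin_char inf_le_right (mcp_of_ge hR.1 (le_sSup hR)) fun s => ?_
  · exact (Subgroup.commutator_le_self R).trans ((show R ≤ minimalCentrallyLargeJoin S from le_sSup hR).trans h0.le)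
  rcases derived_main s.setting (s.hJ h) ((isMinimalCentrallyLarge_map s.equiv).mpr hR) with h1 | h1
  · refine Or.inl ?_
    have e : (⁅R, R⁆ ⊓ center S).map s.τ =
        zs s.P ⊓ (⁅R.map s.equiv.toMonoidHom, R.map s.equiv.toMonoidHom⁆).map (s.P : Subgroup s.G).subtype := by
      rw [← Subgroup.map_commutator, s.map_equiv, ← s.map_center, ← Subgroup.map_inf _ _ _ s.inj, inf_comm]
    rw [e]; exact h1
  · refine Or.inr ?_
    rw [← s.map_equiv, minimalJoin_map]
    exact h1

theorem pairSit_frattini [Nontrivial S] (hP : IsPGroup p S) (h : jt S = ⊤)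
    (hne : frattiniOfMinimalCLJoin p S ≠ ⊥) :
    ∀ s : Sit p S, ((center S).map s.τ).Normal ∨ ((frattiniOfMinimalCLJoin p S).map s.τ).Normal := by
  intro s
  rw [s.map_center, ← s.map_equiv, frattiniJoin_map]
  exact frattini_main s.setting (s.hJ h)

open CfsgLib.CentrallyLarge CfsgLib.Products in
/-- The lattice facts when the minimal centrally large subgroups are abelian. -/
theorem lattice_facts (h : jt S = ⊤) (hiff : ∀ Q : Subgroup S, IsMinimalCentrallyLarge Q ↔ Q ∈ maxAbelianSubgroups S) :
    thompsonSubgroupA S = ⊤ ∧ ∀ A ∈ maxAbelianSubgroups S, ∀ B ∈ maxAbelianSubgroups S, ∀ Q : Subgroup S,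
      Nat.card ↥A ^ 2 = Nat.card S * Nat.card ↥(center S) ∧
      Nat.card ↥Q * Nat.card ↥(center ↥Q) ≤ Nat.card S * Nat.card ↥(center S) ∧
      ((A ⊔ B : Subgroup S) : Set S) = (A : Set S) * (B : Set S) ∧
      A ⊔ B = centralizer ((A ⊓ B : Subgroup S) : Set S) := by
  have hmax : ∀ A ∈ maxAbelianSubgroups S, Large A ∧ centralizer (A : Set S) = A := fun A hA =>
    ⟨(isCentrallyLarge_iff.mp ((hiff A).mpr hA).1).1, (maxAb_iff.mp hA).centralizer_eq⟩
  obtain ⟨A₀, hA₀⟩ : (maxAbelianSubgroups S).Nonempty := ⟨_, maxAb_iff.mpr (exists_maxAb (G := S)).choose_spec⟩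
  set D := sInf (maxAbelianSubgroups S) with hD
  have hDl : Large D := sInf_large ⟨A₀, hA₀⟩ fun A hA => (hmax A hA).1
  have hcen : ∀ A ∈ maxAbelianSubgroups S, center S ≤ A := fun A hA => by
    rw [← (hmax A hA).2]; exact Subgroup.center_le_centralizer _
  have hDc : D = center S := by
    refine le_antisymm (fun x hx => ?_) (le_sInf hcen)
    have hxA : ∀ A ∈ maxAbelianSubgroups S, x ∈ A := fun A hA => Subgroup.mem_sInf.mp hx A hA
    have hxJ : x ∈ zjS S := by
      refine ⟨(le_sSup hA₀ : A₀ ≤ thompsonSubgroupA S) (hxA A₀ hA₀), ?_⟩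
      have : thompsonSubgroupA S ≤ centralizer {x} := sSup_le fun A hA a ha => by
        rw [mem_centralizer_singleton_iff]
        have h1 : x ∈ centralizer (A : Set S) := (hmax A hA).2.ge (hxA A hA)
        exact h1 a ha
      exact fun y hy => mem_centralizer_singleton_iff.mp (this hy)
    exact Subgroup.mem_center_iff.mpr fun y => ((h.ge (mem_top y)) x hxJ).symm
  rw [hDc] at hDl
  have hctop : centralizer (center S : Set S) = ⊤ :=
    top_le_iff.mp fun y _ z hz => (Subgroup.mem_center_iff.mp hz y).symm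
  have hf : ∀ L : Subgroup S, Nat.card L * Nat.card ↥(centralizer (L : Set S)) ≤
      Nat.card S * Nat.card ↥(center S) := fun L => by
    refine (hDl L).trans (le_of_eq ?_)
    show Nat.card (center S) * Nat.card ↥(centralizer (center S : Set S)) = _
    rw [hctop, Subgroup.card_top, mul_comm]
  have hJl : Large (thompsonSubgroupA S) := sSup_large ⟨A₀, hA₀⟩ fun A hA => (hmax A hA).1
  have hJ : thompsonSubgroupA S = ⊤ := by
    have hζ : centralizer (thompsonSubgroupA S : Set S) = center S := by
      refine le_antisymm ?_ (Subgroup.center_le_centralizer _)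
      rw [← hDc]
      exact le_sInf fun A hA => (Subgroup.centralizer_le (SetLike.coe_subset_coe.2 (le_sSup hA))).trans (hmax A hA).2.le
    rw [← hJl.centralizer_centralizer, hζ, hctop]
  refine ⟨hJ, fun A hA B hB Q => ⟨?_, ?_, ?_, ?_⟩⟩
  · have h1 := eq_of_large (hmax A hA).1 hDl
    simp only [cdMeasure, (hmax A hA).2, hctop, Subgroup.card_top] at h1
    rw [pow_two, h1, mul_comm]
  · rw [center_card]
    exact (Nat.mul_le_mul_left _ (Subgroup.card_le_of_le inf_le_right)).trans (hf Q)
  · refine Set.Subset.antisymm (fun g hg => ?_) ?_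
    · obtain ⟨a, ha, b, hb, rfl⟩ := (hmax B hB).1.exists_mul (hmax A hA).1 (g := g) (by rwa [sup_comm])
      exact ⟨a, ha, b, hb, rfl⟩
    · rintro _ ⟨a, ha, b, hb, rfl⟩
      exact Subgroup.mul_mem_sup ha hb
  · rw [(hmax A hA).1.centralizer_inf (hmax B hB).1, (hmax A hA).2, (hmax B hB).2]

/-- An abelian `p`-group has no situation. -/
theorem pairSit_abelian [Nontrivial S] (hab : IsMulCommutative S) (h : jt S = ⊤) : PairSit p S := by
  have hc : center S = ⊤ := top_le_iff.mp fun x _ => Subgroup.mem_center_iff.mpr fun y => hab.1.comm y x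
  refine pairSit_of h (S₁ := ⊤) (S₂ := ⊤) top_ne_bot top_ne_bot inferInstance inferInstance hc.ge
    (mcp_congr Subgroup.topEquiv) fun s => ?_
  exfalso
  obtain ⟨x, hx, hxQ⟩ := s.setting.exists_mem
  refine hxQ (s.setting.charP fun q hq => ?_)
  obtain ⟨a, rfl⟩ := s.mem_P.mp hx
  obtain ⟨b, rfl⟩ := s.mem_P.mp (s.setting.core_le hq)
  rw [← map_mul, ← map_mul, hab.1.comm]

/-- The conditions in the form of the statements. -/
theorem exceptional (hP : IsPGroup p S) (hn : ¬ IsMulCommutative S) (hel : ∀ z ∈ center S, z ^ p = 1) (hC : Conds p S) :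
    IsElementaryAbelian p (center S) ∧ IsElementaryAbelian p (frattini S) ∧
      (p = 2 → frattini S ≤ center S) ∧ (p = 3 → frattini S ≤ Subgroup.upperCentralSeries S 2) ∧
      (3 < p → frattini S ≤ center S ∧ Monoid.exponent S = p) := by
  have hcen : ⁅frattini S, (⊤ : Subgroup S)⁆ = ⊥ → frattini S ≤ center S := fun h0 => by
    rw [← Subgroup.centralizer_univ, ← Subgroup.coe_top]
    exact Subgroup.commutator_eq_bot_iff_le_centralizer.mp h0
  obtain ⟨hc, hp'⟩ := frattini_facts (p := p) (hP.to_subgroup (frattini S))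
  rw [hC.frat] at hc hp'
  refine ⟨⟨⟨⟨fun a b => Subtype.ext (Subgroup.mem_center_iff.mp b.2 a)⟩⟩, hel⟩,
    ⟨⟨⟨fun a b => Subtype.ext (commutatorElement_eq_one_iff_mul_comm.mp (Subgroup.mem_bot.mp (hc a a.2 b b.2)))⟩⟩,
      fun a ha => Subgroup.mem_bot.mp (hp' a ha)⟩,
    fun h => hcen (hC.two h), fun h x hx => ?_, fun h => ⟨hcen (hC.big h).1, ?_⟩⟩
  · rw [Subgroup.mem_upperCentralSeries_succ_iff]
    intro y
    rw [Subgroup.upperCentralSeries_one, Subgroup.mem_center_iff]
    intro z
    have h1 : ⁅⁅x, y⁆, z⁆ ∈ ⁅⁅frattini S, (⊤ : Subgroup S)⁆, (⊤ : Subgroup S)⁆ :=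
      Subgroup.commutator_mem_commutator (Subgroup.commutator_mem_commutator hx (mem_top y)) (mem_top z)
    rw [hC.three h, Subgroup.mem_bot, commutatorElement_eq_one_iff_mul_comm] at h1
    simpa [commutatorElement_def] using h1.symm
  · have hexp : Monoid.exponent S ∣ p := Monoid.exponent_dvd_of_forall_pow_eq_one fun s => by
      have h1 : s ^ p ^ 1 ∈ powerClosure p 1 (⊤ : Subgroup S) := Subgroup.subset_closure ⟨s, mem_top s, rfl⟩
      rw [(hC.big h).2, Subgroup.mem_bot, pow_one] at h1
      exact h1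
    rcases (Nat.dvd_prime (Fact.out : p.Prime)).mp hexp with h1 | h1
    · haveI := Monoid.exp_eq_one_iff.mp h1
      exact absurd ⟨⟨fun a b => Subsingleton.elim _ _⟩⟩ hn
    · exact h1

end CfsgLib.PushPair
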