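import Mathlib
import Cfsg.Agent.Lib.PushPair.Graph
import Cfsg.Agent.Lib.PushUp.Summary

/-!
A maximal local subgroup that misses part of the normalizer of its Sylow subgroup, seen in the whole group.
-/

set_option autoImplicit false
set_option linter.unusedSectionVars false

namespace CfsgLib.PushPair

open Cfsg Subgroup CfsgLib.PushUp CfsgLib.PushRankOne

universe u

variable {H : Type u} [Group H] [Finite H] {p : ℕ} [Fact p.Prime] {G : Subgroup H} {S : Sylow p G}

/-- The Sylow subgroup inside the whole group. -/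
abbrev up (X : Subgroup G) : Subgroup H := X.map G.subtype

theorem cj_up {X : Subgroup G} [X.Normal] (k : G) : cj (k : H) (up X) = up X :=
  cj_eq_self (Subgroup.le_normalizer_map G.subtype ⟨k, norm_of_normal X k, rfl⟩)

theorem cj_self (k : G) : cj (k : H) G = G := cj_eq_self (Subgroup.le_normalizer k.2)

/-- The edges are the conjugates of the Sylow subgroup inside a conjugate of `G`. -/
def LocEdge (S : Sylow p G) (g : H) (T : Subgroup H) : Prop :=
  (∃ γ, T = cj γ (up (S : Subgroup G))) ∧ T ≤ cj g G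

theorem LocEdge.exists_eq {g : H} {T : Subgroup H} (h : LocEdge S g T) :
    ∃ k : G, T = cj (g * (k : H)) (up (S : Subgroup G)) := by
  obtain ⟨⟨γ, rfl⟩, hle⟩ := h
  set T' := (cj (g⁻¹ * γ) (up (S : Subgroup G))).comap G.subtype with hT'
  have hsub : cj (g⁻¹ * γ) (up (S : Subgroup G)) ≤ G := by
    intro x hx
    have h1 : g * x * g⁻¹ ∈ cj g G := hle (by
      rw [mem_cj] at hx ⊢
      simpa [mul_assoc] using hx)
    simpa [mul_assoc] using mem_cj.mp h1
  have hmap : T'.map G.subtype = cj (g⁻¹ * γ) (up (S : Subgroup G)) := by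
    rw [hT', Subgroup.map_comap_eq, Subgroup.range_subtype]
    exact inf_eq_right.mpr hsub
  have hcard : Nat.card T' = Nat.card (S : Subgroup G) := by
    rw [← Subgroup.card_map_of_injective G.subtype_injective (K := T'), hmap,
      Subgroup.card_map_of_injective (MulEquiv.injective _), Subgroup.card_map_of_injective G.subtype_injective]
  have hp : IsPGroup p T' :=
    ((S.isPGroup'.map G.subtype).map (MulAut.conj (g⁻¹ * γ)).toMonoidHom).comap_of_injective _ G.subtype_injective
  obtain ⟨R, hR⟩ := hp.exists_le_sylow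
  have hPT : T' = (R : Subgroup G) := Subgroup.eq_of_le_of_card_ge hR (by
    rw [hcard]
    obtain ⟨k, rfl⟩ := MulAction.exists_smul_eq G S R
    exact (Subgroup.card_map_of_injective (MulEquiv.injective _)).le)
  obtain ⟨k, hk⟩ := MulAction.exists_smul_eq G S R
  refine ⟨k, ?_⟩
  have hk' : T' = cj k (S : Subgroup G) := by rw [hPT, ← hk]; rfl
  rw [← cj_cj g (k : H), show cj (k : H) (up (S : Subgroup G)) = (cj k (S : Subgroup G)).map G.subtype from
    (map_cj k _).symm, ← hk', hmap, cj_cj, mul_inv_cancel_left]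

theorem locEdge_self (g : H) : LocEdge S g (cj g (up (S : Subgroup G))) :=
  ⟨⟨g, rfl⟩, Subgroup.map_mono (Subgroup.map_subtype_le _)⟩

theorem pull_loc (m : H) (k : G) (X : Subgroup G) [X.Normal] :
    cj (m * (k : H)) (up X) = cj m (up X) := by rw [← cj_cj, cj_up]

variable (hS : Setting S) (hd : Mild S)
include hS hd

theorem flag_loc {g : H} {T : Subgroup H} (h : LocEdge S g T) :
    Flag p (cj g G) (cj g (up (pCore p G))) (cj g (up (vmod S))) T := by
  obtain ⟨k, rfl⟩ := h.exists_eq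
  haveI : (vmod S).Normal := normalClosure_normal
  have hf : Function.Injective ((MulAut.conj (g * (k : H))).toMonoidHom.comp G.subtype) :=
    fun a b h => G.subtype_injective ((MulAut.conj (g * (k : H))).injective h)
  have h := (flag_top hS hd).map hf
  rw [map_conj_comp, map_conj_comp, map_conj_comp, map_conj_comp, ← MonoidHom.range_eq_map, Subgroup.range_subtype,
    ← cj_cj g (k : H) G, cj_self, pull_loc, pull_loc] at h
  exact h

theorem exists_mover (hp : 5 ≤ p) (hE₂ : ∃! M : Subgroup G, IsCoatom M ∧ (S : Subgroup G) ≤ M)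
    (hpsl : ∃ (F : Type) (_ : Field F) (_ : Fintype F) (_ : CharP F p)
      (f : G →* Matrix.ProjectiveSpecialLinearGroup (Fin 2) F), Function.Surjective f)
    (hopp : ∃ g : G, Opp ⊤ (pCore p G) (S : Subgroup G) (cj g (S : Subgroup G)))
    (hmax : ∀ X : Subgroup G, X.Normal → IsPGroup p X → X ≠ ⊥ → normalizer (up X : Set H) ≤ G)
    (hN : ¬ normalizer (up (S : Subgroup G) : Set H) ≤ G) :
    (∃ A, One S A) ∧ ∃ n ∈ normalizer (up (S : Subgroup G) : Set H),
      ¬ cj n (up (vmod S)) ≤ up (pCore p G) := by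
  haveI hVn : (vmod S).Normal := normalClosure_normal
  obtain ⟨n₀, hn₀, hn₀G⟩ := SetLike.not_le_iff_exists.mp hN
  let IsE := LocEdge S
  have hmv : ∀ g v T, IsE v T → IsE (g * v) (cj g T) := by
    rintro g v T ⟨⟨γ, rfl⟩, hle⟩
    exact ⟨⟨g * γ, cj_cj _ _ _⟩, (Subgroup.map_mono hle).trans (cj_cj _ _ _).le⟩
  let W : Subgroup H → Subgroup H := fun T => ⨆ u : {u : H // IsE u T ∧ True}, cj (u : H) (up (vmod S))
  have hWle : ∀ {u : H} {T}, IsE u T → cj u (up (vmod S)) ≤ W T := fun {u T} hu =>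
    le_iSup (fun u : {u : H // IsE u T ∧ True} => cj (u : H) (up (vmod S))) ⟨u, hu, trivial⟩
  have hWmv : ∀ g T, cj g (W T) ≤ W (cj g T) := fun g T => by
    rw [cj, Subgroup.map_le_iff_le_comap]
    refine iSup_le fun u => ?_
    rw [← Subgroup.map_le_iff_le_comap]
    exact (cj_cj _ _ _).le.trans (hWle (hmv g u T u.2.1))
  have hone : IsE 1 (up (S : Subgroup G)) := by
    have h := locEdge_self (S := S) (1 : H)
    rwa [cj_one] at h
  have hVne : vmod S ≠ ⊥ := fun h0 => zs_ne_bot hS (le_bot_iff.mp (Subgroup.le_normalClosure.trans h0.le))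
  have halive : ∀ v T, IsE v T → ¬ cj v G ≤ normalizer (W T : Set H) := by
    intro v T hv hle
    obtain ⟨k, hk⟩ := hv.exists_eq
    set m := v * (k : H) with hm
    have hW0 : cj m⁻¹ (W T) = W (up (S : Subgroup G)) := by
      have e : cj m⁻¹ T = up (S : Subgroup G) := by rw [hk, cj_cj, inv_mul_cancel, cj_one]
      refine le_antisymm ((hWmv _ _).trans (by rw [e])) ?_
      rw [← cj_le_cj (g := m), cj_cj_inv]
      exact (hWmv _ _).trans (by rw [hk])
    have hWS : W (up (S : Subgroup G)) ≤ up (S : Subgroup G) :=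
      iSup_le fun u => (flag_loc hS hd u.2.1).V_le_T
    set X := (W (up (S : Subgroup G))).comap G.subtype with hX
    have hXmap : up X = W (up (S : Subgroup G)) := by
      rw [hX, up, Subgroup.map_comap_eq, Subgroup.range_subtype]
      exact inf_eq_right.mpr (hWS.trans (Subgroup.map_subtype_le _))
    have hXn : X.Normal := ⟨fun x hx g => by
      show (g : H) * x * (g : H)⁻¹ ∈ W (up (S : Subgroup G))
      have hx' : (x : H) ∈ cj m⁻¹ (W T) := by rw [hW0]; exact hx
      rw [← hW0]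
      rw [mem_cj, inv_inv] at hx' ⊢
      have hg : m * (g : H) * m⁻¹ ∈ normalizer (W T : Set H) := hle (by
        rw [hm, mem_cj]
        have e : v⁻¹ * (v * (k : H) * (g : H) * (v * (k : H))⁻¹) * v = ((k * g * k⁻¹ : G) : H) := by
          push_cast; group
        rw [e]; exact SetLike.coe_mem _)
      have h2 := conj_mem hg hx'
      simpa [mul_assoc] using h2⟩
    have hXp : IsPGroup p X := (S.isPGroup'.map G.subtype |>.to_le hWS).comap_of_injective _ G.subtype_injective
    have hXne : X ≠ ⊥ := fun h0 => hVne (by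
      have h1 : cj (1 : H) (up (vmod S)) ≤ up X := hXmap ▸ hWle hone
      rw [cj_one, h0] at h1
      change _ ≤ Subgroup.map G.subtype ⊥ at h1
      rw [Subgroup.map_bot, le_bot_iff, Subgroup.map_eq_bot_iff_of_injective _ G.subtype_injective] at h1
      exact h1)
    refine hn₀G (hmax X hXn hXp hXne (mem_normalizer_of_conj fun x hx => ?_))
    have hx' : x ∈ W (up (S : Subgroup G)) := hXmap ▸ hx
    rw [hXmap]
    have h := hWmv n₀ (up (S : Subgroup G)) (conj_mem_cj hx')
    rwa [cj_eq_self hn₀] at h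
  let 𝒮 : Sys.{u, u} H p :=
    { α := H
      mv := fun g v => g * v
      H := fun g => cj g G
      Q := fun g => cj g (up (pCore p G))
      V := fun g => cj g (up (vmod S))
      edge := IsE
      V_mv := fun g v => (cj_cj _ _ _).symm
      Q_mv := fun g v => (cj_cj _ _ _).symm
      edge_mv := hmv
      edge_move := fun v T g hT hg => by
        obtain ⟨⟨γ, rfl⟩, hle⟩ := hT
        exact ⟨⟨g * γ, cj_cj _ _ _⟩,
          (Subgroup.map_mono hle).trans (le_of_eq (cj_eq_self (Subgroup.le_normalizer hg)))⟩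
      flag := fun v T h => flag_loc hS hd h
      exists_opp := fun v T hT => by
        obtain ⟨k, rfl⟩ := hT.exists_eq
        obtain ⟨y, hy⟩ := hopp
        refine ⟨cj (v * (k : H)) (up (cj y (S : Subgroup G))), ⟨⟨v * (k : H) * (y : H), ?_⟩, ?_⟩, ?_⟩
        · rw [← cj_cj (v * (k : H)) (y : H)]
          exact congrArg _ (map_cj y _)
        · exact (Subgroup.map_mono (Subgroup.map_subtype_le _)).trans
            (le_of_eq (show cj (v * (k : H)) G = cj v G by rw [← cj_cj, cj_self]))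
        · have h := hy.map (f := (MulAut.conj (v * (k : H))).toMonoidHom.comp G.subtype)
          rw [map_conj_comp, map_conj_comp, map_conj_comp, map_conj_comp, ← MonoidHom.range_eq_map,
            Subgroup.range_subtype, ← cj_cj v (k : H) G, cj_self, pull_loc] at h
          exact h
      mem := fun _ => True
      mem_mv := fun _ _ _ => trivial
      alive := fun v T hT _ => halive v T hT }
  have hfail : ∃ m u v, 𝒮.Reach m u v ∧ ¬ 𝒮.V u ≤ 𝒮.Q v := by
    by_contra hno
    push Not at hno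
    set Y := ⨆ u : {u : H // ∃ m, 𝒮.Reach m u (1 : H)}, 𝒮.V u with hY
    have hYQ : Y ≤ up (pCore p G) := iSup_le fun u => by
      obtain ⟨m, hm⟩ := u.2
      have h := hno m u.1 (1 : H) hm
      change 𝒮.V u.1 ≤ cj (1 : H) _ at h
      rwa [cj_one] at h
    have hYinv : ∀ g : H, 𝒮.Adj g (1 : H) → cj g Y ≤ Y := fun g hg => by
      rw [cj, Subgroup.map_le_iff_le_comap]
      refine iSup_le fun u => ?_
      rw [← Subgroup.map_le_iff_le_comap]
      obtain ⟨m, hm⟩ := u.2
      refine (cj_cj _ _ _).le.trans (le_iSup (fun u : {u : H // ∃ m, 𝒮.Reach m u (1 : H)} => 𝒮.V u)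
        ⟨g * u.1, m + 1, ?_⟩)
      have h1 : 𝒮.Reach m (g * u.1 : H) (g * 1 : H) := reach_mv (𝒮 := 𝒮) g m u.1 (1 : H) hm
      rw [mul_one] at h1
      exact 𝒮.reach_append m 1 _ _ _ h1 ⟨(1 : H), hg, rfl⟩
    set X := Y.comap G.subtype with hX
    have hXmap : up X = Y := by
      rw [hX, up, Subgroup.map_comap_eq, Subgroup.range_subtype]
      exact inf_eq_right.mpr (hYQ.trans (Subgroup.map_subtype_le _))
    have hXn : X.Normal := ⟨fun x hx g => hYinv (g : H)
      ⟨up (S : Subgroup G), ⟨⟨1, (cj_one _).symm⟩, (Subgroup.map_subtype_le _).trans (cj_self g).ge⟩, hone⟩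
      (conj_mem_cj hx)⟩
    have hXp : IsPGroup p X := ((S.isPGroup'.to_le hS.core_le).map G.subtype |>.to_le hYQ).comap_of_injective _
      G.subtype_injective
    have hXne : X ≠ ⊥ := fun h0 => hVne (by
      have h1 : cj (1 : H) (up (vmod S)) ≤ up X := hXmap ▸
        le_iSup (fun u : {u : H // ∃ m, 𝒮.Reach m u (1 : H)} => 𝒮.V u) ⟨1, 0, rfl⟩
      rw [cj_one, h0] at h1
      change _ ≤ Subgroup.map G.subtype ⊥ at h1
      rw [Subgroup.map_bot, le_bot_iff, Subgroup.map_eq_bot_iff_of_injective _ G.subtype_injective] at h1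
      exact h1)
    refine hn₀G (hmax X hXn hXp hXne (mem_normalizer_of_conj fun x hx => ?_))
    rw [hXmap] at hx ⊢
    refine hYinv n₀ ⟨up (S : Subgroup G), ?_, hone⟩ (conj_mem_cj hx)
    have h := locEdge_self (S := S) n₀
    rwa [cj_eq_self hn₀] at h
  classical
  set b := Nat.find hfail with hb
  obtain ⟨u, v, huv, hne⟩ := Nat.find_spec hfail
  rw [← hb] at huv
  have hb1 : 1 ≤ b := by
    rcases Nat.eq_zero_or_pos b with h | h
    · exfalso
      rw [h] at huv
      obtain rfl : u = v := huv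
      exact hne (flag_loc hS hd (locEdge_self u)).V_le
    · exact h
  have hbelow : 𝒮.Below b := fun m hm x y hxy => by
    by_contra h
    exact Nat.find_min hfail hm ⟨x, y, hxy, h⟩
  obtain ⟨c, e, hc0, hcm, hl, hr⟩ := exists_chain (𝒮 := 𝒮) b u v huv
  let C : Chain 𝒮 b b := ⟨c, e, hl, hr, hb1, le_rfl, hbelow⟩
  have hc : ¬ 𝒮.V (C.c 0) ≤ 𝒮.Q (C.c b) := by
    show ¬ 𝒮.V (c 0) ≤ 𝒮.Q (c b)
    rw [hc0, hcm]; exact hne
  have hpull : ∀ x T, 𝒮.edge x T → ∃ ψ : G →* H, PullAt S 𝒮 x T ψ := by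
    intro x T hT
    obtain ⟨k, rfl⟩ := (hT : LocEdge S x T).exists_eq
    refine ⟨(MulAut.conj (x * (k : H))).toMonoidHom.comp G.subtype,
      ⟨fun a b h => G.subtype_injective ((MulAut.conj (x * (k : H))).injective h), ?_, ?_, ?_, ?_, fun T₁ hT₁ => ?_⟩⟩
    · rw [map_conj_comp, ← MonoidHom.range_eq_map, Subgroup.range_subtype, ← cj_cj x (k : H) G, cj_self]
    · rw [map_conj_comp]; exact pull_loc x k _
    · rw [map_conj_comp]; exact pull_loc x k _
    · rw [map_conj_comp]
    · obtain ⟨k₁, rfl⟩ := (hT₁ : LocEdge S x T₁).exists_eq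
      refine ⟨k⁻¹ * k₁, ?_⟩
      rw [map_conj_comp, map_cj, cj_cj]
      congr 1
      simp [mul_assoc]
  clear_value b
  obtain rfl | rfl | h3 : b = 1 ∨ b = 2 ∨ 3 ≤ b := by omega
  · obtain ⟨ψ, P⟩ := hpull _ _ (C.edge_l 0 (by omega))
    refine ⟨exists_one hc P, ?_⟩
    have hx : LocEdge S (C.c 0) (C.e 0) := C.edge_l 0 (by omega)
    have hy : LocEdge S (C.c 1) (C.e 0) := C.edge_r 0 (by omega)
    obtain ⟨k, hk⟩ := hx.exists_eq
    obtain ⟨l, hl'⟩ := hy.exists_eq
    obtain ⟨hne', -, -⟩ := C.cover_at (i := 0) le_rfl hc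
    refine ⟨(C.c 0 * (k : H))⁻¹ * (C.c 1 * (l : H)), ?_, fun h => hne' ?_⟩
    · refine mem_normalizer_of_conj fun s hs => ?_
      have h1 : C.c 1 * (l : H) * s * (C.c 1 * (l : H))⁻¹ ∈ cj (C.c 0 * (k : H)) (up (S : Subgroup G)) := by
        rw [← hk, hl']; exact conj_mem_cj hs
      rw [mem_cj] at h1
      simpa [mul_assoc] using h1
    · show cj (C.c 1) (up (vmod S)) ≤ cj (C.c 0) (up (pCore p G))
      rw [← pull_loc (C.c 1) l, ← pull_loc (C.c 0) k, ← cj_le_cj (g := (C.c 0 * (k : H))⁻¹), cj_inv_cj, cj_cj]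
      exact h
  · exfalso
    obtain ⟨Ln⟩ := exists_line C hc trivial 5 (by omega)
    obtain ⟨ψ, P⟩ := hpull _ _ (Ln.edge_l 2 (by omega))
    obtain ⟨ψ₃, P₃⟩ := hpull _ _ (Ln.edge_l 3 (by omega))
    obtain ⟨T', X, Y, A, B, D, hT⟩ :=
      exists_two Ln.toChain Ln.crit (fun i hi => Ln.opp i (by omega)) P P₃ hS hd hS hd
    obtain ⟨F, _, _, _, f₀, hf₀⟩ := hpsl
    obtain ⟨f, hC⟩ := exists_coords_of hS hE₂ f₀ hf₀ hT.opp hT.conj
    have := hT.p_eq_three hS hd hC
    omega
  · exact absurd (no_long (Classical.choice (exists_line C hc trivial (3 * b) (by omega))) h3) id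

end CfsgLib.PushPair
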