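import Mathlib
import Cfsg.Agent.Lib.PushUp.CaseOne
import Cfsg.Agent.Lib.PushUp.Summary
import Cfsg.Agent.Lib.QdOver

/-!
When the core is the natural module, the pushing up group is the affine group times a central factor.
-/

set_option autoImplicit false
set_option linter.unusedSectionVars false

namespace CfsgLib.PushPair

open Cfsg Subgroup Matrix CfsgLib.PushUp CfsgLib.PushRankOne CfsgLib.PSL2

universe u

/-- A central elementary subgroup of an elementary abelian subgroup of coprime index has a complement. -/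
theorem exists_compl_of_coprime {C : Type u} [Group C] [Finite C] {p : ℕ} [Fact p.Prime] (P E : Subgroup C)
    (hEP : E ≤ P) (hcomm : ∀ x ∈ P, ∀ y ∈ P, x * y = y * x) (hexp : ∀ x ∈ P, x ^ p = 1)
    (hcen : E ≤ center C) (hidx : P.index.Coprime p) :
    ∃ L : Subgroup C, L ⊓ E = ⊥ ∧ ∀ c : C, ∃ l ∈ L, ∃ e ∈ E, c = l * e := by
  obtain ⟨K, -, hK⟩ := Finite.exists_le_maximal
    (p := fun X : Subgroup C => X ≤ P ∧ X ⊓ E = ⊥) (a := ⊥) ⟨bot_le, bot_inf_eq _⟩
  obtain ⟨hKP, hKE⟩ := hK.prop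
  have hn : ∀ {X Y : Subgroup C}, X ≤ P → Y ≤ P → Y ≤ normalizer (X : Set C) := fun {X Y} hX hY y hy =>
    mem_normalizer_of_conj fun x hx => by rwa [hcomm y (hY hy) x (hX hx), mul_inv_cancel_right]
  have hsplit : ∀ x ∈ P, ∃ k ∈ K, ∃ e ∈ E, k * e = x := by
    intro x hx
    refine exists_mul (hn hKP hEP) ?_
    by_contra hxK
    have hzP : zpowers x ≤ P := zpowers_le.mpr hx
    have hne : (K ⊔ zpowers x) ⊓ E ≠ ⊥ := fun h => hxK (mem_sup_left
      (hK.2 ⟨sup_le hKP hzP, h⟩ le_sup_left (mem_sup_right (mem_zpowers x))))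
    obtain ⟨e, he, he1⟩ := (Subgroup.bot_or_exists_ne_one _).resolve_left hne
    obtain ⟨k, hk, _, ⟨i, rfl⟩, hke⟩ := exists_mul (hn hKP hzP) he.1
    simp only at hke
    by_cases hi : (p : ℤ) ∣ i
    · obtain ⟨j, rfl⟩ := hi
      rw [_root_.zpow_mul, zpow_natCast, hexp x hx, _root_.one_zpow, mul_one] at hke
      exact he1 (Subgroup.mem_bot.mp (hKE ▸ Subgroup.mem_inf.mpr ⟨hke ▸ hk, he.2⟩))
    · have hcop : IsCoprime i (p : ℤ) := ((Nat.prime_iff_prime_int.mp Fact.out).coprime_iff_not_dvd.mpr hi).symm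
      obtain ⟨a, b, hab⟩ := hcop
      refine hxK ?_
      have hxi : x ^ i ∈ K ⊔ E := by
        rw [show x ^ i = k⁻¹ * e by rw [← hke, inv_mul_cancel_left]]
        exact Subgroup.mul_mem_sup (inv_mem hk) he.2
      have e1 : x = (x ^ i) ^ a * (x ^ (p : ℤ)) ^ b := by
        rw [← _root_.zpow_mul, ← _root_.zpow_mul, ← _root_.zpow_add, mul_comm i a, mul_comm (p : ℤ) b, hab, zpow_one]
      rw [e1, zpow_natCast, hexp x hx, _root_.one_zpow, mul_one]
      exact zpow_mem hxi a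
  letI : CommGroup P := { (inferInstance : Group P) with mul_comm := fun a b => Subtype.ext (hcomm _ a.2 _ b.2) }
  let π : P →* P ⧸ K.subgroupOf P := QuotientGroup.mk' _
  haveI : P.FiniteIndex := inferInstance
  have hT : ∀ e (he : e ∈ E), π.transfer e = π ⟨e, hEP he⟩ ^ P.index := by
    intro e he
    rw [MonoidHom.transfer_eq_pow π e fun k g₀ _ => by
      rw [Subgroup.mem_center_iff.mp (pow_mem (hcen he) k) g₀⁻¹, inv_mul_cancel_right], ← map_pow]
    rfl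
  have hinj : ∀ e (he : e ∈ E), π ⟨e, hEP he⟩ = 1 → e = 1 := fun e he h => by
    have : e ∈ K := Subgroup.mem_subgroupOf.mp ((QuotientGroup.eq_one_iff _).mp h)
    exact Subgroup.mem_bot.mp (hKE ▸ Subgroup.mem_inf.mpr ⟨this, he⟩)
  refine ⟨π.transfer.ker, ?_, fun c => ?_⟩
  · refine eq_bot_iff.mpr fun e he => ?_
    have h1 : π ⟨e, hEP he.2⟩ ^ P.index = 1 := (hT e he.2).symm.trans he.1
    have h2 : π ⟨e, hEP he.2⟩ ^ p = 1 := by
      rw [← map_pow, show (⟨e, hEP he.2⟩ : P) ^ p = 1 from Subtype.ext (hexp e (hEP he.2)), map_one]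
    have h3 := pow_gcd_eq_one.mpr ⟨h1, h2⟩
    rw [hidx, pow_one] at h3
    exact hinj e he.2 h3
  · obtain ⟨⟨x, hx⟩, hxc⟩ := QuotientGroup.mk'_surjective (K.subgroupOf P) (π.transfer c)
    obtain ⟨k, hk, e', he', rfl⟩ := hsplit x hx
    obtain ⟨a, b, hab⟩ := (Nat.isCoprime_iff_coprime.mpr hidx : IsCoprime (P.index : ℤ) (p : ℤ))
    set e := e' ^ a with he_def
    have he : e ∈ E := zpow_mem he' a
    have hk1 : π ⟨k, hKP hk⟩ = 1 := (QuotientGroup.eq_one_iff _).mpr (Subgroup.mem_subgroupOf.mpr hk)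
    have hTe : π.transfer e = π.transfer c := by
      rw [hT e he, ← hxc, show (⟨k * e', hx⟩ : P) = ⟨k, hKP hk⟩ * ⟨e', hEP he'⟩ from rfl, map_mul,
        hk1, one_mul,
        show (⟨e, hEP he⟩ : P) = (⟨e', hEP he'⟩ : P) ^ a from rfl, map_zpow, ← zpow_natCast, ← _root_.zpow_mul]
      have h2 : π ⟨e', hEP he'⟩ ^ (p : ℤ) = 1 := by
        rw [zpow_natCast, ← map_pow, show (⟨e', hEP he'⟩ : P) ^ p = 1 from Subtype.ext (hexp e' (hEP he')), map_one]
      calc π ⟨e', hEP he'⟩ ^ (a * (P.index : ℤ))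
          = π ⟨e', hEP he'⟩ ^ (a * (P.index : ℤ)) * (π ⟨e', hEP he'⟩ ^ (p : ℤ)) ^ b := by
            rw [h2, _root_.one_zpow, mul_one]
        _ = _ := by rw [← _root_.zpow_mul, ← _root_.zpow_add, mul_comm (p : ℤ) b, hab, zpow_one]
    refine ⟨c * e⁻¹, ?_, e, he, by rw [inv_mul_cancel_right]⟩
    rw [MonoidHom.mem_ker, map_mul, map_inv, hTe, mul_inv_cancel]

variable {G : Type u} [Group G] [Finite G] {p : ℕ} [Fact p.Prime] {S : Sylow p G}
  {F : Type} [Field F] [Fintype F] [CharP F p]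

theorem exists_qd (hS : Setting S) (hn : NoChar (S : Subgroup G)) (hp : p ≠ 2) {A : Subgroup G} (hA : One S A)
    (hQV : pCore p G = vmod S) {T' : Subgroup G} (hopp : Opp ⊤ (pCore p G) (S : Subgroup G) T')
    (hconj : ∃ g : G, T' = cj g (S : Subgroup G)) {f : G →* Matrix.ProjectiveSpecialLinearGroup (Fin 2) F}
    (hC : Coords p F (pCore p G) (S : Subgroup G) T' f) :
    ∃ (E : Subgroup G) (Φ : Cfsg.qdOver F →* G), Function.Injective Φ ∧ E ≤ center G ∧ (∀ e ∈ E, e ^ p = 1) ∧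
      Φ.range ⊓ E = ⊥ ∧ Φ.range ⊔ E = ⊤ := by
  classical
  have hd := hn.mild hS
  have hVm := vmod_mdl hS hd
  haveI : (vmod S).Normal := normalClosure_normal
  haveI : (zc S).Normal := zc_normal
  obtain ⟨ρ, φ, hsect, hρ, hρS, -, -⟩ := exists_sect_vmod hS hd hopp hconj hC
  have hker : ρ.ker = vmod S := (hA.exists_kernel hS hd hC hsect hρS).trans hQV
  set V := vmod S with hV
  set E := zc S with hE
  have hEV : E ≤ V := inf_le_left
  have hab : ∀ a ∈ V, ∀ b ∈ V, a * b = b * a := hVm.comm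
  have hVp : ∀ v ∈ V, v ^ p = 1 := fun v hv => vmod_pow hS hd hv
  have hinV : ∀ {g : G}, ρ g = 1 → g ∈ V := fun {g} h => hker.le h
  have hVone : ∀ {v : G}, v ∈ V → ρ v = 1 := fun {v} h => hker.ge h
  have hVS : V ≤ (S : Subgroup G) := hQV.ge.trans hS.core_le
  obtain ⟨q, hq⟩ : ∃ q, p = 2 * q + 1 := (Fact.out : p.Prime).odd_of_ne_two hp
  have hchar : ∀ x : Fin 2 → F, (p : ℕ) • x = 0 := fun x => by
    ext i
    simp
  -- the central involution
  obtain ⟨g₀, hg₀⟩ := hρ (-1)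
  have hg2 : g₀ ^ 2 ∈ V := hinV (by rw [map_pow, hg₀, neg_one_sq])
  set t := g₀ ^ p with ht
  have ht2 : t * t = 1 := by rw [← pow_two, ht, ← pow_mul, mul_comm, pow_mul, hVp _ hg2]
  have ht' : t⁻¹ = t := inv_eq_of_mul_eq_one_right ht2
  have hρt : ρ t = -1 := by rw [ht, map_pow, hg₀, hq, pow_succ, pow_mul, neg_one_sq, one_pow, one_mul]
  have hφt : ∀ v ∈ V, φ (t * v * t⁻¹) = -φ v := fun v hv => by
    rw [hsect.equiv t v hv, hρt, Matrix.SpecialLinearGroup.coe_neg, Matrix.SpecialLinearGroup.coe_one,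
      Matrix.neg_mulVec, Matrix.one_mulVec]
  -- the inverted part
  let W : Subgroup G :=
    { carrier := {w | w ∈ V ∧ t * w * t⁻¹ = w⁻¹}
      one_mem' := ⟨V.one_mem, by simp⟩
      mul_mem' := fun {a b} ha hb => ⟨V.mul_mem ha.1 hb.1, by
        rw [show t * (a * b) * t⁻¹ = (t * a * t⁻¹) * (t * b * t⁻¹) by group, ha.2, hb.2, ← _root_.mul_inv_rev,
          hab b hb.1 a ha.1]⟩
      inv_mem' := fun {a} ha => ⟨V.inv_mem ha.1, by
        rw [show t * a⁻¹ * t⁻¹ = (t * a * t⁻¹)⁻¹ by group, ha.2]⟩ }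
  have hmemW : ∀ {w : G}, w ∈ W ↔ w ∈ V ∧ t * w * t⁻¹ = w⁻¹ := Iff.rfl
  have hroot : ∀ {w : G}, w ∈ V → ∃ r ∈ zpowers w, r * r = w := fun {w} hw => by
    refine ⟨w ^ (q + 1), pow_mem (mem_zpowers w) _, ?_⟩
    rw [← pow_add, show q + 1 + (q + 1) = p + 1 by omega, pow_succ, hVp w hw, one_mul]
  have hWker : ∀ w ∈ W, φ w = 0 → w = 1 := fun w hw h => by
    have hE' : w ∈ center G := ((hsect.ker w hw.1).mp h).2
    have h2 : w ^ 2 = 1 := by
      have e := hw.2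
      rw [Subgroup.mem_center_iff.mp hE' t, mul_inv_cancel_right] at e
      rw [pow_two]; exact eq_inv_iff_mul_eq_one.mp e
    have h3 := pow_gcd_eq_one.mpr ⟨h2, hVp w hw.1⟩
    rwa [show Nat.gcd 2 p = 1 from (Nat.prime_two.coprime_iff_not_dvd).mpr (by omega), pow_one] at h3
  have hWinj : ∀ a ∈ W, ∀ b ∈ W, φ a = φ b → a = b := fun a ha b hb h => by
    refine (eq_of_mul_inv_eq_one (hWker _ (W.mul_mem ha (W.inv_mem hb)) ?_))
    rw [hsect.mul a ha.1 _ (V.inv_mem hb.1), hsect.map_inv hb.1, h, add_neg_cancel]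
  have honto : ∀ x : Fin 2 → F, ∃ w ∈ W, φ w = x := by
    intro x
    obtain ⟨v, hv, rfl⟩ := hsect.onto x
    have hc : t * v * t⁻¹ ∈ V := hVm.mem_conj hv t
    set u := v * (t * v * t⁻¹)⁻¹ with hu
    have hu' : u ∈ W := ⟨V.mul_mem hv (V.inv_mem hc), by
      rw [hu]; simp only [_root_.mul_inv_rev, inv_inv, ht', ← mul_assoc]
      simp only [mul_assoc, ht2, mul_one]⟩
    refine ⟨u ^ (q + 1), W.pow_mem hu' _, ?_⟩
    rw [hsect.map_pow hu'.1, hu, hsect.mul v hv _ (V.inv_mem hc), hsect.map_inv hc, hφt v hv, neg_neg, ← two_nsmul,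
      ← mul_smul, show (q + 1) * 2 = p + 1 by omega, succ_nsmul, hchar, zero_add]
  have hVsplit : ∀ v ∈ V, ∃ w ∈ W, ∃ e ∈ E, w * e = v := by
    intro v hv
    obtain ⟨w, hw, hwv⟩ := honto (φ v)
    refine ⟨w, hw, w⁻¹ * v, (hsect.ker _ (V.mul_mem (V.inv_mem hw.1) hv)).mp ?_, mul_inv_cancel_left _ _⟩
    rw [hsect.mul _ (V.inv_mem hw.1) v hv, hsect.map_inv hw.1, hwv, neg_add_cancel]
  haveI hWn : W.Normal := ⟨fun w hw g => ⟨hVm.mem_conj hw.1 g, by
    have hr : (g⁻¹ * t * g) * t⁻¹ ∈ V := hinV (by simp [map_mul, map_inv, hρt])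
    set r := (g⁻¹ * t * g) * t⁻¹ with hr_def
    have e : g⁻¹ * t * g = r * t := by rw [hr_def, inv_mul_cancel_right]
    calc t * (g * w * g⁻¹) * t⁻¹ = g * ((g⁻¹ * t * g) * w * (g⁻¹ * t * g)⁻¹) * g⁻¹ := by group
      _ = g * (r * (t * w * t⁻¹) * r⁻¹) * g⁻¹ := by rw [e]; group
      _ = (g * w * g⁻¹)⁻¹ := by rw [hw.2, hab r hr _ (V.inv_mem hw.1), mul_inv_cancel_right]; group⟩⟩
  -- the centralizer of the involution
  set C := centralizer ({t} : Set G) with hCdef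
  have hmemC : ∀ {c : G}, c ∈ C ↔ c * t = t * c := fun {c} => mem_centralizer_singleton_iff
  have hEC : E ≤ C := fun e he => hmemC.mpr (Subgroup.mem_center_iff.mp he.2 t).symm
  have hWC : ∀ w ∈ W, w ∈ C → w = 1 := fun w hw hc => hWker w hw (by
    have h := hφt w hw.1
    rw [← hmemC.mp hc, mul_inv_cancel_right] at h
    ext i
    have h' := congrFun h i
    rw [Pi.neg_apply, eq_neg_iff_add_eq_zero, ← two_mul] at h'
    haveI : NeZero (2 : F) := ⟨Ring.two_ne_zero (by rw [ringChar.eq F p]; exact hp)⟩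
    exact (mul_eq_zero.mp h').resolve_left two_ne_zero)
  have hGdec : ∀ g : G, ∃ w ∈ W, ∃ c ∈ C, g = w * c := by
    intro g
    have hd' : g * t * g⁻¹ * t⁻¹ ∈ W := ⟨hinV (by simp [map_mul, map_inv, hρt]), by
      simp only [_root_.mul_inv_rev, inv_inv, ht', ← mul_assoc]
      simp only [mul_assoc, ht2, mul_one]⟩
    set d := g * t * g⁻¹ * t⁻¹ with hd_def
    obtain ⟨r, hr, hrd⟩ := hroot hd'.1
    have hrW : r ∈ W := zpowers_le.mpr hd' hr
    refine ⟨r, hrW, r⁻¹ * g, hmemC.mpr ?_, (mul_inv_cancel_left r g).symm⟩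
    calc r⁻¹ * g * t = r⁻¹ * d * t * g := by rw [hd_def]; group
      _ = r * t * g := by rw [← hrd, inv_mul_cancel_left]
      _ = t * (t⁻¹ * r * t) * g := by group
      _ = t * (t * r * t⁻¹) * g := by rw [ht']
      _ = t * (r⁻¹ * g) := by rw [hrW.2]; group
  have hVC : ∀ c ∈ C, c ∈ V → c ∈ E := by
    intro c hc hcV
    obtain ⟨w, hw, e, he, rfl⟩ := hVsplit c hcV
    rw [hWC w hw (by simpa using C.mul_mem hc (C.inv_mem (hEC he))), one_mul]
    exact he
  have huniq : ∀ {w w' c c' : G}, w ∈ W → w' ∈ W → c ∈ C → c' ∈ C → w * c = w' * c' → w = w' := by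
    intro w w' c c' hw hw' hc hc' h
    have e : w'⁻¹ * w = c' * c⁻¹ := by
      calc w'⁻¹ * w = w'⁻¹ * (w * c) * c⁻¹ := by group
        _ = _ := by rw [h]; group
    exact (eq_of_inv_mul_eq_one (hWC _ (W.mul_mem (W.inv_mem hw') hw) (e ▸ C.mul_mem hc' (C.inv_mem hc)))).symm
  -- the Sylow part inside it
  have hSW : ∀ x ∈ (S : Subgroup G), ∀ y ∈ (S : Subgroup G), x * y * x⁻¹ * y⁻¹ ∈ W := by
    intro x hx y hy
    set π := QuotientGroup.mk' W
    have hcenV : ∀ v ∈ V, ∀ g : G, Commute (π v) (π g) := by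
      intro v hv g
      obtain ⟨w, hw, e, he, rfl⟩ := hVsplit v hv
      rw [map_mul, show π w = 1 from (QuotientGroup.eq_one_iff w).mpr hw, one_mul]
      exact ((show Commute g e from Subgroup.mem_center_iff.mp he.2 g).map π).symm
    obtain ⟨a, ha, u, hu, rfl⟩ := exists_mul' (CfsgLib.PushUp.normalizer_top (pCore p G) A) (hA.sup.ge hx)
    obtain ⟨b, hb, v, hv, rfl⟩ := exists_mul' (CfsgLib.PushUp.normalizer_top (pCore p G) A) (hA.sup.ge hy)
    have h : Commute (π (a * u)) (π (b * v)) := by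
      rw [map_mul π a u, map_mul π b v]
      exact ((((show Commute a b from hA.abel a ha b hb).map π)).mul_right (hcenV v (hQV ▸ hv) a).symm).mul_left
        ((hcenV u (hQV ▸ hu) b).mul_right (hcenV u (hQV ▸ hu) v))
    refine (QuotientGroup.eq_one_iff _).mp ?_
    show π (a * u * (b * v) * (a * u)⁻¹ * (b * v)⁻¹) = 1
    rw [map_mul π, map_mul π, map_mul π, map_inv, map_inv, h.eq, mul_inv_cancel_right, mul_inv_cancel]
  let P0 : Subgroup C := (S : Subgroup G).subgroupOf C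
  have hPcomm : ∀ x ∈ P0, ∀ y ∈ P0, x * y = y * x := fun x hx y hy => Subtype.ext (by
    have h := hWC _ (hSW _ hx _ hy) (C.mul_mem (C.mul_mem (C.mul_mem x.2 y.2) (C.inv_mem x.2)) (C.inv_mem y.2))
    exact mul_inv_eq_iff_eq_mul.mp (mul_inv_eq_one.mp h))
  have hPexp : ∀ x ∈ P0, x ^ p = 1 := fun x hx => Subtype.ext (hA.exp_odd hS hd hn hp hx)
  have hidx : P0.index = (S : Subgroup G).index := by
    have hcard : ∀ Y : Subgroup G, W ≤ Y → Nat.card Y = Nat.card W * Nat.card (Y.subgroupOf C) := by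
      intro Y hY
      rw [← Nat.card_prod]
      refine (Nat.card_congr (Equiv.ofBijective
        (fun x : W × Y.subgroupOf C => (⟨x.1 * (x.2 : C), Y.mul_mem (hY x.1.2) x.2.2⟩ : Y)) ⟨?_, ?_⟩)).symm
      · rintro ⟨a, b⟩ ⟨a', b'⟩ h
        have h' : (a : G) * (b : C) = a' * (b' : C) := congrArg Subtype.val h
        have ha := huniq a.2 a'.2 (b : C).2 (b' : C).2 h'
        rw [ha] at h'
        exact Prod.ext (Subtype.ext ha) (Subtype.ext (Subtype.ext (mul_left_cancel h')))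
      · rintro ⟨y, hy⟩
        obtain ⟨w, hw, c, hc, rfl⟩ := hGdec y
        refine ⟨⟨⟨w, hw⟩, ⟨⟨c, hc⟩, ?_⟩⟩, rfl⟩
        have := Y.mul_mem (Y.inv_mem (hY hw)) hy
        rwa [inv_mul_cancel_left] at this
    have h1 := hcard ⊤ le_top
    rw [Subgroup.card_top, Subgroup.top_subgroupOf, Subgroup.card_top, ← P0.card_mul_index,
      ← (S : Subgroup G).card_mul_index, hcard (S : Subgroup G) fun w hw => hVS hw.1, ← mul_assoc] at h1
    exact (Nat.eq_of_mul_eq_mul_left (Nat.mul_pos Nat.card_pos Nat.card_pos) h1).symm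
  obtain ⟨L₀, hL₀, hL₀sup⟩ := exists_compl_of_coprime P0 (E.subgroupOf C)
    (fun x hx => hVS (hEV hx)) hPcomm hPexp
    (fun x hx => Subgroup.mem_center_iff.mpr fun y => Subtype.ext (Subgroup.mem_center_iff.mp hx.2 y))
    (hidx ▸ ((Nat.Prime.coprime_iff_not_dvd Fact.out).mpr S.not_dvd_index).symm)
  set L := L₀.map C.subtype with hL
  have hCdec : ∀ c ∈ C, ∃ l ∈ L, ∃ e ∈ E, c = l * e := fun c hc => by
    obtain ⟨l, hl, e, he, h⟩ := hL₀sup ⟨c, hc⟩
    exact ⟨l, ⟨l, hl, rfl⟩, e, he, congrArg Subtype.val h⟩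
  have hρe : ∀ e ∈ E, ρ e = 1 := fun e he => hVone (hEV he)
  have hbij : Function.Bijective (ρ.comp L.subtype) := by
    constructor
    · refine (injective_iff_map_eq_one _).mpr ?_
      rintro ⟨_, l, hl, rfl⟩ h
      have hlE : l ∈ E.subgroupOf C := hVC _ l.2 (hinV h)
      have : l = 1 := Subgroup.mem_bot.mp (hL₀ ▸ Subgroup.mem_inf.mpr ⟨hl, hlE⟩)
      subst this
      exact Subtype.ext rfl
    · intro m
      obtain ⟨g, rfl⟩ := hρ m
      obtain ⟨w, hw, c, hc, rfl⟩ := hGdec g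
      obtain ⟨l, hl, e, he, rfl⟩ := hCdec c hc
      exact ⟨⟨l, hl⟩, by simp [map_mul, hρe e he, hVone hw.1]⟩
  set θ := MulEquiv.ofBijective _ hbij with hθ
  let ℓ : Matrix.SpecialLinearGroup (Fin 2) F →* G := L.subtype.comp θ.symm.toMonoidHom
  have hρℓ : ∀ m, ρ (ℓ m) = m := fun m => θ.apply_symm_apply m
  have hℓρ : ∀ l, l ∈ L → ℓ (ρ l) = l := fun l hl => congrArg Subtype.val (θ.symm_apply_apply ⟨l, hl⟩)
  choose ω hωW hωφ using honto
  have hωeq : ∀ {x : Fin 2 → F} {w : G}, w ∈ W → φ w = x → ω x = w := fun {x w} hw h =>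
    hWinj _ (hωW x) w hw ((hωφ x).trans h.symm)
  have hωadd : ∀ x y, ω (x + y) = ω x * ω y := fun x y => hωeq (W.mul_mem (hωW x) (hωW y))
    (by rw [hsect.mul _ (hωW x).1 _ (hωW y).1, hωφ, hωφ])
  have hωconj : ∀ g x, g * ω x * g⁻¹ = ω ((ρ g).1.mulVec x) := fun g x => (hωeq (hWn.conj_mem _ (hωW x) g)
    (by rw [hsect.equiv g _ (hωW x).1, hωφ])).symm
  have hω0 : ω 0 = 1 := hωeq W.one_mem hsect.map_one
  let col : Cfsg.qdOver F → Fin 2 → F := fun M => ![M.1.1 0 2, M.1.1 1 2]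
  have hcol : ∀ M N, col (M * N) = col M + (CfsgLib.QdOver.lin M).1.mulVec (col N) := fun M N => by
    obtain ⟨n0, n1, n2⟩ := CfsgLib.QdOver.last_row N
    show ![(M.1.1 * N.1.1) 0 2, (M.1.1 * N.1.1) 1 2] = ![M.1.1 0 2, M.1.1 1 2] +
      !![M.1.1 0 0, M.1.1 0 1; M.1.1 1 0, M.1.1 1 1].mulVec ![N.1.1 0 2, N.1.1 1 2]
    ext i
    fin_cases i <;> simp [Matrix.mulVec, dotProduct, Fin.sum_univ_two, Matrix.mul_apply, Fin.sum_univ_three, n2] <;>
      ring
  let Φ : Cfsg.qdOver F →* G :=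
    { toFun := fun M => ω (col M) * ℓ (CfsgLib.QdOver.lin M)
      map_one' := by
        rw [map_one, map_one, mul_one, ← hω0]
        congr 1
        ext i
        fin_cases i <;> simp [col]
      map_mul' := fun M N => by
        rw [hcol, hωadd, map_mul, map_mul]
        have e := hωconj (ℓ (CfsgLib.QdOver.lin M)) (col N)
        rw [hρℓ] at e
        rw [← e]; group }
  have hΦ : ∀ M, Φ M = ω (col M) * ℓ (CfsgLib.QdOver.lin M) := fun M => rfl
  have hρΦ : ∀ M, ρ (Φ M) = CfsgLib.QdOver.lin M := fun M => by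
    rw [hΦ, map_mul, hVone (hωW _).1, hρℓ, one_mul]
  have hΦW : ∀ M, ρ (Φ M) = 1 → Φ M ∈ W := fun M h => by
    rw [hρΦ] at h
    rw [hΦ, h, map_one, mul_one]; exact hωW _
  refine ⟨E, Φ, (injective_iff_map_eq_one _).mpr fun M h => ?_, inf_le_right, fun e he => hVp e (hEV he), ?_, ?_⟩
  · have h1 : CfsgLib.QdOver.lin M = 1 := by rw [← hρΦ, h, map_one]
    have h2 : col M = 0 := by
      rw [hΦ, h1, map_one, mul_one] at h
      rw [← hωφ (col M), h, hsect.map_one]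
    refine CfsgLib.QdOver.ker_ext h1 (Subgroup.one_mem _) ?_ ?_
    · exact (congrFun h2 0).trans rfl
    · exact (congrFun h2 1).trans rfl
  · refine eq_bot_iff.mpr ?_
    rintro _ ⟨⟨M, rfl⟩, he⟩
    exact hWker _ (hΦW M (hρe _ he)) ((hsect.ker _ (hEV he)).mpr he)
  · refine eq_top_iff.mpr fun g _ => ?_
    obtain ⟨w, hw, c, hc, rfl⟩ := hGdec g
    obtain ⟨l, hl, e, he, rfl⟩ := hCdec c hc
    rw [← mul_assoc]
    refine Subgroup.mul_mem_sup (Subgroup.mul_mem _ ⟨CfsgLib.QdOver.tr (φ w), ?_⟩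
      ⟨CfsgLib.QdOver.blk (ρ l), ?_⟩) he
    · rw [hΦ, MonoidHom.mem_ker.mp (CfsgLib.QdOver.tr_mem (φ w)), map_one, mul_one]
      refine hωeq hw ?_
      ext i
      fin_cases i <;> rfl
    · rw [hΦ, CfsgLib.QdOver.lin_blk, hℓρ l hl]
      have : col (CfsgLib.QdOver.blk (ρ l)) = 0 := by
        ext i
        fin_cases i <;> rfl
      rw [this, hω0, one_mul]

end CfsgLib.PushPair
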