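import Mathlib
import Cfsg.Agent.Lib.PushPair.Graph

/-!
For `p = 3`: critical chains whose second vertex is no end point, and the commutator subgroup at such a chain.
-/

set_option autoImplicit false
set_option linter.unusedSectionVars false

namespace CfsgLib.PushPair

open Subgroup CfsgLib.PushUp

universe w v

variable {Γ : Type w} [Group Γ] [Finite Γ] {p : ℕ} {𝒮 : Sys.{w, v} Γ p}

/-- An element centralized by `T'` and centralized modulo the centre by a conjugate of an element of `T'` is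
central. -/
theorem cent_mod {H T' : Subgroup Γ} {a x k : Γ} (ha : a ∈ H) (hgen : Subgroup.closure {x} ⊔ T' = H)
    (hT : ∀ t ∈ T', t * a = a * t) (hk : k ∈ H) (hkx : k⁻¹ * x * k ∈ T')
    (hxa : x * a * x⁻¹ * a⁻¹ ∈ centralizer (H : Set Γ)) : a ∈ centralizer (H : Set Γ) := by
  let L : Subgroup Γ :=
    { carrier := {g | g ∈ H ∧ g * a * g⁻¹ * a⁻¹ ∈ centralizer (H : Set Γ)}
      one_mem' := ⟨one_mem _, by simp⟩
      mul_mem' := fun {g k} hg hk => ⟨mul_mem hg.1 hk.1, by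
        have e : g * k * a * (g * k)⁻¹ * a⁻¹ = g * (k * a * k⁻¹ * a⁻¹) * g⁻¹ * (g * a * g⁻¹ * a⁻¹) := by group
        rw [e, hk.2 g hg.1, mul_inv_cancel_right]
        exact mul_mem hk.2 hg.2⟩
      inv_mem' := fun {g} hg => ⟨inv_mem hg.1, by
        have e : g⁻¹ * a * g⁻¹⁻¹ * a⁻¹ = g⁻¹ * (g * a * g⁻¹ * a⁻¹)⁻¹ * g := by group
        rw [e, (inv_mem hg.2 : _ ∈ centralizer (H : Set Γ)) g⁻¹ (inv_mem hg.1), inv_mul_cancel_right]
        exact inv_mem hg.2⟩ }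
  have hTH : T' ≤ H := hgen ▸ le_sup_right
  have hxH : x ∈ H := hgen ▸ mem_sup_left (Subgroup.subset_closure rfl)
  have hL : H ≤ L := hgen.ge.trans (sup_le ((Subgroup.closure_le _).mpr (Set.singleton_subset_iff.mpr ⟨hxH, hxa⟩))
    fun t ht => ⟨hTH ht, by rw [hT t ht, mul_inv_cancel_right, mul_inv_cancel]; exact one_mem _⟩)
  set c := k * a * k⁻¹ * a⁻¹ with hc
  have hcH : c ∈ centralizer (H : Set Γ) := (hL hk).2
  have hs := hT _ hkx
  have e : x * a = a * x := by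
    have h1 : k⁻¹ * a * k = c⁻¹ * a := by
      calc k⁻¹ * a * k = k⁻¹ * (c⁻¹ * k) * a * k⁻¹ * k := by rw [hc]; group
        _ = c⁻¹ * a := by rw [← (inv_mem hcH : _ ∈ centralizer (H : Set Γ)) k hk]; group
    have h2 : k⁻¹ * x * k * (c⁻¹ * a) = c⁻¹ * a * (k⁻¹ * x * k) := by
      have h3 : k⁻¹ * x * k * c⁻¹ = c⁻¹ * (k⁻¹ * x * k) :=
        (inv_mem hcH : _ ∈ centralizer (H : Set Γ)) _ (hTH hkx)
      calc k⁻¹ * x * k * (c⁻¹ * a) = (k⁻¹ * x * k * c⁻¹) * a := by group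
        _ = c⁻¹ * ((k⁻¹ * x * k) * a) := by rw [h3]; group
        _ = _ := by rw [hs]; group
    rw [← h1] at h2
    have h4 := congrArg (fun z => k * z * k⁻¹) h2
    simpa [mul_assoc] using h4
  intro g hg
  have hle : H ≤ centralizer {a} := hgen.ge.trans (sup_le ((Subgroup.closure_le _).mpr
    (Set.singleton_subset_iff.mpr (mem_centralizer_singleton_iff.mpr e)))
    fun t ht => mem_centralizer_singleton_iff.mpr (hT t ht))
  exact mem_centralizer_singleton_iff.mp (hle hg)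

/-- The commutators of the last module with the first. -/
def aa {b L : ℕ} (C : Chain 𝒮 b L) : Subgroup Γ :=
  Subgroup.closure {z | ∃ w ∈ 𝒮.V (C.c b), ∃ v ∈ 𝒮.V (C.c 0), z = w * v * w⁻¹ * v⁻¹}

section Chain

variable {b : ℕ} (C : Chain 𝒮 b b) (hc : ¬ 𝒮.V (C.c 0) ≤ 𝒮.Q (C.c b))
include hc

theorem crit0 : ¬ 𝒮.V (C.c 0) ≤ 𝒮.Q (C.c (0 + b)) := by simpa using hc

theorem Vb_le_e0 : 𝒮.V (C.c b) ≤ C.e 0 := by
  have := C.hb
  exact C.V_le_edge_l (i := b) (j := 0) le_rfl (by omega) (by omega) (by omega)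

theorem V0_le_last : 𝒮.V (C.c 0) ≤ C.e (b - 1) := by
  have := C.hb
  exact C.V_le_edge_r (i := 0) (j := b - 1) (by omega) (by omega) (by omega) (by omega)

theorem flag_last : Flag p (𝒮.H (C.c b)) (𝒮.Q (C.c b)) (𝒮.V (C.c b)) (C.e (b - 1)) := by
  have := C.hb
  have h := C.flag_r (i := b - 1) (by omega)
  rwa [show b - 1 + 1 = b by omega] at h

theorem exists_outside : ∃ x ∈ 𝒮.V (C.c b), x ∉ 𝒮.Q (C.c 0) := by
  have h := (C.cover_at (i := 0) (by omega) (crit0 C hc)).1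
  rw [Nat.zero_add] at h
  exact SetLike.not_le_iff_exists.mp h

theorem split0 {t : Γ} (ht : t ∈ C.e 0) : ∃ w ∈ 𝒮.V (C.c b), ∃ q ∈ 𝒮.Q (C.c 0), w * q = t := by
  have h := C.split_r (i := 0) (by omega) (crit0 C hc) ht
  rwa [Nat.zero_add] at h

theorem mem_aa {t v : Γ} (ht : t ∈ C.e 0) (hv : v ∈ 𝒮.V (C.c 0)) : t * v * t⁻¹ * v⁻¹ ∈ aa C := by
  obtain ⟨w, hw, q, hq, rfl⟩ := split0 C hc ht
  have h : Commute q v := (C.flag_l (i := 0) (by have := C.hb; omega)).V_cent q hq v hv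
  refine Subgroup.subset_closure ⟨w, hw, v, hv, ?_⟩
  calc w * q * v * (w * q)⁻¹ * v⁻¹ = w * (q * v * q⁻¹) * w⁻¹ * v⁻¹ := by group
    _ = _ := by rw [h.eq, mul_inv_cancel_right]

theorem aa_eq_left : aa C = Subgroup.closure {z | ∃ t ∈ C.e 0, ∃ v ∈ 𝒮.V (C.c 0), z = t * v * t⁻¹ * v⁻¹} := by
  refine le_antisymm ((Subgroup.closure_le _).mpr ?_) ((Subgroup.closure_le _).mpr ?_)
  · rintro _ ⟨w, hw, v, hv, rfl⟩
    exact Subgroup.subset_closure ⟨w, Vb_le_e0 C hc hw, v, hv, rfl⟩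
  · rintro _ ⟨t, ht, v, hv, rfl⟩
    exact mem_aa C hc ht hv

theorem aa_eq_right :
    aa C = Subgroup.closure {z | ∃ w ∈ 𝒮.V (C.c b), ∃ s ∈ C.e (b - 1), z = w * s * w⁻¹ * s⁻¹} := by
  refine le_antisymm ((Subgroup.closure_le _).mpr ?_) ((Subgroup.closure_le _).mpr ?_)
  · rintro _ ⟨w, hw, v, hv, rfl⟩
    exact Subgroup.subset_closure ⟨w, hw, v, V0_le_last C hc hv, rfl⟩
  · rintro _ ⟨w, hw, s, hs, rfl⟩
    obtain ⟨v, hv, q, hq, rfl⟩ := C.split_l (i := 0) (by omega) (crit0 C hc)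
      (show s ∈ C.e (0 + b - 1) by rwa [Nat.zero_add])
    rw [Nat.zero_add] at hq
    have h : Commute q w := (flag_last C hc).V_cent q hq w hw
    refine Subgroup.subset_closure ⟨w, hw, v, hv, ?_⟩
    calc w * (v * q) * w⁻¹ * (v * q)⁻¹ = w * v * (q * w⁻¹ * q⁻¹) * v⁻¹ := by group
      _ = _ := by rw [h.inv_right.eq, mul_inv_cancel_right]

theorem aa_le_V0 : aa C ≤ 𝒮.V (C.c 0) := (Subgroup.closure_le _).mpr (by
  rintro _ ⟨w, hw, v, hv, rfl⟩
  have F := C.flag_l (i := 0) (by have := C.hb; omega)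
  exact F.comm_mem_V (F.T_le (Vb_le_e0 C hc hw)) hv)

theorem aa_cent : aa C ≤ centralizer (C.e 0 : Set Γ) := (Subgroup.closure_le _).mpr (by
  rintro _ ⟨w, hw, v, hv, rfl⟩
  exact (C.flag_l (i := 0) (by have := C.hb; omega)).quad v hv w (Vb_le_e0 C hc hw))

theorem aa_le_Vb : aa C ≤ 𝒮.V (C.c b) := (Subgroup.closure_le _).mpr (by
  rintro _ ⟨w, hw, v, hv, rfl⟩
  have F := flag_last C hc
  have h := conj_mem (F.norm_V (F.T_le (V0_le_last C hc hv))) (inv_mem hw)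
  have e : w * v * w⁻¹ * v⁻¹ = w * (v * w⁻¹ * v⁻¹) := by group
  show w * v * w⁻¹ * v⁻¹ ∈ 𝒮.V (C.c b)
  rw [e]
  exact mul_mem hw h)

theorem aa_le_V1 (hb : 2 ≤ b) : aa C ≤ 𝒮.V (C.c 1) := fun a ha => by
  have F := C.flag_r (i := 0) (by omega)
  exact F.center a (C.near (by omega) (by omega) (by omega) (by omega) (aa_le_V0 C hc ha))
    (fun q hq => (aa_cent C hc ha) q (F.Q_le hq))
    ((C.flag_l (i := 0) (by omega)).elem a (aa_le_V0 C hc ha))

theorem aa_not_central : ¬ aa C ≤ centralizer (𝒮.H (C.c 0) : Set Γ) := by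
  intro h
  have F := C.flag_l (i := 0) (by have := C.hb; omega)
  obtain ⟨x, hx, hxQ⟩ := exists_outside C hc
  refine hxQ (F.mem_of_cent (Vb_le_e0 C hc hx) fun v hv => ?_)
  exact F.fixmod v hv (fun t ht => h (mem_aa C hc ht hv)) x (Vb_le_e0 C hc hx)

theorem exists_moved : ∃ v ∈ 𝒮.V (C.c 0), ¬ ∀ x ∈ 𝒮.V (C.c b), x * v = v * x := by
  by_contra hcon
  push Not at hcon
  obtain ⟨x, hx, hxQ⟩ := exists_outside C hc
  exact hxQ ((C.flag_l (i := 0) (by have := C.hb; omega)).mem_of_cent (Vb_le_e0 C hc hx) fun v hv => hcon v hv x hx)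

end Chain

/-- The chain with the first vertex moved around the second. -/
def repl {b L : ℕ} (C : Chain 𝒮 b L) {t : Γ} (ht : t ∈ 𝒮.H (C.c 1)) : Chain 𝒮 b L where
  c i := if i = 0 then 𝒮.mv t (C.c 0) else C.c i
  e i := if i = 0 then cj t (C.e 0) else C.e i
  edge_l i hi := by
    by_cases h : i = 0
    · subst h; simpa using 𝒮.edge_mv t _ _ (C.edge_l 0 hi)
    · simpa [h] using C.edge_l i hi
  edge_r i hi := by
    by_cases h : i = 0
    · subst h; simpa using 𝒮.edge_move _ _ _ (C.edge_r 0 hi) ht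
    · simpa [h] using C.edge_r i hi
  hb := C.hb
  hL := C.hL
  below := C.below

theorem map_comm_closure {g : Γ} {E V : Subgroup Γ} :
    cj g (Subgroup.closure {z | ∃ t ∈ E, ∃ v ∈ V, z = t * v * t⁻¹ * v⁻¹}) =
      Subgroup.closure {z | ∃ t ∈ cj g E, ∃ v ∈ cj g V, z = t * v * t⁻¹ * v⁻¹} := by
  rw [cj, MonoidHom.map_closure]
  congr 1
  ext z
  constructor
  · rintro ⟨_, ⟨t, ht, v, hv, rfl⟩, rfl⟩
    exact ⟨_, conj_mem_cj ht, _, conj_mem_cj hv, by simp [mul_assoc]⟩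
  · rintro ⟨_, ⟨t, ht, rfl⟩, _, ⟨v, hv, rfl⟩, rfl⟩
    exact ⟨_, ⟨t, ht, v, hv, rfl⟩, by simp [mul_assoc]⟩

theorem aa_repl {b : ℕ} (C : Chain 𝒮 b b) (hc : ¬ 𝒮.V (C.c 0) ≤ 𝒮.Q (C.c b)) (hb : 2 ≤ b) {t : Γ}
    (ht : t ∈ 𝒮.H (C.c 1)) (hc' : ¬ 𝒮.V ((repl C ht).c 0) ≤ 𝒮.Q ((repl C ht).c b)) :
    aa (repl C ht) = aa C ∧ aa (repl C ht) = cj t (aa C) := by
  constructor
  · rw [aa_eq_right _ hc', aa_eq_right C hc]
    simp only [repl, show b ≠ 0 by omega, show b - 1 ≠ 0 by omega, if_false]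
  · rw [aa_eq_left _ hc', aa_eq_left C hc, map_comm_closure]
    simp only [repl, if_true, 𝒮.V_mv]

/-- Some critical chain has a second vertex which is no end point, once `3 ≤ b`. -/
theorem exists_loose (hH : Homog 𝒮) {κ : Type*} [Finite κ] {key : 𝒮.α → κ} (hK : Keyed 𝒮 key) {b : ℕ}
    (hB : 𝒮.Below b) {o : 𝒮.α} (ho : Ep 𝒮 b o) (h3 : 3 ≤ b) :
    ∃ C : Chain 𝒮 b b, (¬ 𝒮.V (C.c 0) ≤ 𝒮.Q (C.c b)) ∧ ¬ Ep 𝒮 b (C.c 1) := by
  by_contra hcon
  push Not at hcon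
  have := lt_three_of_next hH hK hB ho (fun C hc => hcon C hc)
  omega

end CfsgLib.PushPair
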