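import Mathlib
import Cfsg.Agent.Lib.PushPair.ThreeBase
import Cfsg.Agent.Lib.PushRankOne.Module

/-!
For `p = 3` and `b ≥ 3`: the count which gives a second critical chain around the second vertex.
-/

set_option autoImplicit false
set_option linter.unusedSectionVars false

namespace CfsgLib.PushPair

open Subgroup CfsgLib.PushUp

universe w v

variable {Γ : Type w} [Group Γ] [Finite Γ] {p : ℕ} {𝒮 : Sys.{w, v} Γ p}

variable (𝒮) in
/-- Large abelian subgroups outside the cores. -/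
def Big : Prop :=
  ∀ x T, 𝒮.edge x T → ∃ A : Subgroup Γ, A ≤ T ∧ (∀ a ∈ A, ∀ a' ∈ A, a * a' = a' * a) ∧ ¬ A ≤ 𝒮.Q x ∧
    ∀ W B : Subgroup Γ, W ≤ T → (∀ w ∈ W, ∀ w' ∈ W, w * w' = w' * w) → (∀ w ∈ W, w ^ p = 1) → B ≤ A →
      (∀ w ∈ W, ∀ a ∈ B, w * a = a * w) → Nat.card ↥(W ⊔ B) ≤ Nat.card A

variable {b : ℕ} (C : Chain 𝒮 b b) (hc : ¬ 𝒮.V (C.c 0) ≤ 𝒮.Q (C.c b)) (hb : 3 ≤ b)
include hc hb

/-- The second vertex has a member `y` of a large abelian subgroup for which the first vertex moved by `y` or `y²`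
still starts a critical chain. -/
theorem exists_crit_turn {T' A : Subgroup Γ} (hT' : 𝒮.edge (C.c 1) T') {k : Γ} (he : T' = cj k (C.e 0))
    (hA : A ≤ T') (hab : ∀ a ∈ A, ∀ a' ∈ A, a * a' = a' * a)
    (hbig : ∀ W B : Subgroup Γ, W ≤ T' → (∀ w ∈ W, ∀ w' ∈ W, w * w' = w' * w) → (∀ w ∈ W, w ^ p = 1) → B ≤ A →
      (∀ w ∈ W, ∀ a ∈ B, w * a = a * w) → Nat.card ↥(W ⊔ B) ≤ Nat.card A)
    {y : Γ} (hyA : y ∈ A) (hyQ : y ∉ 𝒮.Q (C.c 1)) :
    ¬ cj y (𝒮.V (C.c 0)) ≤ 𝒮.Q (C.c b) ∨ ¬ cj (y * y) (𝒮.V (C.c 0)) ≤ 𝒮.Q (C.c b) := by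
  by_contra hcon
  push Not at hcon
  obtain ⟨hy1, hy2⟩ := hcon
  have F1 := 𝒮.flag _ _ hT'
  have F0 := C.flag_l (i := 0) (by omega)
  have F0' := C.flag_r (i := 0) (by omega)
  have Fb := flag_last C hc
  set e := C.e 0 with hedef
  set V0 := 𝒮.V (C.c 0)
  set V1 := 𝒮.V (C.c 1)
  set Vb := 𝒮.V (C.c b)
  set Q0 := 𝒮.Q (C.c 0)
  set Q1 := 𝒮.Q (C.c 1)
  -- the translates at the second vertex
  have hedge : ∀ a ∈ T', 𝒮.edge (𝒮.mv a (C.c 0)) (cj a e) ∧ 𝒮.edge (C.c 1) (cj a e) := fun a ha =>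
    ⟨𝒮.edge_mv a _ _ (C.edge_l 0 (by omega)), 𝒮.edge_move _ _ _ (C.edge_r 0 (by omega)) (F1.T_le ha)⟩
  have htr : ∀ a ∈ T', ∀ v ∈ cj a V0, v ∈ Q1 := fun a ha v hv =>
    C.near_adj (hedge a ha).1 (hedge a ha).2 (i := 1) (j := 1) (by omega) (by omega) (by omega)
      (by rw [𝒮.V_mv]; exact hv)
  have hcomm : ∀ a ∈ T', ∀ a' ∈ T', ∀ v ∈ cj a V0, ∀ v' ∈ cj a' V0, v * v' = v' * v := by
    intro a ha a' ha' v hv v' hv'
    have h1 := C.below 2 (by omega) (𝒮.mv a (C.c 0)) (𝒮.mv a' (C.c 0))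
      (𝒮.reach_append 1 1 _ _ _ ⟨C.c 1, ⟨_, (hedge a ha).1, (hedge a ha).2⟩, rfl⟩
        ⟨_, ⟨_, (hedge a' ha').2, (hedge a' ha').1⟩, rfl⟩) (show v ∈ 𝒮.V (𝒮.mv a (C.c 0)) by rw [𝒮.V_mv]; exact hv)
    exact (𝒮.flag _ _ (hedge a' ha').1).V_cent v h1 v' (by rw [𝒮.V_mv]; exact hv')
  let gens : Set Γ := (V1 : Set Γ) ∪ {z | ∃ a ∈ A, z ∈ cj a V0}
  set W := Subgroup.closure gens with hW
  have hgen_comm : ∀ z ∈ gens, ∀ z' ∈ gens, z * z' = z' * z := by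
    rintro z (hz | ⟨a, ha, hz⟩) z' (hz' | ⟨a', ha', hz'⟩)
    · exact F1.abel z hz z' hz'
    · exact (F1.V_cent z' (htr a' (hA ha') z' hz') z hz).symm
    · exact F1.V_cent z (htr a (hA ha) z hz) z' hz'
    · exact hcomm a (hA ha) a' (hA ha') z hz z' hz'
  have hgen_exp : ∀ z ∈ gens, z ^ p = 1 := by
    rintro z (hz | ⟨a, -, v, hv, rfl⟩)
    · exact F1.elem z hz
    · rw [← map_pow, F0.elem v hv, map_one]
  obtain ⟨hWab, hWexp⟩ := CfsgLib.ZJ.isGood_closure hgen_comm hgen_exp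
  have hWT : W ≤ T' := (Subgroup.closure_le _).mpr (by
    rintro z (hz | ⟨a, ha, hz⟩)
    · exact F1.V_le_T hz
    · exact F1.Q_le (htr a (hA ha) z hz))
  have hV0W : ∀ a ∈ A, cj a V0 ≤ W := fun a ha z hz => Subgroup.subset_closure (Or.inr ⟨a, ha, hz⟩)
  have hV1W : V1 ≤ W := fun z hz => Subgroup.subset_closure (Or.inl hz)
  have hV0W' : V0 ≤ W := fun z hz => hV0W 1 (one_mem _) (by rw [mem_cj]; simpa using hz)
  have hyW : ∀ w ∈ W, y * w * y⁻¹ ∈ W := by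
    intro w hw
    induction hw using Subgroup.closure_induction with
    | mem z hz =>
      rcases hz with hz | ⟨a, ha, v, hv, rfl⟩
      · exact hV1W (conj_mem (F1.norm_V (F1.T_le (hA hyA))) hz)
      · refine hV0W (y * a) (mul_mem hyA ha) ⟨v, hv, ?_⟩
        simp [mul_assoc]
    | one => simp
    | mul a c _ _ iha ihc => rw [← conj_mul]; exact mul_mem iha ihc
    | inv a _ iha => rw [← conj_inv]; exact inv_mem iha
  let φ : ↥W →* Γ := MonoidHom.mk' (fun w => y * (w : Γ) * y⁻¹ * (w : Γ)⁻¹) fun u u' => by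
    have h1 : Commute (y * (u' : Γ) * y⁻¹) (u : Γ)⁻¹ :=
      Commute.inv_right (hWab _ (hyW _ u'.2) _ u.2)
    simp only [Subgroup.coe_mul, mul_inv_rev]
    calc y * (↑u * ↑u') * y⁻¹ * ((↑u' : Γ)⁻¹ * (↑u : Γ)⁻¹)
        = y * ↑u * y⁻¹ * ((y * ↑u' * y⁻¹) * ((↑u : Γ)⁻¹ * (↑u' : Γ)⁻¹)) := by
          rw [show (↑u' : Γ)⁻¹ * (↑u : Γ)⁻¹ = (↑u : Γ)⁻¹ * (↑u' : Γ)⁻¹ from
            (Commute.inv_inv (hWab _ u'.2 _ u.2)).eq]
          group
      _ = y * ↑u * y⁻¹ * ((↑u : Γ)⁻¹ * (y * ↑u' * y⁻¹)) * (↑u' : Γ)⁻¹ := by rw [← h1.eq]; group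
      _ = _ := by group
  have hφ : ∀ w (hw : w ∈ W), φ ⟨w, hw⟩ = y * w * y⁻¹ * w⁻¹ := fun w hw => rfl
  set I := φ.range with hI
  set Cy := W ⊓ centralizer ({y} : Set Γ) with hCy
  have hIcard : Nat.card I * Nat.card Cy = Nat.card W := by
    have h1 : φ.ker.map W.subtype = Cy := by
      ext z
      rw [hCy, Subgroup.mem_inf, mem_centralizer_singleton_iff]
      constructor
      · rintro ⟨⟨z, hz⟩, hk, rfl⟩
        exact ⟨hz, (mul_inv_eq_iff_eq_mul.mp (mul_inv_eq_one.mp hk)).symm⟩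
      · rintro ⟨hz, hzy⟩
        exact ⟨⟨z, hz⟩, show y * z * y⁻¹ * z⁻¹ = 1 by rw [← hzy]; group, rfl⟩
    rw [← h1, Subgroup.card_map_of_injective W.subtype_injective, hI, ← Subgroup.index_ker, mul_comm]
    exact φ.ker.card_mul_index
  -- the count from above
  set D := Q0 ⊓ Q1 with hD
  set B := A ⊓ centralizer (W : Set Γ) with hB
  have hAD : A ⊓ D ≤ B := by
    refine le_inf inf_le_left fun a ha => ?_
    rw [hW, centralizer_closure]
    rintro z (hz | ⟨a', ha', v, hv, rfl⟩)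
    · exact (F1.V_cent a ha.2.2 z hz).symm
    · have h : a * v = v * a := F0.V_cent a ha.2.1 v hv
      have h' : a * a' = a' * a := hab a ha.1 a' ha'
      show a' * v * a'⁻¹ * a = a * (a' * v * a'⁻¹)
      calc a' * v * a'⁻¹ * a = a' * v * a * a'⁻¹ := by
            rw [mul_assoc _ a'⁻¹ a, ← (show Commute a a' from h').inv_right.eq, ← mul_assoc]
        _ = (a' * a) * v * a'⁻¹ := by rw [mul_assoc a' v a, ← h, ← mul_assoc]
        _ = _ := by rw [← h']; group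
  have hWB : Nat.card W * Nat.card B ≤ Nat.card A * Nat.card Cy := by
    refine le_trans ?_ (Nat.mul_le_mul_right _ (hbig W B hWT hWab hWexp inf_le_left fun w hw a ha => ha.2 w hw))
    exact CfsgLib.PushRankOne.card_mul_le_of_fibres id
      (fun t ht c hc => mul_mem (mem_sup_left ht) (mem_sup_right hc))
      (fun t ht s hs hst => Subgroup.mem_inf.mpr ⟨mul_mem (inv_mem hs) ht, mem_centralizer_singleton_iff.mpr (hab _ hst.1 y hyA)⟩)
  have hADT : Nat.card A * Nat.card D ≤ Nat.card T' * Nat.card ↥(A ⊓ D) :=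
    CfsgLib.PushRankOne.card_mul_le_of_fibres id
      (fun t ht c hc => mul_mem (hA ht) (F1.Q_le hc.2))
      (fun t ht s hs hst => Subgroup.mem_inf.mpr ⟨mul_mem (inv_mem hs) ht, hst⟩)
  have hID : Nat.card I * Nat.card D ≤ Nat.card T' := by
    refine Nat.le_of_mul_le_mul_right ?_ (Nat.mul_pos (Nat.card_pos (α := Cy)) (Nat.card_pos (α := ↥(A ⊓ D))))
    calc Nat.card I * Nat.card D * (Nat.card Cy * Nat.card ↥(A ⊓ D))
        = Nat.card W * Nat.card ↥(A ⊓ D) * Nat.card D := by rw [← hIcard]; ring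
      _ ≤ Nat.card A * Nat.card Cy * Nat.card D :=
          Nat.mul_le_mul_right _ ((Nat.mul_le_mul_left _ (Subgroup.card_le_of_le hAD)).trans hWB)
      _ = Nat.card A * Nat.card D * Nat.card Cy := by ring
      _ ≤ Nat.card T' * Nat.card ↥(A ⊓ D) * Nat.card Cy := Nat.mul_le_mul_right _ hADT
      _ = _ := by ring
  have hQQ : Nat.card Q0 * Nat.card Q1 ≤ Nat.card e * Nat.card D :=
    CfsgLib.PushRankOne.card_mul_le_of_fibres id
      (fun t ht c hc => mul_mem (F0.Q_le ht) (F0'.Q_le hc))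
      (fun t ht s hs hst => Subgroup.mem_inf.mpr ⟨mul_mem (inv_mem hs) ht, hst⟩)
  have hTe : Nat.card T' = Nat.card e := he ▸ Subgroup.card_map_of_injective (MulEquiv.injective _)
  -- the count from below
  set Z := centralizer (Vb : Set Γ) with hZ
  set K' := I ⊓ Z with hK'
  have hV1Z : ∀ v ∈ V1, v ∈ Z := fun v hv w hw =>
    C.comm (i := b) (j := 1) le_rfl (by omega) (by omega) (by omega) w hw v hv
  have hyZ : ∀ {a : Γ}, cj a V0 ≤ 𝒮.Q (C.c b) → ∀ v ∈ V0, a * v * a⁻¹ ∈ Z := fun {a} ha v hv w hw =>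
    (Fb.V_cent _ (ha (conj_mem_cj hv)) w hw).symm
  have hF0 : ∀ v ∈ V0, v ∈ Z → v ∈ centralizer (e : Set Γ) := by
    intro v hv hvZ
    obtain ⟨x, hx, hxQ⟩ := exists_outside C hc
    exact F0.fixed x (Vb_le_e0 C hc hx) hxQ v hv (hvZ x hx)
  have hlow1 : Nat.card V0 * Nat.card K' ≤ Nat.card I * Nat.card ↥(V0 ⊓ centralizer (e : Set Γ)) := by
    refine CfsgLib.PushRankOne.card_mul_le_of_fibres (fun v => y * v * y⁻¹ * v⁻¹) ?_ ?_
    · exact fun t ht c hc => mul_mem ⟨⟨t, hV0W' ht⟩, rfl⟩ hc.1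
    · intro t ht s hs hst
      refine Subgroup.mem_inf.mpr ⟨mul_mem (inv_mem hs) ht, hF0 _ (mul_mem (inv_mem hs) ht) ?_⟩
      have h1 : y * s * y⁻¹ ∈ Z := hyZ hy1 s hs
      have h2 : y * t * y⁻¹ ∈ Z := hyZ hy1 t ht
      have h3 : (s : Γ) * (y * s * y⁻¹)⁻¹ * (y * t * y⁻¹) * t⁻¹ ∈ Z := by
        have h := hst.2
        simp only [mul_inv_rev, inv_inv] at h ⊢
        simpa [mul_assoc] using h
      have e1 : (s * (y * s * y⁻¹)⁻¹ * (y * t * y⁻¹) * t⁻¹) =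
          ((y * s * y⁻¹)⁻¹ * (y * t * y⁻¹)) * (s * t⁻¹) := by
        have hWs : Commute s ((y * s * y⁻¹)⁻¹ * (y * t * y⁻¹)) :=
          hWab _ (hV0W' hs) _ (mul_mem (inv_mem (hyW _ (hV0W' hs))) (hyW _ (hV0W' ht)))
        rw [mul_assoc s, hWs.eq, mul_assoc _ s]
      rw [e1] at h3
      have h4 : s * t⁻¹ ∈ Z := by
        have := mul_mem (inv_mem (mul_mem (inv_mem h1) h2)) h3
        rwa [inv_mul_cancel_left] at this
      rw [show s⁻¹ * t = t * s⁻¹ from F0.abel _ (inv_mem hs) _ ht]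
      simpa using inv_mem h4
  set P1 := (V1.subgroupOf W).map φ with hP1
  have hlow2 : Nat.card e ≤ Nat.card P1 * Nat.card Q1 := by
    have h1 : Nat.card V1 * Nat.card (⊥ : Subgroup Γ) ≤
        Nat.card P1 * Nat.card ↥(V1 ⊓ centralizer (T' : Set Γ)) := by
      refine CfsgLib.PushRankOne.card_mul_le_of_fibres (fun v => y * v * y⁻¹ * v⁻¹) ?_ ?_
      · intro t ht c hc
        rw [Subgroup.mem_bot.mp hc, mul_one]
        exact ⟨⟨t, hV1W ht⟩, Subgroup.mem_subgroupOf.mpr ht, rfl⟩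
      · intro t ht s hs hst
        refine Subgroup.mem_inf.mpr ⟨mul_mem (inv_mem hs) ht, F1.fixed y (hA hyA) hyQ _ (mul_mem (inv_mem hs) ht) ?_⟩
        have h : φ (⟨s, hV1W hs⟩⁻¹ * ⟨t, hV1W ht⟩) = 1 := by
          rw [map_mul, map_inv]; exact Subgroup.mem_bot.mp hst
        exact mul_inv_eq_iff_eq_mul.mp (mul_inv_eq_one.mp h)
    rw [Subgroup.card_bot, mul_one] at h1
    refine Nat.le_of_mul_le_mul_right ?_ (Nat.card_pos (α := ↥(V1 ⊓ centralizer (T' : Set Γ))))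
    calc Nat.card e * Nat.card ↥(V1 ⊓ centralizer (T' : Set Γ))
        = Nat.card Q1 * Nat.card V1 := by rw [← hTe, F1.index]
      _ ≤ Nat.card Q1 * (Nat.card P1 * Nat.card ↥(V1 ⊓ centralizer (T' : Set Γ))) := Nat.mul_le_mul_left _ h1
      _ = _ := by ring
  have hP1K : P1 ≤ K' := by
    rintro _ ⟨⟨v, hv⟩, hv1, rfl⟩
    refine ⟨⟨_, rfl⟩, ?_⟩
    show y * v * y⁻¹ * v⁻¹ ∈ Z
    exact mul_mem (hV1Z _ (conj_mem (F1.norm_V (F1.T_le (hA hyA))) hv1)) (inv_mem (hV1Z v hv1))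
  have hne : P1 ≠ K' := by
    obtain ⟨v, hv, hvb⟩ := exists_moved C hc
    intro heq
    have hu : y * v * y⁻¹ ∈ W := hV0W y hyA (conj_mem_cj hv)
    have hmem : φ ⟨_, hu⟩ ∈ K' := by
      refine ⟨⟨_, rfl⟩, ?_⟩
      show y * (y * v * y⁻¹) * y⁻¹ * (y * v * y⁻¹)⁻¹ ∈ Z
      refine mul_mem ?_ (inv_mem (hyZ hy1 v hv))
      have := hyZ hy2 v hv
      simpa [mul_assoc] using this
    obtain ⟨⟨v1, hv1W⟩, hv1, h1⟩ := heq.ge hmem
    have h2 : φ (⟨v1, hv1W⟩⁻¹ * ⟨_, hu⟩) = 1 := by rw [map_mul, map_inv, h1, inv_mul_cancel]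
    have h3 : y * (v1⁻¹ * (y * v * y⁻¹)) * y⁻¹ = v1⁻¹ * (y * v * y⁻¹) := mul_inv_eq_one.mp h2
    have h4 : v = (y⁻¹ * v1 * y) * (v1⁻¹ * (y * v * y⁻¹)) := by
      have h5 : v = y⁻¹ * (y * v * y⁻¹) * y := by group
      calc v = y⁻¹ * (v1 * (v1⁻¹ * (y * v * y⁻¹))) * y := by rw [mul_inv_cancel_left, ← h5]
        _ = (y⁻¹ * v1 * y) * (y⁻¹ * (v1⁻¹ * (y * v * y⁻¹)) * y) := by group
        _ = _ := by nth_rewrite 1 [← h3]; group
    refine hvb fun x hx => ?_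
    have hZv : v ∈ Z := by
      rw [h4]
      exact mul_mem (hV1Z _ (conj_mem' (F1.norm_V (F1.T_le (hA hyA))) hv1))
        (mul_mem (inv_mem (hV1Z v1 hv1)) (hyZ hy1 v hv))
    exact hZv x hx
  have h2 : 2 * Nat.card P1 ≤ Nat.card K' := by
    obtain ⟨m, hm⟩ := Subgroup.card_dvd_of_le hP1K
    have hm2 : 2 ≤ m := by
      rcases m with _ | _ | m
      · rw [mul_zero] at hm; exact absurd hm (Nat.card_pos (α := K')).ne'
      · exact absurd (Subgroup.eq_of_le_of_card_ge hP1K (by rw [hm]; simp)) hne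
      · omega
    rw [hm, mul_comm 2]
    exact Nat.mul_le_mul_left _ hm2
  have h5 : Nat.card K' * Nat.card e ≤ Nat.card I * Nat.card Q0 := by
    refine Nat.le_of_mul_le_mul_right ?_ (Nat.card_pos (α := V0))
    calc Nat.card K' * Nat.card e * Nat.card V0 = Nat.card V0 * Nat.card K' * Nat.card e := by ring
      _ ≤ Nat.card I * Nat.card ↥(V0 ⊓ centralizer (e : Set Γ)) * Nat.card e := Nat.mul_le_mul_right _ hlow1
      _ = Nat.card I * (Nat.card e * Nat.card ↥(V0 ⊓ centralizer (e : Set Γ))) := by ring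
      _ = _ := by rw [F0.index]; ring
  have h6 : 2 * (Nat.card e * Nat.card e) ≤ Nat.card e * Nat.card e := by
    calc 2 * (Nat.card e * Nat.card e) ≤ 2 * (Nat.card P1 * Nat.card Q1 * Nat.card e) :=
          Nat.mul_le_mul_left _ (Nat.mul_le_mul_right _ hlow2)
      _ = 2 * Nat.card P1 * Nat.card Q1 * Nat.card e := by ring
      _ ≤ Nat.card K' * Nat.card Q1 * Nat.card e := Nat.mul_le_mul_right _ (Nat.mul_le_mul_right _ h2)
      _ = Nat.card K' * Nat.card e * Nat.card Q1 := by ring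
      _ ≤ Nat.card I * Nat.card Q0 * Nat.card Q1 := Nat.mul_le_mul_right _ h5
      _ = Nat.card I * (Nat.card Q0 * Nat.card Q1) := by ring
      _ ≤ Nat.card I * (Nat.card e * Nat.card D) := Nat.mul_le_mul_left _ hQQ
      _ = Nat.card e * (Nat.card I * Nat.card D) := by ring
      _ ≤ _ := Nat.mul_le_mul_left _ (hID.trans hTe.le)
  have := Nat.mul_pos (Nat.card_pos (α := e)) (Nat.card_pos (α := e))
  omega

/-- A second chain around the second vertex, and the commutator subgroup is central there. -/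
theorem exists_turn (hH : Homog 𝒮) (hbig : Big 𝒮) (hp : p = 3) :
    ∃ t, ∃ ht : t ∈ 𝒮.H (C.c 1), Subgroup.closure {t} ⊔ C.e 0 = 𝒮.H (C.c 1) ∧
      ¬ 𝒮.V ((repl C ht).c 0) ≤ 𝒮.Q ((repl C ht).c b) ∧ aa C ≤ centralizer (𝒮.H (C.c 1) : Set Γ) := by
  obtain ⟨T', hT', hopp⟩ := 𝒮.exists_opp _ _ (C.edge_r 0 (by omega))
  obtain ⟨k, hk, he⟩ := hH.trans _ _ _ (C.edge_r 0 (by omega)) hT'
  obtain ⟨A, hA, hab, hAQ, hb'⟩ := hbig _ _ hT'
  obtain ⟨y, hyA, hyQ⟩ := SetLike.not_le_iff_exists.mp hAQ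
  have F1 := 𝒮.flag _ _ hT'
  obtain ⟨t, htA, htQ, htc⟩ : ∃ t ∈ A, t ∉ 𝒮.Q (C.c 1) ∧ ¬ cj t (𝒮.V (C.c 0)) ≤ 𝒮.Q (C.c b) := by
    rcases exists_crit_turn C hc hb hT' he hA hab hb' hyA hyQ with h | h
    · exact ⟨y, hyA, hyQ, h⟩
    · refine ⟨y * y, mul_mem hyA hyA, fun h2 => hyQ ?_, h⟩
      have h3 := F1.exp y (hA hyA)
      subst hp
      have := mul_mem h3 (inv_mem h2)
      rwa [show y ^ 3 * (y * y)⁻¹ = y by group] at this
  have ht : t ∈ 𝒮.H (C.c 1) := F1.T_le (hA htA)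
  have hcrit : ¬ 𝒮.V ((repl C ht).c 0) ≤ 𝒮.Q ((repl C ht).c b) := by
    simpa [repl, 𝒮.V_mv, show b ≠ 0 by omega] using htc
  refine ⟨t, ht, hopp.right t (hA htA) htQ, hcrit, fun a ha => ?_⟩
  obtain ⟨e1, e2⟩ := aa_repl C hc (by omega) ht hcrit
  have hta : t * a * t⁻¹ * a⁻¹ ∈ aa C := by
    refine mul_mem ?_ (inv_mem ha)
    rw [← e1, e2]
    exact conj_mem_cj ha
  have F0' := C.flag_r (i := 0) (by omega)
  refine cent_mod (x := t) (T' := C.e 0) (k := k) (F0'.T_le (F0'.V_le_T (aa_le_V1 C hc (by omega) ha)))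
    (hopp.right t (hA htA) htQ) (fun s hs => aa_cent C hc ha s hs) hk ?_ ?_
  · exact mem_cj.mp (he ▸ hA htA)
  · refine hopp.symm.cent_left (hA htA) htQ ?_ fun s hs => aa_cent C hc hta s hs
    exact F1.quad a (aa_le_V1 C hc (by omega) ha) t (hA htA) t (hA htA)

end CfsgLib.PushPair
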