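import Mathlib
import Cfsg.Agent.Lib.PushPair.ThreeCount
import Cfsg.Agent.Lib.PushUp.Ambient

/-!
For `p = 3` and `b ≥ 3`: the translates of the first module inside the last core are invariant.
-/

set_option autoImplicit false
set_option linter.unusedSectionVars false
set_option maxHeartbeats 1000000

namespace CfsgLib.PushPair

open Subgroup CfsgLib.PushUp

universe w v

variable {Γ : Type w} [Group Γ] [Finite Γ] {p : ℕ} {𝒮 : Sys.{w, v} Γ p}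

variable {b : ℕ} (C : Chain 𝒮 b b) (hc : ¬ 𝒮.V (C.c 0) ≤ 𝒮.Q (C.c b)) (hb : 3 ≤ b)
include hc hb

/-- The common core of the first two vertices is normalized by the first vertex group. -/
theorem dd_conj (hrel : Rel 𝒮 (C.c 0) (C.c 1)) {γ : Γ} (hγ : γ ∈ 𝒮.H (C.c 0)) {d : Γ} (hd0 : d ∈ 𝒮.Q (C.c 0))
    (hd1 : d ∈ 𝒮.Q (C.c 1)) : γ * d * γ⁻¹ ∈ 𝒮.Q (C.c 0) ∧ γ * d * γ⁻¹ ∈ 𝒮.Q (C.c 1) := by
  have F0 := C.flag_l (i := 0) (by omega)
  have F1 := C.flag_r (i := 0) (by omega)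
  have hq : γ * d * γ⁻¹ ∈ 𝒮.Q (C.c 0) := conj_mem (F0.norm_Q hγ) hd0
  refine ⟨hq, F1.mem_of_cent (F0.Q_le hq) fun v hv => ?_⟩
  have hle : 𝒮.V (C.c 0) ⊔ 𝒮.V (C.c 1) ≤ centralizer ({d} : Set Γ) := sup_le
    (fun x hx => mem_centralizer_singleton_iff.mpr (F0.V_cent d hd0 x hx).symm)
    (fun x hx => mem_centralizer_singleton_iff.mpr (F1.V_cent d hd1 x hx).symm)
  have h := mem_centralizer_singleton_iff.mp (hle (conj_mem' (hrel hγ) (mem_sup_right hv)))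
  calc γ * d * γ⁻¹ * v = γ * (d * (γ⁻¹ * v * γ)) * γ⁻¹ := by group
    _ = γ * ((γ⁻¹ * v * γ) * d) * γ⁻¹ := by rw [h]
    _ = v * (γ * d * γ⁻¹) := by group

/-- The twisted vertex leaves the module in the core of the vertex two before the last. -/
theorem twist_le {γ h : Γ} (hγ : γ ∈ 𝒮.H (C.c 0)) (hh : h ∈ 𝒮.H (C.c 1))
    (hfix : aa C ≤ centralizer (𝒮.H (C.c 1) : Set Γ)) {x : Γ} (hx : x ∈ 𝒮.V (C.c b))
    {T' : Subgroup Γ} (hγe : cj γ (C.e 0) = T') (hgen : Subgroup.closure {x} ⊔ T' = 𝒮.H (C.c 0)) :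
    cj (γ * h) (𝒮.V (C.c 0)) ≤ 𝒮.Q (C.c (b - 2)) := by
  by_contra hne
  obtain ⟨n, rfl⟩ : ∃ n, b = n + 2 := ⟨b - 2, by omega⟩
  rw [Nat.add_sub_cancel] at hne
  let C' : Chain 𝒮 (n + 2) (n + 2) :=
    { c := fun i => if i = 0 then 𝒮.mv (γ * h) (C.c 0) else if i = 1 then 𝒮.mv γ (C.c 1) else C.c (i - 2)
      e := fun i => if i = 0 then cj (γ * h) (C.e 0) else if i = 1 then cj γ (C.e 0) else C.e (i - 2)
      edge_l := fun i hi => by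
        match i with
        | 0 => simpa using 𝒮.edge_mv (γ * h) _ _ (C.edge_l 0 (by omega))
        | 1 => simpa using 𝒮.edge_mv γ _ _ (C.edge_r 0 (by omega))
        | j + 2 => simpa using C.edge_l j (by omega)
      edge_r := fun i hi => by
        match i with
        | 0 =>
          have h1 := 𝒮.edge_mv γ _ _ (𝒮.edge_move _ _ _ (C.edge_r 0 (by omega)) hh)
          rw [cj_cj] at h1
          simpa using h1
        | 1 => simpa using 𝒮.edge_move _ _ _ (C.edge_l 0 (by omega)) hγ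
        | j + 2 => simpa [show j + 2 + 1 - 2 = j + 1 by omega] using C.edge_r j (by omega)
      hb := C.hb
      hL := le_rfl
      below := C.below }
  have hc' : ¬ 𝒮.V (C'.c 0) ≤ 𝒮.Q (C'.c (n + 2)) := by simpa [C', 𝒮.V_mv] using hne
  have hle := aa_le_Vb C' hc'
  rw [aa_eq_left C' hc'] at hle
  have e1 : C'.e 0 = cj (γ * h) (C.e 0) := by simp [C']
  have e2 : 𝒮.V (C'.c 0) = cj (γ * h) (𝒮.V (C.c 0)) := by simp [C', 𝒮.V_mv]
  rw [e1, e2, ← map_comm_closure, ← aa_eq_left C hc] at hle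
  have hlast : C'.c (n + 2) = C.c n := by simp [C']
  rw [hlast] at hle
  refine aa_not_central C hc fun a ha => ?_
  have hha : h * a * h⁻¹ = a := mul_inv_eq_iff_eq_mul.mpr ((hfix ha) h hh)
  have hu : γ * a * γ⁻¹ ∈ 𝒮.V (C.c n) := by
    refine hle ⟨a, ha, ?_⟩
    show γ * h * a * (γ * h)⁻¹ = _
    rw [mul_inv_rev, show γ * h * a * (h⁻¹ * γ⁻¹) = γ * (h * a * h⁻¹) * γ⁻¹ by group, hha]
  have hcen : γ * a * γ⁻¹ ∈ centralizer (𝒮.H (C.c 0) : Set Γ) := by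
    intro g hg
    have hle' : 𝒮.H (C.c 0) ≤ centralizer {γ * a * γ⁻¹} := hgen.ge.trans (sup_le
      ((Subgroup.closure_le _).mpr (Set.singleton_subset_iff.mpr (mem_centralizer_singleton_iff.mpr
        (C.comm (i := n + 2) (j := n) le_rfl (by omega) (by omega) (by omega) x hx _ hu))))
      fun t ht => by
        rw [← hγe, mem_cj] at ht
        refine mem_centralizer_singleton_iff.mpr ?_
        have := (aa_cent C hc ha) _ ht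
        calc t * (γ * a * γ⁻¹) = γ * ((γ⁻¹ * t * γ) * a) * γ⁻¹ := by group
          _ = γ * (a * (γ⁻¹ * t * γ)) * γ⁻¹ := by rw [this]
          _ = _ := by group)
    exact mem_centralizer_singleton_iff.mp (hle' hg)
  intro g hg
  have h1 := hcen (γ * g * γ⁻¹) (mul_mem (mul_mem hγ hg) (inv_mem hγ))
  have h2 : γ * (g * a) * γ⁻¹ = γ * (a * g) * γ⁻¹ := by
    calc γ * (g * a) * γ⁻¹ = γ * g * γ⁻¹ * (γ * a * γ⁻¹) := by group
      _ = γ * a * γ⁻¹ * (γ * g * γ⁻¹) := h1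
      _ = _ := by group
  exact mul_left_cancel (mul_right_cancel h2)

omit hc hb

/-- Raising to a power in a group of exponent three. -/
theorem sq_inj_three {a : Γ} (h3 : a ^ 3 = 1) {K : Subgroup Γ} (h2 : a * a ∈ K) : a ∈ K := by
  have h := mul_mem h2 h2
  rw [pow_three] at h3
  rwa [show a * a * (a * a) = a * (a * a) * a by group, h3, one_mul] at h

/-- The set of the translates inside the last core is invariant under the first edge. -/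
theorem stable (hH : Homog 𝒮) (hp : p = 3) {b : ℕ} (C : Chain 𝒮 b b) (hc : ¬ 𝒮.V (C.c 0) ≤ 𝒮.Q (C.c b))
    (hb : 3 ≤ b) (hrel : Rel 𝒮 (C.c 0) (C.c 1)) (hfix : aa C ≤ centralizer (𝒮.H (C.c 1) : Set Γ))
    {h : Γ} (hh : h ∈ 𝒮.H (C.c 1)) (hin : cj h (𝒮.V (C.c 0)) ≤ 𝒮.Q (C.c b)) {g : Γ} (hg : g ∈ C.e 0) :
    cj (g * h) (𝒮.V (C.c 0)) ≤ 𝒮.Q (C.c b) := by
  subst hp
  have F0 := C.flag_l (i := 0) (by omega)
  have F1 := C.flag_r (i := 0) (by omega)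
  have Fb := flag_last C hc
  set H0 := 𝒮.H (C.c 0)
  set Q0 := 𝒮.Q (C.c 0)
  set V0 := 𝒮.V (C.c 0)
  set Vb := 𝒮.V (C.c b)
  set Q1 := 𝒮.Q (C.c 1)
  set D := Q0 ⊓ Q1 with hD
  -- reduction to the first core
  obtain ⟨u, hu, g, hgQ, rfl⟩ := split0 C hc hg
  suffices hmain : cj (g * h) V0 ≤ 𝒮.Q (C.c b) by
    rintro _ ⟨w, hw, rfl⟩
    have h1 := hmain (conj_mem_cj hw)
    have h2 := Fb.V_cent _ h1 u hu
    show u * g * h * w * (u * g * h)⁻¹ ∈ 𝒮.Q (C.c b)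
    rw [show u * g * h * w * (u * g * h)⁻¹ = u * (g * h * w * (g * h)⁻¹) * u⁻¹ by group, ← h2, mul_inv_cancel_right]
    exact h1
  clear hu hg
  -- a general position
  obtain ⟨T', hT', hopp⟩ := 𝒮.exists_opp _ _ (C.edge_l 0 (by omega))
  obtain ⟨γ₀, hγ₀, hγT⟩ := hH.trans _ _ _ (C.edge_l 0 (by omega)) hT'
  have F' := 𝒮.flag _ _ hT'
  have hVb : Vb ≤ C.e 0 := Vb_le_e0 C hc
  -- elements of the first module
  have V0comm : ∀ a ∈ V0, ∀ c ∈ V0, a * c = c * a := F0.abel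
  have hQV : ∀ q ∈ Q0, ∀ a ∈ V0, q * a * q⁻¹ = a := fun q hq a ha => by
    rw [F0.V_cent q hq a ha, mul_inv_cancel_right]
  have hcV : ∀ z ∈ centralizer (H0 : Set Γ), ∀ t ∈ H0, t * z * t⁻¹ = z := fun z hz t ht => by
    rw [hz t ht, mul_inv_cancel_right]
  suffices key : ∀ x ∈ Vb, x ∉ Q0 → ∀ w ∈ cj h V0,
      x * (g * w * g⁻¹) * x⁻¹ * (g * w * g⁻¹)⁻¹ ∈ centralizer (H0 : Set Γ) by
    by_contra hne
    have hgh : g * h ∈ 𝒮.H (C.c 1) := mul_mem (F1.T_le (F0.Q_le hgQ)) hh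
    have hc' : ¬ 𝒮.V ((repl C hgh).c 0) ≤ 𝒮.Q ((repl C hgh).c b) := by
      simpa [repl, 𝒮.V_mv, show b ≠ 0 by omega] using hne
    refine aa_not_central C hc ?_
    rw [← (aa_repl C hc (by omega) hgh hc').1, aa, Subgroup.closure_le]
    rintro _ ⟨x, hx, v, hv, rfl⟩
    have hx' : x ∈ Vb := by simpa [repl, show b ≠ 0 by omega] using hx
    have hv' : v ∈ cj (g * h) V0 := by simpa [repl, 𝒮.V_mv] using hv
    obtain ⟨w, hw, rfl⟩ := hv'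
    obtain ⟨x₀, hx₀, hx₀Q⟩ := exists_outside C hc
    have key' : ∀ y ∈ Vb, y ∉ Q0 → y * (g * h * w * (g * h)⁻¹) * y⁻¹ * (g * h * w * (g * h)⁻¹)⁻¹ ∈
        centralizer (H0 : Set Γ) := fun y hy hyQ => by
      have := key y hy hyQ (h * w * h⁻¹) (conj_mem_cj hw)
      rwa [show g * (h * w * h⁻¹) * g⁻¹ = g * h * w * (g * h)⁻¹ by group] at this
    show x * (g * h * w * (g * h)⁻¹) * x⁻¹ * (g * h * w * (g * h)⁻¹)⁻¹ ∈ centralizer (H0 : Set Γ)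
    by_cases hxQ : x ∈ Q0
    · set v := g * h * w * (g * h)⁻¹ with hv
      have h1 := key' (x * x₀) (mul_mem hx' hx₀) (fun h' => hx₀Q (by simpa using mul_mem (inv_mem hxQ) h'))
      have h2 := key' x₀ hx₀ hx₀Q
      set c := x₀ * v * x₀⁻¹ * v⁻¹
      have e : x * x₀ * v * (x * x₀)⁻¹ * v⁻¹ = x * c * x⁻¹ * (x * v * x⁻¹ * v⁻¹) := by simp only [c]; group
      rw [e, h2 x (F0.T_le (hVb hx')), mul_inv_cancel_right] at h1
      simpa using mul_mem (inv_mem h2) h1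
    · exact key' x hx' hxQ
  intro x hx hxQ w hw
  have hxe : x ∈ C.e 0 := hVb hx
  have hxH : x ∈ H0 := F0.T_le hxe
  have hxQ1 : x ∈ Q1 := C.near (i := b) (j := 1) le_rfl (by omega) (by omega) (by omega) hx
  have hgenx : Subgroup.closure {x} ⊔ T' = H0 := hopp.left x hxe hxQ
  -- the admissible data
  let Adm : Γ → Γ → Prop := fun γ m => γ ∈ H0 ∧ cj γ (C.e 0) = T' ∧ m ∈ cj (γ * h) V0
  have hQ1h : ∀ d ∈ Q1, h⁻¹ * d * h ∈ C.e 0 := fun d hd => F1.Q_le (conj_mem' (F1.norm_Q hh) hd)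
  have hmQ0 : ∀ {γ m : Γ}, Adm γ m → m ∈ Q0 := by
    rintro γ m ⟨hγ, -, hm⟩
    obtain ⟨v, hv, rfl⟩ := hm
    have h1 : 𝒮.V (𝒮.mv (γ * h) (C.c 0)) ≤ 𝒮.Q (C.c 0) := by
      refine C.below 2 (by omega) _ _ (𝒮.reach_append 1 1 _ (𝒮.mv γ (C.c 1)) _ ⟨_, ⟨cj (γ * h) (C.e 0),
        𝒮.edge_mv _ _ _ (C.edge_l 0 (by omega)), ?_⟩, rfl⟩ ⟨_, ⟨cj γ (C.e 0), 𝒮.edge_mv _ _ _ (C.edge_r 0 (by omega)),
          𝒮.edge_move _ _ _ (C.edge_l 0 (by omega)) hγ⟩, rfl⟩)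
      have := 𝒮.edge_mv γ _ _ (𝒮.edge_move _ _ _ (C.edge_r 0 (by omega)) hh)
      rwa [cj_cj] at this
    exact h1 (by rw [𝒮.V_mv]; exact conj_mem_cj hv)
  -- the values lie in the moved commutator subgroup
  have hα : ∀ {γ m d : Γ}, Adm γ m → d ∈ D →
      d * m * d⁻¹ * m⁻¹ ∈ V0 ∧ ∀ t ∈ T', t * (d * m * d⁻¹ * m⁻¹) = d * m * d⁻¹ * m⁻¹ * t := by
    rintro γ m d ⟨hγ, hγe, hm⟩ hd
    obtain ⟨v, hv, rfl⟩ := hm
    obtain ⟨hd0, hd1⟩ := Subgroup.mem_inf.mp hd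
    obtain ⟨-, hd'⟩ := dd_conj C hc hb hrel (inv_mem hγ) hd0 hd1
    set s := h⁻¹ * (γ⁻¹ * d * γ⁻¹⁻¹) * h with hs
    set a := s * v * s⁻¹ * v⁻¹
    have ha : a ∈ aa C := mem_aa C hc (hQ1h _ hd') hv
    have hha : h * a * h⁻¹ = a := mul_inv_eq_iff_eq_mul.mpr ((hfix ha) h hh)
    have e : d * (γ * h * v * (γ * h)⁻¹) * d⁻¹ * (γ * h * v * (γ * h)⁻¹)⁻¹ = γ * (h * a * h⁻¹) * γ⁻¹ := by
      simp only [a, hs]; group
    show d * (γ * h * v * (γ * h)⁻¹) * d⁻¹ * (γ * h * v * (γ * h)⁻¹)⁻¹ ∈ V0 ∧ _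
    rw [show (MulAut.conj (γ * h)).toMonoidHom v = γ * h * v * (γ * h)⁻¹ from rfl, e, hha]
    refine ⟨conj_mem (F0.norm_V hγ) (aa_le_V0 C hc ha), fun t ht => ?_⟩
    rw [← hγe, mem_cj] at ht
    have := (aa_cent C hc ha) _ ht
    calc t * (γ * a * γ⁻¹) = γ * ((γ⁻¹ * t * γ) * a) * γ⁻¹ := by group
      _ = γ * (a * (γ⁻¹ * t * γ)) * γ⁻¹ := by rw [this]
      _ = _ := by group
  -- the commutator with `x` is fixed by `x`
  have hF2 : ∀ {γ m : Γ}, Adm γ m → ∀ k : Γ, k = x * m * x⁻¹ * m⁻¹ → x * k = k * x := by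
    rintro γ m ⟨hγ, hγe, hm⟩ k rfl
    have h1 : m ∈ 𝒮.Q (C.c (b - 2)) := twist_le C hc hb hγ hh hfix hx hγe hgenx hm
    have hmH : m ∈ 𝒮.H (C.c (b - 1)) := by
      have h2 := (C.flag_r (i := b - 2) (by omega)).T_le ((C.flag_l (i := b - 2) (by omega)).Q_le h1)
      rwa [show b - 2 + 1 = b - 1 by omega] at h2
    have hedge : 𝒮.edge (C.c b) (C.e (b - 1)) := by
      have := C.edge_r (b - 1) (by omega)
      rwa [show b - 1 + 1 = b by omega] at this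
    have h4 : Commute (m * x⁻¹ * m⁻¹) x :=
      C.comm_adj (u := 𝒮.mv m (C.c b)) (i := b - 1) (j := b) (𝒮.edge_mv m _ _ hedge)
        (𝒮.edge_move _ _ _ (C.edge_l (b - 1) (by omega)) hmH) (by omega) le_rfl (by omega) _
        (by rw [𝒮.V_mv]; exact conj_mem_cj (inv_mem hx)) x hx
    have : Commute (x * (m * x⁻¹ * m⁻¹)) x := (Commute.refl x).mul_left h4
    rw [show x * m * x⁻¹ * m⁻¹ = x * (m * x⁻¹ * m⁻¹) by group]
    exact this.eq.symm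
  -- values of `x` on the module
  have hδ : ∀ a ∈ V0, x * a * x⁻¹ * a⁻¹ ∈ V0 ∧ x * (x * a * x⁻¹ * a⁻¹) = (x * a * x⁻¹ * a⁻¹) * x :=
    fun a ha => ⟨F0.comm_mem_V hxH ha, F0.quad a ha x hxe x hxe⟩
  have hV3 : ∀ a ∈ V0, a ^ 3 = 1 := F0.elem
  -- invariance under `x`
  have hP2 : ∀ {γ m : Γ}, Adm γ m → ∀ d ∈ D,
      (x⁻¹ * d * x) * m * (x⁻¹ * d * x)⁻¹ * m⁻¹ * (d * m * d⁻¹ * m⁻¹)⁻¹ ∈ centralizer (H0 : Set Γ) := by
    intro γ m hA d hd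
    obtain ⟨hd0, hd1⟩ := Subgroup.mem_inf.mp hd
    have hconjD : ∀ y ∈ H0, ∀ d ∈ D, y⁻¹ * d * y ∈ D := fun y hy d hd => by
      obtain ⟨h1, h2⟩ := dd_conj C hc hb hrel (inv_mem hy) (Subgroup.mem_inf.mp hd).1 (Subgroup.mem_inf.mp hd).2
      rw [inv_inv] at h1 h2
      exact Subgroup.mem_inf.mpr ⟨h1, h2⟩
    set d1 := x⁻¹ * d * x with hd1'
    set d2 := x⁻¹ * d1 * x with hd2'
    have hd1D : d1 ∈ D := hconjD x hxH d hd
    set α0 := d * m * d⁻¹ * m⁻¹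
    set α1 := d1 * m * d1⁻¹ * m⁻¹
    set α2 := d2 * m * d2⁻¹ * m⁻¹
    obtain ⟨hα0, hT0⟩ := hα hA hd
    obtain ⟨hα1, hT1⟩ := hα hA hd1D
    obtain ⟨hα2, hT2⟩ := hα hA (hconjD x hxH d1 hd1D)
    set e := x * m * x⁻¹ * m⁻¹ with he
    set ε := d * e * d⁻¹ * e⁻¹
    set δ1 := x * α1 * x⁻¹ * α1⁻¹ with hδ1
    set δ2 := x * α2 * x⁻¹ * α2⁻¹ with hδ2
    obtain ⟨hδ1V, hδ1x⟩ := hδ α1 hα1
    obtain ⟨hδ2V, hδ2x⟩ := hδ α2 hα2
    rw [← hδ1] at hδ1V hδ1x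
    rw [← hδ2] at hδ2V hδ2x
    clear_value δ1 δ2
    have hmQ := hmQ0 hA
    have heQ : e ∈ Q0 := mul_mem (conj_mem (F0.norm_Q hxH) hmQ) (inv_mem hmQ)
    have hxe' : x * e = e * x := hF2 hA e he
    have hm1 : x * m * x⁻¹ = e * m := by rw [he]; group
    have hexp : ∀ u q : Γ, d * (u * q) * d⁻¹ * (u * q)⁻¹ = (d * u * d⁻¹ * u⁻¹) * (u * (d * q * d⁻¹ * q⁻¹) * u⁻¹) :=
      fun u q => by group
    have hX1 : x * α1 * x⁻¹ = ε * α0 := by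
      calc x * α1 * x⁻¹ = d * (x * m * x⁻¹) * d⁻¹ * (x * m * x⁻¹)⁻¹ := by simp only [α1, hd1']; group
        _ = ε * (e * α0 * e⁻¹) := by rw [hm1, hexp]
        _ = _ := by rw [hQV e heQ α0 hα0]
    have hεV : ε ∈ V0 := by
      have : ε = x * α1 * x⁻¹ * α0⁻¹ := by rw [hX1, mul_inv_cancel_right]
      rw [this]
      exact mul_mem (conj_mem (F0.norm_V hxH) hα1) (inv_mem hα0)
    have hm2 : x * (x * m * x⁻¹) * x⁻¹ = e * (e * m) := by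
      rw [hm1]
      calc x * (e * m) * x⁻¹ = (x * e) * (m * x⁻¹) := by group
        _ = e * (x * m * x⁻¹) := by rw [hxe']; group
        _ = _ := by rw [hm1]
    have hX2 : x * (x * α2 * x⁻¹) * x⁻¹ = ε * (ε * α0) := by
      calc x * (x * α2 * x⁻¹) * x⁻¹
          = d * (x * (x * m * x⁻¹) * x⁻¹) * d⁻¹ * (x * (x * m * x⁻¹) * x⁻¹)⁻¹ := by
            simp only [α2, hd2', hd1']; group
        _ = ε * (e * (ε * (e * α0 * e⁻¹)) * e⁻¹) := by rw [hm2, hexp e (e * m), hexp e m]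
        _ = _ := by rw [hQV e heQ α0 hα0, hQV e heQ _ (mul_mem hεV hα0)]
    have h1 : δ1 * α1 = ε * α0 := by rw [← hX1, hδ1]; group
    have h2 : δ2 * (δ2 * α2) = ε * (ε * α0) := by
      rw [← hX2]
      have e1 : x * δ2 * x⁻¹ = δ2 := by rw [hδ2x, mul_inv_cancel_right]
      calc δ2 * (δ2 * α2) = (x * δ2 * x⁻¹) * (x * α2 * x⁻¹) := by rw [e1, hδ2]; group
        _ = x * (δ2 * α2) * x⁻¹ := by group
        _ = _ := by rw [hδ2]; group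
    -- calculation in the abelian group
    haveI : IsMulCommutative V0 := ⟨⟨fun a c => Subtype.ext (V0comm a a.2 c c.2)⟩⟩
    letI : CommGroup V0 := { (inferInstance : Group V0) with mul_comm := fun a c => Subtype.ext (V0comm a a.2 c c.2) }
    have hω : α1 * α1 * α2⁻¹ * α0⁻¹ = δ2 * δ2 * (δ1 * δ1)⁻¹ := by
      let a0 : V0 := ⟨α0, hα0⟩
      let a1 : V0 := ⟨α1, hα1⟩
      let a2 : V0 := ⟨α2, hα2⟩
      let b1 : V0 := ⟨δ1, hδ1V⟩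
      let b2 : V0 := ⟨δ2, hδ2V⟩
      let ee : V0 := ⟨ε, hεV⟩
      have k1 : b1 * a1 = ee * a0 := Subtype.ext h1
      have k2 : b2 * (b2 * a2) = ee * (ee * a0) := Subtype.ext h2
      have k3 : a1 * a1 * a2⁻¹ * a0⁻¹ = b2 * b2 * (b1 * b1)⁻¹ := by
        have ha1 : a1 = b1⁻¹ * (ee * a0) := by rw [← k1, inv_mul_cancel_left]
        have ha2 : a2 = b2⁻¹ * (b2⁻¹ * (ee * (ee * a0))) := by rw [← k2]; group
        rw [ha1, ha2]
        apply Additive.ofMul.injective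
        simp only [ofMul_mul, ofMul_inv]
        abel
      exact congrArg Subtype.val k3
    set ω := α1 * α1 * α2⁻¹ * α0⁻¹ with hωdef
    have hωC : ω ∈ centralizer (H0 : Set Γ) := by
      have hωx : Commute x ω := by
        rw [hω]
        exact (Commute.mul_right (hδ2x : Commute x δ2) hδ2x).mul_right
          (Commute.mul_right (hδ1x : Commute x δ1) hδ1x).inv_right
      have hωT : ∀ t ∈ T', t * ω = ω * t := fun t ht =>
        (((Commute.mul_right (hT1 t ht : Commute t α1) (hT1 t ht)).mul_right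
          (Commute.inv_right (hT2 t ht))).mul_right (Commute.inv_right (hT0 t ht))).eq
      intro y hy
      have hle : H0 ≤ centralizer {ω} := hgenx.ge.trans (sup_le ((Subgroup.closure_le _).mpr
        (Set.singleton_subset_iff.mpr (mem_centralizer_singleton_iff.mpr hωx.eq)))
        fun t ht => mem_centralizer_singleton_iff.mpr (hωT t ht))
      exact mem_centralizer_singleton_iff.mp (hle hy)
    set β := α2 * α1⁻¹ with hβ
    have hβV : β ∈ V0 := mul_mem hα2 (inv_mem hα1)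
    have hδβ : x * β * x⁻¹ * β⁻¹ = δ2 * δ1⁻¹ := by
      have e0 : (x * α1 * x⁻¹)⁻¹ * α1 = δ1⁻¹ := by
        rw [V0comm _ (inv_mem (conj_mem (F0.norm_V hxH) hα1)) α1 hα1, hδ1]; simp only [α1, mul_inv_rev, inv_inv, mul_assoc]
      calc x * β * x⁻¹ * β⁻¹ = δ2 * (α2 * ((x * α1 * x⁻¹)⁻¹ * α1) * α2⁻¹) := by rw [hβ, hδ2]; group
        _ = _ := by rw [e0, V0comm α2 hα2 _ (inv_mem hδ1V), mul_inv_cancel_right]
    have hδC : δ2 * δ1⁻¹ ∈ centralizer (H0 : Set Γ) := by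
      refine sq_inj_three (hV3 _ (mul_mem hδ2V (inv_mem hδ1V))) ?_
      have e1 : δ2 * δ1⁻¹ * (δ2 * δ1⁻¹) = δ2 * δ2 * (δ1 * δ1)⁻¹ := by
        calc δ2 * δ1⁻¹ * (δ2 * δ1⁻¹) = δ2 * ((δ1⁻¹ * δ2) * δ1⁻¹) := by group
          _ = _ := by rw [V0comm _ (inv_mem hδ1V) δ2 hδ2V]; group
      rw [e1, ← hω]
      exact hωC
    have hxk : γ₀⁻¹ * γ₀ = 1 := inv_mul_cancel _
    obtain ⟨k, hk, hkx⟩ : ∃ k ∈ H0, k⁻¹ * x * k ∈ T' := ⟨γ₀⁻¹, inv_mem hγ₀, by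
      rw [inv_inv, hγT]; exact conj_mem_cj hxe⟩
    have hβC : β ∈ centralizer (H0 : Set Γ) := by
      refine cent_mod (F0.T_le (F0.V_le_T hβV)) hgenx ?_ hk hkx ?_
      · exact fun t ht => (Commute.mul_right (hT2 t ht : Commute t α2) (Commute.inv_right (hT1 t ht))).eq
      · rw [hδβ]; exact hδC
    have e3 : α1 * α0⁻¹ = ω * β := by
      rw [hωdef, hβ]
      have : α1 * α1 * α2⁻¹ * α0⁻¹ * (α2 * α1⁻¹) = α1 * α1 * α2⁻¹ * ((α2 * α1⁻¹) * α0⁻¹) := by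
        rw [mul_assoc (α1 * α1 * α2⁻¹), V0comm _ (inv_mem hα0) _ hβV]
      rw [this]; group
    show α1 * α0⁻¹ ∈ _
    rw [e3]
    exact mul_mem hωC hβC
  -- the commutators of the first core with `x`
  have hP1 : ∀ {γ m : Γ}, Adm γ m → ∀ q ∈ Q0, q⁻¹ * x⁻¹ * q * x ∈ D ∧
      (q⁻¹ * x⁻¹ * q * x) * m * (q⁻¹ * x⁻¹ * q * x)⁻¹ * m⁻¹ ∈ centralizer (H0 : Set Γ) := by
    intro γ m hA q hq
    set δ₁ := q⁻¹ * x⁻¹ * q * x with hδ₁def
    have hδD : δ₁ ∈ D := Subgroup.mem_inf.mpr ⟨by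
      rw [hδ₁def, show q⁻¹ * x⁻¹ * q * x = q⁻¹ * (x⁻¹ * q * x) by group]
      exact mul_mem (inv_mem hq) (conj_mem' (F0.norm_Q hxH) hq), mul_mem
        (conj_mem' (F1.norm_Q (F1.T_le (F0.Q_le hq))) (inv_mem hxQ1)) hxQ1⟩
    refine ⟨hδD, ?_⟩
    set δ₂ := q⁻¹ * x⁻¹ * x⁻¹ * q * x * x with hδ₂def
    have hδ₂ : δ₂ = δ₁ * (x⁻¹ * δ₁ * x) := by rw [hδ₁def, hδ₂def]; group
    have hδxD : x⁻¹ * δ₁ * x ∈ D := by
      obtain ⟨h1, h2⟩ := dd_conj C hc hb hrel (inv_mem hxH) (Subgroup.mem_inf.mp hδD).1 (Subgroup.mem_inf.mp hδD).2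
      rw [inv_inv] at h1 h2
      exact Subgroup.mem_inf.mpr ⟨h1, h2⟩
    have hδ₂D : δ₂ ∈ D := hδ₂ ▸ mul_mem hδD hδxD
    set c1 := δ₁ * m * δ₁⁻¹ * m⁻¹
    set c2 := δ₂ * m * δ₂⁻¹ * m⁻¹
    obtain ⟨hc1, hTc1⟩ := hα hA hδD
    obtain ⟨hc2, -⟩ := hα hA hδ₂D
    set e := x * m * x⁻¹ * m⁻¹ with he
    have hmQ := hmQ0 hA
    have heQ : e ∈ Q0 := mul_mem (conj_mem (F0.norm_Q hxH) hmQ) (inv_mem hmQ)
    have hxe' : x * e = e * x := hF2 hA e he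
    set m' := q * m * q⁻¹
    have hA' : Adm (q * γ) m' := by
      obtain ⟨hγ, hγe, v, hv, rfl⟩ := hA
      refine ⟨mul_mem (F0.T_le (F0.Q_le hq)) hγ, ?_, v, hv, ?_⟩
      · rw [← cj_cj, hγe]; exact cj_eq_self (Subgroup.le_normalizer (F'.Q_le hq))
      · simp [m', mul_assoc]
    set ε := x * m' * x⁻¹ * m'⁻¹ with hε
    have hm'Q : m' ∈ Q0 := hmQ0 hA'
    have hεQ : ε ∈ Q0 := mul_mem (conj_mem (F0.norm_Q hxH) hm'Q) (inv_mem hm'Q)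
    have hxε : x * ε = ε * x := hF2 hA' ε hε
    have hq1 : q * (x * m * x⁻¹) * q⁻¹ = x * c1 * x⁻¹ * (ε * m') := by
      calc q * (x * m * x⁻¹) * q⁻¹ = x * (q * (δ₁ * m * δ₁⁻¹) * q⁻¹) * x⁻¹ := by rw [hδ₁def]; group
        _ = x * ((q * c1 * q⁻¹) * m') * x⁻¹ := by simp only [c1, m']; group
        _ = x * c1 * x⁻¹ * (x * m' * x⁻¹) := by rw [hQV q hq c1 hc1]; group
        _ = _ := by
            congr 1
            rw [hε]; group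
    have hq2 : q * (x * (x * m * x⁻¹) * x⁻¹) * q⁻¹ = x * (x * c2 * x⁻¹) * x⁻¹ * (ε * (ε * m')) := by
      calc q * (x * (x * m * x⁻¹) * x⁻¹) * q⁻¹ = x * (x * (q * (δ₂ * m * δ₂⁻¹) * q⁻¹) * x⁻¹) * x⁻¹ := by
            rw [hδ₂def]; group
        _ = x * (x * ((q * c2 * q⁻¹) * m') * x⁻¹) * x⁻¹ := by simp only [c2, m']; group
        _ = x * (x * c2 * x⁻¹) * x⁻¹ * (x * (x * m' * x⁻¹) * x⁻¹) := by rw [hQV q hq c2 hc2]; group
        _ = _ := by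
            congr 1
            calc x * (x * m' * x⁻¹) * x⁻¹ = (x * ε) * (m' * x⁻¹) := by rw [hε]; group
              _ = _ := by rw [hxε, hε]; group
    have hk1 : q * e * q⁻¹ = x * c1 * x⁻¹ * ε := by
      refine mul_right_cancel (b := m') ?_
      calc q * e * q⁻¹ * m' = q * (x * m * x⁻¹) * q⁻¹ := by simp only [m', he]; group
        _ = _ := by rw [hq1]; simp only [mul_assoc]
    have hk2 : q * e * q⁻¹ * (q * e * q⁻¹) = x * (x * c2 * x⁻¹) * x⁻¹ * (ε * ε) := by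
      refine mul_right_cancel (b := m') ?_
      calc q * e * q⁻¹ * (q * e * q⁻¹) * m' = q * (e * (e * m)) * q⁻¹ := by simp only [m']; group
        _ = q * (x * (x * m * x⁻¹) * x⁻¹) * q⁻¹ := by
            congr 2
            calc e * (e * m) = (e * x) * (m * x⁻¹) := by rw [he]; group
              _ = _ := by rw [← hxe', he]; group
        _ = _ := by rw [hq2]; simp only [mul_assoc]
    set δc := x * c1 * x⁻¹ * c1⁻¹ with hδc
    obtain ⟨hδcV, hδcx⟩ := hδ c1 hc1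
    rw [← hδc] at hδcV hδcx
    clear_value δc
    set z := c1⁻¹ * c1⁻¹ * c2 with hz
    have hzC : z ∈ centralizer (H0 : Set Γ) := by
      have h1 := hP2 hA δ₁ hδD
      have hαm : c2 = (δ₁ * ((x⁻¹ * δ₁ * x) * m * (x⁻¹ * δ₁ * x)⁻¹ * m⁻¹) * δ₁⁻¹) * c1 := by
        simp only [c2, c1, hδ₂]; group
      obtain ⟨hV', -⟩ := hα hA hδxD
      rw [hQV δ₁ (Subgroup.mem_inf.mp hδD).1 _ hV'] at hαm
      set c1' := (x⁻¹ * δ₁ * x) * m * (x⁻¹ * δ₁ * x)⁻¹ * m⁻¹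
      have e1 : z = c1' * c1⁻¹ := by
        rw [hz, hαm, V0comm c1' hV' c1 hc1, ← V0comm c1⁻¹ (inv_mem hc1) c1' hV']; group
      rw [e1]; exact h1
    have hsq : x * c1 * x⁻¹ * (x * c1 * x⁻¹) = x * (x * c2 * x⁻¹) * x⁻¹ := by
      refine mul_right_cancel (b := ε * ε) ?_
      rw [← hk2, hk1]
      have := hQV ε hεQ (x * c1 * x⁻¹) (conj_mem (F0.norm_V hxH) hc1)
      calc x * c1 * x⁻¹ * (x * c1 * x⁻¹) * (ε * ε) = x * c1 * x⁻¹ * (x * c1 * x⁻¹) * ε * ε := by group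
        _ = x * c1 * x⁻¹ * (ε * (x * c1 * x⁻¹) * ε⁻¹) * ε * ε := by rw [this]
        _ = _ := by group
    have hδCC : δc ∈ centralizer (H0 : Set Γ) := by
      have hxz : ∀ t ∈ H0, t * z * t⁻¹ = z := hcV z hzC
      have h2 : x * c1 * x⁻¹ = δc * c1 := by rw [hδc]; group
      have h3 : x * (x * c1 * x⁻¹) * x⁻¹ = δc * (δc * c1) := by
        rw [h2]
        calc x * (δc * c1) * x⁻¹ = (x * δc) * c1 * x⁻¹ := by group
          _ = δc * (x * c1 * x⁻¹) := by rw [hδcx]; group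
          _ = _ := by rw [h2]
      have h4 : x * (x * c2 * x⁻¹) * x⁻¹ = δc * (δc * c1) * (δc * (δc * c1)) * z := by
        have e1 : c2 = c1 * c1 * z := by rw [hz]; group
        calc x * (x * c2 * x⁻¹) * x⁻¹ = x * (x * c1 * x⁻¹) * x⁻¹ * (x * (x * c1 * x⁻¹) * x⁻¹) *
              (x * (x * z * x⁻¹) * x⁻¹) := by rw [e1]; group
          _ = _ := by rw [h3, hxz x hxH, hxz x hxH]
      rw [h4, h2] at hsq
      refine sq_inj_three (hV3 _ hδcV) ?_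
      have h5 : z⁻¹ = δc * δc := by
        have e2 : (δc * (δc * c1)) * (δc * (δc * c1)) = (δc * c1) * (δc * c1) * (δc * δc) := by
          rw [show δc * c1 * (δc * c1) * (δc * δc) = δc * c1 * ((δc * c1) * δc) * δc by group,
            ← V0comm δc hδcV (δc * c1) (mul_mem hδcV hc1)]
          rw [show δc * c1 * (δc * (δc * c1)) * δc = δc * c1 * ((δc * (δc * c1)) * δc) by group,
            ← V0comm δc hδcV (δc * (δc * c1)) (mul_mem hδcV (mul_mem hδcV hc1))]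
          rw [← mul_assoc (δc * c1) δc, ← V0comm δc hδcV (δc * c1) (mul_mem hδcV hc1)]
        rw [e2, mul_assoc _ (δc * δc) z] at hsq
        have := mul_eq_left.mp hsq.symm
        exact inv_eq_of_mul_eq_one_left this
      exact h5 ▸ inv_mem hzC
    obtain ⟨k, hk, hkx⟩ : ∃ k ∈ H0, k⁻¹ * x * k ∈ T' := ⟨γ₀⁻¹, inv_mem hγ₀, by
      rw [inv_inv, hγT]; exact conj_mem_cj hxe⟩
    exact cent_mod (F0.T_le (F0.V_le_T hc1)) hgenx hTc1 hk hkx (hδc ▸ hδCC)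
  -- the elements with both properties
  obtain ⟨v, hv, rfl⟩ : ∃ v ∈ V0, h * v * h⁻¹ = w := by
    obtain ⟨v, hv, rfl⟩ := hw; exact ⟨v, hv, rfl⟩
  set m := γ₀ * h * v * (γ₀ * h)⁻¹ with hm
  have hA : Adm γ₀ m := ⟨hγ₀, hγT.symm, conj_mem_cj hv⟩
  let ok : Γ → Prop := fun s => s ∈ H0 ∧
    (∀ q ∈ Q0, q⁻¹ * s⁻¹ * q * s ∈ D ∧
      (q⁻¹ * s⁻¹ * q * s) * m * (q⁻¹ * s⁻¹ * q * s)⁻¹ * m⁻¹ ∈ centralizer (H0 : Set Γ)) ∧
    ∀ d ∈ D, (s⁻¹ * d * s) * m * (s⁻¹ * d * s)⁻¹ * m⁻¹ * (d * m * d⁻¹ * m⁻¹)⁻¹ ∈ centralizer (H0 : Set Γ)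
  have hok_mul : ∀ {s t : Γ}, ok s → ok t → ok (s * t) := by
    rintro s t ⟨hs, hs1, hs2⟩ ⟨ht, ht1, ht2⟩
    refine ⟨mul_mem hs ht, fun q hq => ?_, fun d hd => ?_⟩
    · obtain ⟨a1, a2⟩ := hs1 q hq
      obtain ⟨b1, b2⟩ := ht1 q hq
      set δs := q⁻¹ * s⁻¹ * q * s
      set δt := q⁻¹ * t⁻¹ * q * t
      have hc3 := ht2 δs a1
      have e : q⁻¹ * (s * t)⁻¹ * q * (s * t) = δt * (t⁻¹ * δs * t) := by simp only [δt, δs]; group
      have hts : t⁻¹ * δs * t ∈ D := by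
        obtain ⟨h1, h2⟩ := dd_conj C hc hb hrel (inv_mem ht) (Subgroup.mem_inf.mp a1).1 (Subgroup.mem_inf.mp a1).2
        rw [inv_inv] at h1 h2
        exact Subgroup.mem_inf.mpr ⟨h1, h2⟩
      rw [e]
      refine ⟨mul_mem b1 hts, ?_⟩
      set αd := (t⁻¹ * δs * t) * m * (t⁻¹ * δs * t)⁻¹ * m⁻¹ with hαd
      have e2 : δt * (t⁻¹ * δs * t) * m * (δt * (t⁻¹ * δs * t))⁻¹ * m⁻¹ =
          δt * αd * δt⁻¹ * (δt * m * δt⁻¹ * m⁻¹) := by rw [hαd]; group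
      rw [e2, hQV δt (Subgroup.mem_inf.mp b1).1 αd (hα hA hts).1]
      refine mul_mem ?_ b2
      have h := mul_mem hc3 a2
      rwa [inv_mul_cancel_right] at h
    · have hsd : s⁻¹ * d * s ∈ D := by
        obtain ⟨h1, h2⟩ := dd_conj C hc hb hrel (inv_mem hs) (Subgroup.mem_inf.mp hd).1 (Subgroup.mem_inf.mp hd).2
        rw [inv_inv] at h1 h2
        exact Subgroup.mem_inf.mpr ⟨h1, h2⟩
      rw [show (s * t)⁻¹ * d * (s * t) = t⁻¹ * (s⁻¹ * d * s) * t by group]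
      simpa [mul_assoc] using mul_mem (ht2 _ hsd) (hs2 d hd)
  have hok1 : ok 1 := ⟨one_mem _, fun q _ => by simp, fun d _ => by simp⟩
  let Sg : Subgroup Γ :=
    { carrier := {s | ok s}
      one_mem' := hok1
      mul_mem' := hok_mul
      inv_mem' := fun {s} hs => by
        have hpow : ∀ n : ℕ, ok (s ^ n) := fun n => by
          induction n with
          | zero => simpa using hok1
          | succ n ih => rw [pow_succ]; exact hok_mul ih hs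
        have := hpow (orderOf s - 1)
        rwa [pow_sub s (orderOf_pos s), pow_orderOf_eq_one, one_mul, pow_one] at this }
  set L := Subgroup.closure {z | ∃ t ∈ T', z = t * x * t⁻¹} with hL
  have hLS : L ≤ Sg := (Subgroup.closure_le _).mpr (by
    rintro _ ⟨t, ht, rfl⟩
    have htH : t ∈ H0 := F'.T_le ht
    have hA' : Adm (t⁻¹ * γ₀) (t⁻¹ * m * t) := by
      refine ⟨mul_mem (inv_mem htH) hγ₀, ?_, v, hv, ?_⟩
      · rw [← cj_cj, ← hγT]; exact cj_eq_self (inv_mem (Subgroup.le_normalizer ht))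
      · simp [hm, mul_assoc]
    refine ⟨mul_mem (mul_mem htH hxH) (inv_mem htH), fun q hq => ?_, fun d hd => ?_⟩
    · obtain ⟨a1, a2⟩ := hP1 hA' (t⁻¹ * q * t) (conj_mem' (F0.norm_Q htH) hq)
      set δ := (t⁻¹ * q * t)⁻¹ * x⁻¹ * (t⁻¹ * q * t) * x with hδdef
      have e : q⁻¹ * (t * x * t⁻¹)⁻¹ * q * (t * x * t⁻¹) = t * δ * t⁻¹ := by rw [hδdef]; group
      rw [e]
      obtain ⟨h1, h2⟩ := dd_conj C hc hb hrel htH (Subgroup.mem_inf.mp a1).1 (Subgroup.mem_inf.mp a1).2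
      refine ⟨Subgroup.mem_inf.mpr ⟨h1, h2⟩, ?_⟩
      have e2 : t * δ * t⁻¹ * m * (t * δ * t⁻¹)⁻¹ * m⁻¹ =
          t * (δ * (t⁻¹ * m * t) * δ⁻¹ * (t⁻¹ * m * t)⁻¹) * t⁻¹ := by group
      rw [e2, hcV _ a2 t htH]
      exact a2
    · have hd' : t⁻¹ * d * t ∈ D := by
        obtain ⟨h1, h2⟩ := dd_conj C hc hb hrel (inv_mem htH) (Subgroup.mem_inf.mp hd).1 (Subgroup.mem_inf.mp hd).2
        rw [inv_inv] at h1 h2
        exact Subgroup.mem_inf.mpr ⟨h1, h2⟩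
      have a2 := hP2 hA' _ hd'
      have e : (t * x * t⁻¹)⁻¹ * d * (t * x * t⁻¹) * m * ((t * x * t⁻¹)⁻¹ * d * (t * x * t⁻¹))⁻¹ * m⁻¹ *
          (d * m * d⁻¹ * m⁻¹)⁻¹ = t * ((x⁻¹ * (t⁻¹ * d * t) * x) * (t⁻¹ * m * t) *
            (x⁻¹ * (t⁻¹ * d * t) * x)⁻¹ * (t⁻¹ * m * t)⁻¹ *
            ((t⁻¹ * d * t) * (t⁻¹ * m * t) * (t⁻¹ * d * t)⁻¹ * (t⁻¹ * m * t)⁻¹)⁻¹) * t⁻¹ := by group
      rw [e, hcV _ a2 t htH]
      exact a2)
  have hxL : x ∈ L := Subgroup.subset_closure ⟨1, one_mem _, by simp⟩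
  have hLn : H0 ≤ normalizer (L : Set Γ) := by
    rw [← hgenx]
    refine sup_le ((Subgroup.closure_le _).mpr (Set.singleton_subset_iff.mpr (Subgroup.le_normalizer hxL))) ?_
    intro t ht
    refine mem_normalizer_of_conj fun z hz => ?_
    show z ∈ L.comap (MulAut.conj t).toMonoidHom
    refine (Subgroup.closure_le _).mpr ?_ hz
    rintro _ ⟨t', ht', rfl⟩
    exact Subgroup.subset_closure ⟨t * t', mul_mem ht ht', by simp [mul_assoc]⟩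
  obtain ⟨-, h1, -⟩ := hLS (conj_mem (hLn hγ₀) hxL)
  obtain ⟨-, h2⟩ := h1 (γ₀ * g * γ₀⁻¹) (conj_mem (F0.norm_Q hγ₀) hgQ)
  set δ := g⁻¹ * x⁻¹ * g * x with hδdef
  set w := h * v * h⁻¹
  have e : (γ₀ * g * γ₀⁻¹)⁻¹ * (γ₀ * x * γ₀⁻¹)⁻¹ * (γ₀ * g * γ₀⁻¹) * (γ₀ * x * γ₀⁻¹) * m *
      ((γ₀ * g * γ₀⁻¹)⁻¹ * (γ₀ * x * γ₀⁻¹)⁻¹ * (γ₀ * g * γ₀⁻¹) * (γ₀ * x * γ₀⁻¹))⁻¹ * m⁻¹ =
      γ₀ * (δ * w * δ⁻¹ * w⁻¹) * γ₀⁻¹ := by simp only [hm, hδdef, w]; group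
  rw [e] at h2
  have hz2 : δ * w * δ⁻¹ * w⁻¹ ∈ centralizer (H0 : Set Γ) := by
    have h3 := hcV _ h2 γ₀⁻¹ (inv_mem hγ₀)
    rw [show γ₀⁻¹ * (γ₀ * (δ * w * δ⁻¹ * w⁻¹) * γ₀⁻¹) * γ₀⁻¹⁻¹ = δ * w * δ⁻¹ * w⁻¹ by group] at h3
    exact h3 ▸ h2
  have hxw : x * w = w * x := (Fb.V_cent w (hin hw) x hx).symm
  have e1 : δ * w * δ⁻¹ * w⁻¹ = g⁻¹ * (x⁻¹ * (g * w * g⁻¹) * x * (g * w * g⁻¹)⁻¹) * g := by
    have hxw' : x * w * x⁻¹ = w := by rw [hxw, mul_inv_cancel_right]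
    calc δ * w * δ⁻¹ * w⁻¹ = g⁻¹ * x⁻¹ * g * (x * w * x⁻¹) * g⁻¹ * x * g * w⁻¹ := by rw [hδdef]; group
      _ = _ := by rw [hxw']; group
  set u := g * w * g⁻¹
  have hgH : g ∈ H0 := F0.T_le (F0.Q_le hgQ)
  have hz3 : x⁻¹ * u * x * u⁻¹ ∈ centralizer (H0 : Set Γ) := by
    have h3 := hcV _ hz2 g hgH
    rw [e1, show g * (g⁻¹ * (x⁻¹ * u * x * u⁻¹) * g) * g⁻¹ = x⁻¹ * u * x * u⁻¹ by group] at h3
    rw [e1] at hz2
    exact h3 ▸ hz2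
  have e4 : x * u * x⁻¹ * u⁻¹ = x * (x⁻¹ * u * x * u⁻¹)⁻¹ * x⁻¹ := by group
  show x * u * x⁻¹ * u⁻¹ ∈ _
  rw [e4, hcV _ (inv_mem hz3) x hxH]
  exact inv_mem hz3

end CfsgLib.PushPair
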