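import Mathlib
import Cfsg.Agent.Lib.PushPair.ThreeStep
import Cfsg.Agent.Lib.PushPair.Engine

/-!
For `p = 3`: a failure among the members gives a member with at most two noncentral factors.
-/

set_option autoImplicit false
set_option linter.unusedSectionVars false

namespace CfsgLib.PushPair

open Cfsg Subgroup CfsgLib.PushUp CfsgLib.PushRankOne

universe u w v

section Generic

variable {Γ : Type w} [Group Γ] [Finite Γ] {p : ℕ} {𝒮 : Sys.{w, v} Γ p}

variable (𝒮) in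
/-- An element generating the vertex group with an edge moves this edge into general position. -/
def GenEdge : Prop :=
  ∀ x T, 𝒮.edge x T → ∀ t ∈ 𝒮.H x, Subgroup.closure {t} ⊔ T = 𝒮.H x → T ⊔ cj t T = 𝒮.H x

theorem lt_three_of_big (hH : Homog 𝒮) {κ : Type*} [Finite κ] {key : 𝒮.α → κ} (hK : Keyed 𝒮 key) {b : ℕ}
    (hB : 𝒮.Below b) {o : 𝒮.α} (ho : Ep 𝒮 b o) (hp : p = 3) (hbig : Big 𝒮) (hgen : GenEdge 𝒮) : b < 3 := by
  by_contra h3
  push Not at h3
  obtain ⟨C, hc, hno⟩ := exists_loose hH hK hB ho h3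
  -- the second vertex is loose in every position
  have hrel : ∀ (D : Chain 𝒮 b b), ¬ 𝒮.V (D.c 0) ≤ 𝒮.Q (D.c b) → D.c 1 = C.c 1 → Rel 𝒮 (D.c 0) (D.c 1) := by
    intro D hd hD1
    obtain ⟨T', hT', hopp⟩ := 𝒮.exists_opp _ _ (D.edge_l 0 (by omega))
    obtain ⟨k, hk, he⟩ := hH.trans _ _ _ (D.edge_l 0 (by omega)) hT'
    refine rel_of_shift D hd (D.edge_r 0 (by omega)) hT' hopp hk he ?_
    by_contra hne
    refine hno (hK.ep (by omega) (y := C.c 1) (by rw [hK.key_mv, hD1]) (x := 𝒮.mv k (D.c 1)) ⟨D.c (b - 1), ?_, hne⟩)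
    have h1 : 𝒮.Reach 1 (𝒮.mv k (D.c 1)) (D.c 0) :=
      ⟨_, ⟨T', he ▸ 𝒮.edge_mv k _ _ (D.edge_r 0 (by omega)), hT'⟩, rfl⟩
    have h2 := D.reach (i := 0) (b - 1) (by omega)
    rw [Nat.zero_add] at h2
    have h4 := 𝒮.reach_append _ _ _ _ _ h1 h2
    rwa [show 1 + (b - 1) = b by omega] at h4
  obtain ⟨t, ht, htgen, hct, hfix⟩ := exists_turn C hc h3 hH hbig hp
  have h1c : (repl C ht).c 1 = C.c 1 := by simp [repl]
  have hfix' : aa (repl C ht) ≤ centralizer (𝒮.H ((repl C ht).c 1) : Set Γ) := by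
    rw [(aa_repl C hc (by omega) ht hct).1, h1c]
    exact hfix
  have hbc : (repl C ht).c b = C.c b := by simp [repl, show b ≠ 0 by omega]
  have hV0 : 𝒮.V ((repl C ht).c 0) = cj t (𝒮.V (C.c 0)) := by simp [repl, 𝒮.V_mv]
  have he0 : (repl C ht).e 0 = cj t (C.e 0) := by simp [repl]
  have F1 : Flag p (𝒮.H (C.c 1)) (𝒮.Q (C.c 1)) (𝒮.V (C.c 1)) (C.e 0) := C.flag_r (i := 0) (by omega)
  -- the translates inside the last core
  let inside : Γ → Prop := fun h => h ∈ 𝒮.H (C.c 1) ∧ cj h (𝒮.V (C.c 0)) ≤ 𝒮.Q (C.c b)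
  let G' : Submonoid Γ :=
    { carrier := {g | g ∈ 𝒮.H (C.c 1) ∧ ∀ h, inside h → inside (g * h)}
      one_mem' := ⟨one_mem _, fun h hh => by rwa [one_mul]⟩
      mul_mem' := fun {a c} ha hc' => ⟨mul_mem ha.1 hc'.1, fun h hh => by
        rw [mul_assoc]; exact ha.2 _ (hc'.2 h hh)⟩ }
  have hG1 : ∀ g ∈ C.e 0, g ∈ G' := fun g hg => ⟨F1.T_le hg, fun h hh =>
    ⟨mul_mem (F1.T_le hg) hh.1, stable hH hp C hc h3 (hrel C hc rfl) hfix hh.1 hh.2 hg⟩⟩
  have hG2 : ∀ g ∈ cj t (C.e 0), g ∈ G' := fun g hg => by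
    have hgH : g ∈ 𝒮.H (C.c 1) := by
      obtain ⟨e, he, rfl⟩ := hg
      exact mul_mem (mul_mem ht (F1.T_le he)) (inv_mem ht)
    refine ⟨hgH, fun h hh => ⟨mul_mem hgH hh.1, ?_⟩⟩
    have h2 := stable hH hp (repl C ht) hct h3 (hrel _ hct h1c) hfix' (h := h * t⁻¹)
      (h1c.symm ▸ mul_mem hh.1 (inv_mem ht)) (by
        rw [hbc, hV0, cj_cj, inv_mul_cancel_right]; exact hh.2) (g := g) (he0.symm ▸ hg)
    rwa [hbc, hV0, cj_cj, mul_assoc, inv_mul_cancel_right] at h2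
  let G'' : Subgroup Γ :=
    { G' with
      inv_mem' := fun {g} hg => by
        have := G'.pow_mem hg (orderOf g - 1)
        rwa [pow_sub g (orderOf_pos g), pow_orderOf_eq_one, one_mul, pow_one] at this }
  have hall : 𝒮.H (C.c 1) ≤ G'' :=
    (hgen _ _ (C.edge_r 0 (by omega)) t ht htgen).ge.trans (sup_le hG1 hG2)
  obtain ⟨h₁, hh₁, he₁⟩ := hH.trans _ _ _ (C.edge_r 0 (by omega)) (C.edge_l 1 (by omega))
  have hin₁ : inside h₁ := by
    refine ⟨hh₁, ?_⟩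
    have h := C.near_adj (u := 𝒮.mv h₁ (C.c 0)) (T := C.e 1) (i := 2) (j := b)
      (he₁ ▸ 𝒮.edge_mv h₁ _ _ (C.edge_l 0 (by omega))) (C.edge_r 1 (by omega)) (by omega) le_rfl (by omega)
    rwa [𝒮.V_mv] at h
  have h2 := ((hall (inv_mem hh₁)).2 h₁ hin₁).2
  rw [inv_mul_cancel] at h2
  refine hc fun v hv => h2 ?_
  simpa [mem_cj] using hv

end Generic

variable {S : Type u} [Group S] [Finite S] [Fact (Nat.Prime 3)]

/-- A member has a large elementary abelian subgroup outside the core. -/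
def Elem {p : ℕ} [Fact p.Prime] (m : Member p S) : Prop :=
  ∃ A ∈ CfsgLib.ZJ.goodMax p (m.P : Subgroup m.G), ¬ A ≤ pCore p m.G

theorem fam_big {p : ℕ} [Fact p.Prime] {F : Member p S → Prop} (hF : ∀ m, F m → Elem m) : Big (fam F) := by
  intro x T hT
  obtain ⟨ψ, hψ, hH, hQ, hV, hP, -⟩ := exists_pull x hT
  obtain ⟨A, hA, hAQ⟩ := hF _ x.1.2
  refine ⟨A.map ψ, hP ▸ Subgroup.map_mono hA.1, ?_, fun h => hAQ ?_, fun W B hW hWc hWe hB hWB => ?_⟩
  · rintro _ ⟨a, ha, rfl⟩ _ ⟨a', ha', rfl⟩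
    rw [← map_mul, ← map_mul, hA.2.1.1 a ha a' ha']
  · rw [← Subgroup.map_le_map_iff_of_injective hψ, hQ]; exact h
  · obtain ⟨hBc, hBe⟩ := CfsgLib.ZJ.isGood_map ψ hA.2.1
    have hgood : CfsgLib.ZJ.IsGood p (W ⊔ B) := by
      rw [← Subgroup.closure_eq W, ← Subgroup.closure_eq B, ← Subgroup.closure_union]
      refine CfsgLib.ZJ.isGood_closure ?_ ?_
      · rintro y (hy | hy) z (hz | hz)
        exacts [hWc y hy z hz, hWB y hy z hz, (hWB z hz y hy).symm, hBc y (hB hy) z (hB hz)]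
      · rintro y (hy | hy)
        exacts [hWe y hy, hBe y (hB hy)]
    have hle : W ⊔ B ≤ (x.1.1.P : Subgroup x.1.1.G).map ψ := by
      rw [hP]; exact sup_le hW (hB.trans (hP ▸ Subgroup.map_mono hA.1))
    have hmc : ((W ⊔ B).comap ψ).map ψ = W ⊔ B := by
      rw [Subgroup.map_comap_eq]; exact inf_eq_right.mpr (hle.trans (Subgroup.map_le_range ψ _))
    rw [← hmc, Subgroup.card_map_of_injective hψ, Subgroup.card_map_of_injective hψ]
    refine hA.2.2 _ ?_ (CfsgLib.ZJ.isGood_comap hψ hgood)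
    rw [← Subgroup.map_le_map_iff_of_injective hψ, hmc]
    exact hle

theorem fam_genEdge {p : ℕ} [Fact p.Prime] {F : Member p S → Prop} : GenEdge (fam F) := by
  rintro ⟨⟨m, hm⟩, g₀⟩ T hT t ht htgen
  obtain ⟨ψ, hψ, hH, hQ, hV, hP, -⟩ := exists_pull (F := F) (⟨m, hm⟩, g₀) hT
  obtain ⟨t, -, rfl⟩ : t ∈ (⊤ : Subgroup m.G).map ψ := hH ▸ ht
  have hgen : Subgroup.closure {t} ⊔ (m.P : Subgroup m.G) = ⊤ := by
    apply Subgroup.map_injective hψ
    rw [Subgroup.map_sup, MonoidHom.map_closure, Set.image_singleton, hP, hH]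
    exact htgen
  suffices h : (m.P : Subgroup m.G) ⊔ cj t (m.P : Subgroup m.G) = ⊤ by
    have h' := congrArg (Subgroup.map ψ) h
    rwa [Subgroup.map_sup, map_cj, hP, hH] at h'
  by_contra hne
  obtain ⟨M, ⟨hM, hPM⟩, huniq⟩ := m.uniq
  have hle : ∀ L : Subgroup m.G, (m.P : Subgroup m.G) ≤ L → L ≠ ⊤ → L ≤ M := fun L h1 h2 => by
    obtain ⟨M', hM', hl⟩ := (eq_top_or_exists_le_coatom L).resolve_left h2
    exact huniq M' ⟨hM', h1.trans hl⟩ ▸ hl
  have htP : cj t (m.P : Subgroup m.G) ≤ M := le_sup_right.trans (hle _ le_sup_left hne)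
  have h1 : IsCoatom (cj t⁻¹ M) := by
    exact ((MulAut.conj t⁻¹ : MulAut m.G).mapSubgroup).isCoatom_iff M |>.mpr hM
  have h2 : cj t⁻¹ M = M := huniq _ ⟨h1, by rw [← cj_le_cj (g := t), cj_cj_inv]; exact htP⟩
  have hnn : normalizer (M : Set m.G) ≠ ⊤ := by
    intro h
    haveI : M.Normal := Subgroup.normalizer_eq_top_iff.mp h
    obtain ⟨g, hg⟩ := m.toSit.exists_opp
    obtain ⟨y, hy, hyQ⟩ := m.setting.exists_mem
    refine hM.1 (top_le_iff.mp ((hg.left y hy hyQ).ge.trans (sup_le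
      ((Subgroup.closure_le _).mpr (Set.singleton_subset_iff.mpr (hPM hy))) ?_)))
    rintro _ ⟨s, hs, rfl⟩
    exact ‹M.Normal›.conj_mem s (hPM hs) g
  have hN : normalizer (M : Set m.G) = M := le_antisymm (hle _ (hPM.trans Subgroup.le_normalizer) hnn)
    Subgroup.le_normalizer
  have htM : t⁻¹ ∈ M := hN ▸ mem_normalizer_of_conj (fun z hz => h2 ▸ conj_mem_cj hz)
  exact hM.1 (top_le_iff.mp (hgen.ge.trans (sup_le
    ((Subgroup.closure_le _).mpr (Set.singleton_subset_iff.mpr (by simpa using htM))) hPM)))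

/-- A failure gives a good member. -/
theorem exists_good_of_fail {F : Member 3 S → Prop} (hF : ∀ m, F m → Elem m)
    (hfail : ∃ k, ∃ x y : (fam F).α, (fam F).Reach k x y ∧ ¬ (fam F).V x ≤ (fam F).Q y) :
    ∃ m : Member 3 S, F m ∧ Good m.toSit := by
  classical
  set 𝒮 := fam F with h𝒮
  set b := Nat.find hfail with hb
  obtain ⟨x₀, y₀, hxy, hxy'⟩ := Nat.find_spec hfail
  rw [← hb] at hxy
  have hb1 : 1 ≤ b := by
    rcases Nat.eq_zero_or_pos b with h | h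
    · rw [h] at hxy
      obtain rfl : x₀ = y₀ := hxy
      obtain ⟨T, hT⟩ := fam_homog.exists_edge x₀
      exact absurd (𝒮.flag x₀ T hT).V_le hxy'
    · exact h
  have hB : 𝒮.Below b := fun k hk u v huv => by
    by_contra h
    exact Nat.find_min hfail hk ⟨u, v, huv, h⟩
  have ho : Ep 𝒮 b x₀ := ⟨y₀, hxy, hxy'⟩
  have hb3 : b < 3 := lt_three_of_big fam_homog fam_keyed hB ho rfl (fam_big hF) fam_genEdge
  clear_value b
  obtain ⟨C, -, hc⟩ := exists_crit hb1 hB ho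
  refine ⟨(C.c 0).1.1, (C.c 0).1.2, ?_⟩
  rcases (show b = 1 ∨ b = 2 by omega) with h | h
  · subst h
    exact good_of_dist_one hc
  · subst h
    by_cases hrel : Rel 𝒮 (C.c 0) (C.c 1)
    · obtain ⟨ψ, P⟩ := exists_pull (C.c 0) (C.edge_l 0 (by omega))
      obtain ⟨X, hX⟩ := oneLike_of_rel fam_homog C hc P (C.c 0).1.1.setting (C.c 0).1.1.mild hrel
      exact good_of_oneLike _ hX rfl
    · exact (good_of_unrelated C hc hrel).1

end CfsgLib.PushPair
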