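import Mathlib
import Cfsg.Agent.Lib.PushUp.Common
import Cfsg.Agent.Lib.PushPair.Member

/-!
For `p = 3`: with an elementary abelian offender the cubes of central elements of order dividing nine are central.
-/

set_option autoImplicit false
set_option linter.unusedSectionVars false
set_option linter.style.haveILetI false
set_option maxHeartbeats 1000000

namespace CfsgLib.PushPair

open Cfsg Subgroup CfsgLib.PushUp CfsgLib.PushRankOne CfsgLib.PSL2

universe u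

/-- The identity behind the cubing argument. -/
theorem cube_identity {V : Type*} [CommGroup V] (α : V →* V) (h3 : ∀ v, α (α (α v)) = v) (y : V) :
    ((α / MonoidHom.id V) ((α / MonoidHom.id V) ((α / MonoidHom.id V) y))) *
      ((α / MonoidHom.id V) ((α / MonoidHom.id V) y)) ^ 3 * ((α / MonoidHom.id V) y) ^ 3 = 1 := by
  simp only [MonoidHom.div_apply, MonoidHom.id_apply, map_div, h3]
  apply Additive.ofMul.injective
  simp only [ofMul_mul, ofMul_div, ofMul_pow, ofMul_one]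
  abel

variable {p : ℕ} [Fact p.Prime] {S : Type u} [Group S] [Finite S]

theorem cube_central (hp : p = 3) (s : Sit p S) (hn : ¬ (zs s.P).Normal) {A : Subgroup s.G}
    (hA : A ∈ CfsgLib.ZJ.goodMax p (s.P : Subgroup s.G)) (hAQ : ¬ A ≤ pCore p s.G) {w : s.G} (hw : w ∈ zs s.P)
    (h9 : w ^ (p * p) = 1) : w ^ p ∈ center s.G := by
  classical
  by_contra hwc
  have hS := s.setting
  set P := (s.P : Subgroup s.G) with hP
  set V := vmod s.P with hV
  haveI hVn : V.Normal := normalClosure_normal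
  have hVm : Mdl s.P V := mdl_closure hS hn
  obtain ⟨g, F, _, _, _, f, hopp, C⟩ := s.exists_coords
  -- the elements of order three
  let Ω : Subgroup s.G :=
    { carrier := {x | x ∈ V ∧ x ^ p = 1}
      one_mem' := ⟨one_mem _, one_pow p⟩
      mul_mem' := fun {a b} ha hb => ⟨mul_mem ha.1 hb.1, by
        rw [(show Commute a b from hVm.comm a ha.1 b hb.1).mul_pow, ha.2, hb.2, one_mul]⟩
      inv_mem' := fun {a} ha => ⟨inv_mem ha.1, by rw [inv_pow, ha.2, inv_one]⟩ }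
  haveI hΩn : Ω.Normal := ⟨fun y hy x => ⟨hVn.conj_mem y hy.1 x, by rw [conj_pow, hy.2, mul_one, mul_inv_cancel]⟩⟩
  have hwV : w ∈ V := Subgroup.le_normalClosure hw
  have hwF : w ^ p ∈ fx Ω P :=
    ⟨⟨pow_mem hwV p, by rw [← pow_mul, h9]⟩, pow_mem hw.2 p⟩
  have hΩ : Mdl s.P Ω := by
    refine ⟨hΩn, fun x hx => hVm.le hx.1, fun a ha b hb => hVm.comm a ha.1 b hb.1,
      fun v hv q hq => hVm.cent v hv.1 q hq, fun h => ?_, fun h => hwc (h hwF)⟩
    rcases hS.normal_cases (centralizer (Ω : Set s.G)) inferInstance with h1 | h1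
    · exact hwc (eq_center_of_centralized h1 (fun y hy => (hy _ hwF.1).symm) fun y hy => hwF.2 y hy)
    · obtain ⟨x, hx, hxQ⟩ := hS.exists_mem
      exact hxQ (h1 ⟨h hx, hx⟩)
  obtain ⟨g₀, -, hN⟩ := natural_of_good hS hΩ (fun v hv => hv.2) hA hAQ
  set X := Ω ⊓ center s.G with hX
  haveI : X.Normal := Subgroup.normal_inf_normal _ _
  set A₀ := fx Ω P with hA₀
  set B₀ := fx Ω (cj g P) with hB₀
  have hΩc : ∀ a ∈ Ω, ∀ b ∈ Ω, a * b = b * a := hΩ.comm
  have hle : ∀ {R : Subgroup s.G} {R' : Subgroup s.G}, fx Ω R' ≤ normalizer (fx Ω R : Set s.G) := fun {R R'} x hx =>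
    mem_normalizer_of_conj fun y hy => by rwa [hΩc x hx.1 y hy.1, mul_inv_cancel_right]
  have hXle : ∀ R : Subgroup s.G, fx Ω R ⊓ X = X := fun R => inf_eq_right.mpr fun z hz =>
    ⟨hz.1, fun y _ => Subgroup.mem_center_iff.mp hz.2 y⟩
  have hinf : A₀ ⊓ B₀ ≤ X := fun v hv => ⟨hv.1.1, Subgroup.mem_center_iff.mpr fun y => by
    have h : (⊤ : Subgroup s.G) ≤ centralizer {v} := (opp_fix hS hopp).ge.trans (sup_le
      (fun t ht => mem_centralizer_singleton_iff.mpr (hv.1.2 t ht))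
      fun t ht => mem_centralizer_singleton_iff.mpr (hv.2.2 t ht))
    exact mem_centralizer_singleton_iff.mp (h (mem_top y))⟩
  have hsq : Nat.card A₀ * Nat.card A₀ = Nat.card Ω * Nat.card X := by
    have h1 := CfsgLib.ZJ.card_mul_eq_of_le_normalizer (H := A₀) (K := fx Ω (P.map (MulAut.conj g₀).toMonoidHom)) hle
    rw [hN.sup, card_fx_conj hΩ] at h1
    rwa [show A₀ ⊓ fx Ω (P.map (MulAut.conj g₀).toMonoidHom) = X from le_antisymm
      (le_inf (inf_le_left.trans inf_le_left) hN.inf)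
      (le_inf ((hXle P).ge.trans inf_le_left) ((hXle _).ge.trans inf_le_left))] at h1
  have hcard : Nat.card A₀ * Nat.card (pCore p s.G) = Nat.card P * Nat.card X := by
    refine Nat.eq_of_mul_eq_mul_right (Nat.card_pos (α := A₀)) ?_
    calc _ = Nat.card (pCore p s.G) * (Nat.card A₀ * Nat.card A₀) := by ring
      _ = Nat.card X * (Nat.card (pCore p s.G) * Nat.card Ω) := by rw [hsq]; ring
      _ = Nat.card X * (Nat.card P * Nat.card A₀) := by rw [← hN.index]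
      _ = _ := by ring
  have hB₀card : Nat.card B₀ = Nat.card A₀ := card_fx_conj hΩ P g
  have hsup : A₀ ⊔ B₀ = Ω := by
    refine Subgroup.eq_of_le_of_card_ge (sup_le inf_le_left inf_le_left) ?_
    refine Nat.le_of_mul_le_mul_right ?_ (Nat.card_pos (α := X))
    have h1 := CfsgLib.ZJ.card_mul_eq_of_le_normalizer (H := A₀) (K := B₀) hle
    rw [hB₀card, hsq] at h1
    calc Nat.card Ω * Nat.card X = _ := h1
      _ ≤ _ := Nat.mul_le_mul le_rfl (Subgroup.card_le_of_le hinf)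
  -- the natural section
  obtain ⟨ρ, φ, hsect, hρ, hρS, -, hφA⟩ := exists_sect C X Ω A₀ B₀
    (fun a ha b hb => by rw [hΩc a ha b hb, mul_inv_cancel_right, mul_inv_cancel]; exact one_mem _)
    inf_le_left inf_le_left
    (fun y hy => by
      obtain ⟨a, ha, b, hb, hab⟩ := exists_mul (X := A₀) (Y := B₀) hle (hsup.ge hy)
      exact ⟨a, ha, b, hb, by rw [hab, inv_mul_cancel]; exact one_mem _⟩)
    (fun t ht a ha => by rw [show t * a = a * t from ha.2 t ht, mul_inv_cancel_right, mul_inv_cancel]; exact one_mem _)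
    (fun t ht y hy => mem_sup_left (hN.quad t ht y hy))
    (fun t ht a ha => by rw [show t * a = a * t from ha.2 t ht, mul_inv_cancel_right, mul_inv_cancel]; exact one_mem _)
    (fun t ht y hy => by
      refine mem_sup_left ⟨hΩ.comm_mem hy t, fun z hz => ?_⟩
      have h := (hN.quad _ (mem_cj.mp ht) _ (show g⁻¹ * y * g ∈ Ω by simpa using hΩn.conj_mem y hy g⁻¹)).2
        _ (mem_cj.mp hz)
      set e := g⁻¹ * t * g * (g⁻¹ * y * g) * (g⁻¹ * t * g)⁻¹ * (g⁻¹ * y * g)⁻¹ with he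
      calc z * (t * y * t⁻¹ * y⁻¹) = g * ((g⁻¹ * z * g) * e) * g⁻¹ := by rw [he]; group
        _ = g * (e * (g⁻¹ * z * g)) * g⁻¹ := by rw [h]
        _ = _ := by rw [he]; group)
    (by rw [hXle, hcard])
    (by rw [hXle, hB₀card, hcard])
    (fun x hx y hy => by rw [hΩ.cent y hy x hx, mul_inv_cancel_right, mul_inv_cancel]; exact one_mem _)
    (by
      by_contra hno
      push Not at hno
      refine hwc (Subgroup.mem_center_iff.mpr fun x => ?_)
      let χ : s.G →* ↥(center s.G) :=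
        { toFun := fun h => ⟨h * w ^ p * h⁻¹ * (w ^ p)⁻¹, (hno h _ hwF.1).2⟩
          map_one' := Subtype.ext (by simp)
          map_mul' := fun a b => Subtype.ext (by
            show a * b * w ^ p * (a * b)⁻¹ * (w ^ p)⁻¹ = _ * _
            set cb := b * w ^ p * b⁻¹ * (w ^ p)⁻¹ with hcb
            calc a * b * w ^ p * (a * b)⁻¹ * (w ^ p)⁻¹ = (a * cb * a⁻¹) * (a * w ^ p * a⁻¹ * (w ^ p)⁻¹) := by
                  rw [hcb]; group
              _ = cb * (a * w ^ p * a⁻¹ * (w ^ p)⁻¹) := by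
                  rw [Subgroup.mem_center_iff.mp (hno b _ hwF.1).2 a, mul_inv_cancel_right]
              _ = _ := (Subgroup.mem_center_iff.mp (hno b _ hwF.1).2 _).symm) }
      have h1 : ∀ t ∈ P, χ t = 1 := fun t ht => Subtype.ext (by
        show t * w ^ p * t⁻¹ * (w ^ p)⁻¹ = 1
        rw [hwF.2 t ht, mul_inv_cancel_right, mul_inv_cancel])
      have h2 : (⊤ : Subgroup s.G) ≤ χ.ker := (opp_fix hS hopp).ge.trans (sup_le h1 (by
        rintro _ ⟨t, ht, rfl⟩
        show χ (g * t * g⁻¹) = 1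
        rw [map_mul, map_mul, map_inv, h1 t ht, mul_one, mul_inv_cancel]))
      exact mul_inv_eq_iff_eq_mul.mp (mul_inv_eq_one.mp (congrArg Subtype.val (h2 (mem_top x)))))
  subst hp
  have h2F : (2 : F) ≠ 0 := by
    intro h0
    have h' : ((2 : ℕ) : F) = 0 := by exact_mod_cast h0
    have := (CharP.cast_eq_zero_iff F 3 2).mp h'
    omega
  -- an element of the normalizer of `P` acting as minus one
  obtain ⟨r₀, hr₀⟩ := hρ (-1)
  have hρcj : ∀ t ∈ P, ρ (r₀ * t * r₀⁻¹) = ρ t := fun t _ => by rw [map_mul, map_mul, map_inv, hr₀]; simp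
  set K := ρ.ker ⊔ P with hK
  have hcjK : ((r₀ • s.P : Sylow 3 s.G) : Subgroup s.G) ≤ K := by
    show cj r₀ P ≤ K
    rintro _ ⟨t, ht, rfl⟩
    have h1 : r₀ * t * r₀⁻¹ * t⁻¹ ∈ ρ.ker := by
      rw [MonoidHom.mem_ker, map_mul, hρcj t ht, map_inv, mul_inv_cancel]
    have := mul_mem (mem_sup_left h1 : _ ∈ K) (mem_sup_right ht)
    rwa [inv_mul_cancel_right] at this
  obtain ⟨k, hk⟩ := MulAction.exists_smul_eq K ((r₀ • s.P).subtype hcjK) (s.P.subtype le_sup_right)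
  rw [Sylow.smul_subtype] at hk
  have hk' : ((k : s.G) * r₀) • s.P = s.P := by
    rw [mul_smul]; exact Sylow.subtype_injective hk
  obtain ⟨m, hm, t, ht, hmt⟩ := exists_mul (X := ρ.ker) (Y := P) (normalizer_top _ _) k.2
  have hr₁N : t⁻¹ * ((k : s.G) * r₀) ∈ normalizer (P : Set s.G) :=
    mul_mem (inv_mem (Subgroup.le_normalizer ht)) (Sylow.smul_eq_iff_mem_normalizer.mp hk')
  have hρr₁ : ρ (t⁻¹ * ((k : s.G) * r₀)) = -1 := by
    rw [← hmt, map_mul, map_inv, map_mul, map_mul, MonoidHom.mem_ker.mp hm, hr₀, one_mul, inv_mul_cancel_left]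
  obtain ⟨n, hn⟩ := CfsgLib.PResidual.exists_pow_coprime (p := 3) (t⁻¹ * ((k : s.G) * r₀))
  set r := (t⁻¹ * ((k : s.G) * r₀)) ^ 3 ^ n with hr
  have hρr : ρ r = -1 := by
    rw [hr, map_pow, hρr₁]
    exact Odd.neg_one_pow (Odd.pow (by decide))
  have hrN : r ∈ normalizer (P : Set s.G) := Subgroup.pow_mem _ hr₁N _
  have hker : ∀ x ∈ P, ρ x = 1 → x ∈ pCore 3 s.G := by
    intro x hx h
    obtain ⟨a, ha⟩ : ∃ a : Multiplicative F, uHom a = f x := by
      have h1 : f x ∈ P.map f := ⟨x, hx, rfl⟩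
      rw [C.map_S] at h1
      exact h1
    rw [hρS x hx a.toAdd ha.symm] at h
    have h01 := congrArg (fun M : Matrix.SpecialLinearGroup (Fin 2) F => M.1 0 1) h
    simp [coe_uSL] at h01
    exact C.ker_S x hx (by rw [← ha, show a = 1 from Multiplicative.toAdd.injective (by simpa using h01), map_one])
  have hrcomm : ∀ a ∈ P, r⁻¹ * (a⁻¹ * (r * a)) ∈ pCore 3 s.G := by
    intro a ha
    have e : r⁻¹ * (a⁻¹ * (r * a)) = (r⁻¹ * a⁻¹ * r) * a := by group
    rw [e]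
    refine hker _ (P.mul_mem (conj_mem' hrN (P.inv_mem ha)) ha) ?_
    simp [map_mul, map_inv, hρr]
  -- `r` squared is trivial on the module
  have hr2co : (orderOf (r * r)).Coprime 3 :=
    hn.coprime_dvd_left (orderOf_dvd_of_mem_zpowers (mul_mem (Subgroup.mem_zpowers r) (Subgroup.mem_zpowers r)))
  have hr2Ω : ∀ v ∈ Ω, r * r * v * (r * r)⁻¹ = v := by
    intro v hv
    set d := r * r * v * (r * r)⁻¹ * v⁻¹ with hd
    have hdX : d ∈ X := by
      refine (hsect.ker d (hΩ.comm_mem hv _)).mp ?_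
      rw [hd, hsect.map_comm _ hv, map_mul, hρr, neg_mul_neg, one_mul, Matrix.SpecialLinearGroup.coe_one,
        Matrix.one_mulVec, sub_self]
    have h0 : d ∈ (⊥ : Subgroup s.G) := push_down (q := v) hr2co (by rw [hd]; group)
      ⟨1, by rw [pow_one, Subgroup.mem_bot]; exact hdX.1.2⟩
      (by rw [Subgroup.mem_bot, Subgroup.mem_center_iff.mp hdX.2, mul_inv_cancel_right, mul_inv_cancel])
    exact mul_inv_eq_one.mp (Subgroup.mem_bot.mp h0)
  have hr2V : ∀ v ∈ V, r * r * v * (r * r)⁻¹ = v := by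
    have key : ∀ n : ℕ, ∀ v ∈ V, v ^ 3 ^ n = 1 → r * r * v * (r * r)⁻¹ = v := by
      intro n
      induction n with
      | zero => intro v hv h; rw [pow_zero, pow_one] at h; simp [h]
      | succ n ih =>
        intro v hv h
        have h3 := ih (v ^ 3) (pow_mem hv 3) (by rw [← pow_mul, ← pow_succ']; exact h)
        set d := r * r * v * (r * r)⁻¹ * v⁻¹ with hd
        have hc : Commute (r * r * v * (r * r)⁻¹) v := hVm.comm _ (hVn.conj_mem v hv _) v hv
        have hd3 : d ^ 3 = 1 := by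
          rw [hd, hc.inv_right.mul_pow, conj_pow, h3, inv_pow, mul_inv_cancel]
        have hdΩ : d ∈ Ω := ⟨mul_mem (hVn.conj_mem v hv _) (inv_mem hv), hd3⟩
        have h0 : d ∈ (⊥ : Subgroup s.G) := push_down (q := v) hr2co (by rw [hd]; group)
          ⟨1, by rw [pow_one, Subgroup.mem_bot]; exact hd3⟩
          (by rw [Subgroup.mem_bot, hr2Ω d hdΩ |> fun e => show r * r * d * (r * r)⁻¹ = d from e, mul_inv_cancel])
        exact mul_inv_eq_one.mp (Subgroup.mem_bot.mp h0)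
    intro v hv
    obtain ⟨n, hn⟩ := s.P.isPGroup' ⟨v, hS.core_le (hVm.le hv)⟩
    exact key n v hv (congrArg Subtype.val hn)
  -- the module as an abelian group with the actions
  letI : CommGroup V :=
    { (inferInstance : Group V) with mul_comm := fun a b => Subtype.ext (hVm.comm a a.2 b b.2) }
  let cv : s.G → V →* V := fun x =>
    MonoidHom.mk' (fun v => ⟨x * v * x⁻¹, hVn.conj_mem v v.2 x⟩) fun a b => Subtype.ext (by simp [mul_assoc])
  have hcv : ∀ x (v : V), ((cv x v : V) : s.G) = x * v * x⁻¹ := fun _ _ => rfl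
  let R : V →* V := cv r
  have hR2 : ∀ v, R (R v) = v := fun v => Subtype.ext (by
    rw [hcv, hcv]
    calc r * (r * (v : s.G) * r⁻¹) * r⁻¹ = r * r * (v : s.G) * (r * r)⁻¹ := by group
      _ = _ := hr2V _ v.2)
  -- an inverted central element with noncentral cube
  set y : V := ⟨w, hwV⟩ / R ⟨w, hwV⟩ with hy
  have hRy : R y = y⁻¹ := by rw [hy, map_div, hR2, inv_div]
  have hyP : (y : s.G) ∈ centralizer (P : Set s.G) := by
    show w / (r * w * r⁻¹) ∈ _
    rw [div_eq_mul_inv]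
    refine mul_mem hw.2 (inv_mem fun t ht => ?_)
    have := hw.2 _ (conj_mem' hrN ht)
    calc t * (r * w * r⁻¹) = r * ((r⁻¹ * t * r) * w) * r⁻¹ := by group
      _ = r * (w * (r⁻¹ * t * r)) * r⁻¹ := by rw [this]
      _ = _ := by group
  have hy9 : ∀ v : V, (v : s.G) ^ (3 * 3) = 1 → ((v ^ 3 : V) : s.G) ∈ Ω := fun v hv => by
    refine ⟨(v ^ 3).2, ?_⟩
    rw [Subgroup.coe_pow, ← pow_mul]; exact hv
  have hpow9 : ∀ (α : V →* V) (v : V), (v : s.G) ^ (3 * 3) = 1 → ((α v : V) : s.G) ^ (3 * 3) = 1 := fun α v hv => by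
    have h : v ^ (3 * 3) = 1 := Subtype.ext (by rw [Subgroup.coe_pow]; exact hv)
    rw [← Subgroup.coe_pow, ← map_pow, h, map_one, Subgroup.coe_one]
  have hy99 : (y : s.G) ^ (3 * 3) = 1 := by
    have h := hpow9 (MonoidHom.id V / R) ⟨w, hwV⟩ h9
    rwa [MonoidHom.div_apply, MonoidHom.id_apply] at h
  -- transport of coordinates
  let ψ : V → Fin 2 → F := fun v => φ v
  have hψcv : ∀ x (v : V), (v : s.G) ∈ Ω → ψ (cv x v) = (ρ x).1.mulVec (ψ v) := fun x v hv => hsect.equiv x v hv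
  have hψdiv : ∀ a b : V, (a : s.G) ∈ Ω → (b : s.G) ∈ Ω → ψ (a / b) = ψ a - ψ b := fun a b ha hb => by
    show φ ((a / b : V) : s.G) = _
    rw [Subgroup.coe_div, div_eq_mul_inv, hsect.mul _ ha _ (inv_mem hb), hsect.map_inv hb, sub_eq_add_neg]
  have hψR : ∀ v : V, (v : s.G) ∈ Ω → ψ (v / R v) = (2 : F) • ψ v := fun v hv => by
    rw [hψdiv v (R v) hv (hΩn.conj_mem _ hv r), hψcv r v hv, hρr, Matrix.SpecialLinearGroup.coe_neg,
      Matrix.SpecialLinearGroup.coe_one, Matrix.neg_mulVec, Matrix.one_mulVec, sub_neg_eq_add, two_smul]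
  set e : V := y ^ 3 with he
  have heΩ : (e : s.G) ∈ Ω := hy9 y hy99
  have heA : (e : s.G) ∈ A₀ := ⟨heΩ, by rw [he, Subgroup.coe_pow]; exact pow_mem hyP 3⟩
  have hw3 : ((⟨w, hwV⟩ ^ 3 : V) : s.G) ∈ Ω := hy9 _ h9
  have heq : e = (⟨w, hwV⟩ ^ 3 : V) / R (⟨w, hwV⟩ ^ 3) := by rw [he, hy, div_pow, map_pow]
  have hψw : ψ (⟨w, hwV⟩ ^ 3) ≠ 0 := fun h => hwc ((hsect.ker _ hw3).mp h).2
  have hψe : ψ e ≠ 0 := by
    rw [heq, hψR _ hw3]
    exact smul_ne_zero h2F hψw
  have hψe1 : ψ e 1 = 0 := (hφA _ heΩ).mpr ⟨_, heA, by rw [inv_mul_cancel]; exact one_mem _⟩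
  have hψe0 : ψ e 0 ≠ 0 := fun h => hψe (funext fun i => by fin_cases i <;> simp [h, hψe1])
  -- a second lift off the fixed line
  obtain ⟨γ, hγ⟩ := hρ ⟨!![0, -1; 1, 0], by simp [Matrix.det_fin_two_of]⟩
  set y₀ : V := cv γ y with hy₀
  set y' : V := y₀ / R y₀ with hy'
  have hRy' : R y' = y'⁻¹ := by rw [hy', map_div, hR2, inv_div]
  have he₀Ω : ((cv γ e : V) : s.G) ∈ Ω := hΩn.conj_mem _ heΩ γ
  have hy'3 : y' ^ 3 = cv γ e / R (cv γ e) := by simp only [hy', hy₀, he, div_pow, map_pow]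
  have hψ' : ψ (y' ^ 3) 1 ≠ 0 := by
    rw [hy'3, hψR _ he₀Ω, hψcv γ e heΩ, hγ]
    simp [Matrix.mulVec, dotProduct, hψe1, hψe0, h2F]
  have he'Ω : ((y' ^ 3 : V) : s.G) ∈ Ω := by
    rw [hy'3, Subgroup.coe_div, div_eq_mul_inv]
    exact mul_mem he₀Ω (inv_mem (hΩn.conj_mem _ he₀Ω r))
  -- the element of `P` sending the second lift on the first
  set τ : F := ψ e 0 / ψ (y' ^ 3) 1 with hτ
  obtain ⟨a, ha, hfa⟩ : ∃ a ∈ P, f a = uu τ := by
    have h1 : uu τ ∈ P.map f := C.map_S.ge ⟨Multiplicative.ofAdd τ, rfl⟩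
    obtain ⟨a, ha, h⟩ := h1
    exact ⟨a, ha, h⟩
  have hρa : ρ a = uSL τ := hρS a ha τ hfa
  set α := cv a with hα
  have hα3 : ∀ v, α (α (α v)) = v := fun v => Subtype.ext (by
    rw [hcv, hcv, hcv]
    calc a * (a * (a * (v : s.G) * a⁻¹) * a⁻¹) * a⁻¹ = a ^ 3 * (v : s.G) * (a ^ 3)⁻¹ := by rw [pow_three]; group
      _ = _ := by rw [hVm.cent _ v.2 _ (hS.exp a ha), mul_inv_cancel_right])
  have hαR : ∀ v, R (α v) = α (R v) := fun v => Subtype.ext (by
    rw [hcv, hcv, hcv, hcv]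
    have hq := hVm.cent _ v.2 _ (hrcomm a ha)
    calc r * (a * (v : s.G) * a⁻¹) * r⁻¹
        = a * (r * (r⁻¹ * (a⁻¹ * (r * a)) * (v : s.G) * (r⁻¹ * (a⁻¹ * (r * a)))⁻¹) * r⁻¹) * a⁻¹ := by group
      _ = _ := by rw [hq, mul_inv_cancel_right])
  set D := α / MonoidHom.id V with hD
  have hDapp : ∀ v, D v = α v / v := fun v => rfl
  set d := D y' with hd
  set δ := d / y with hδ
  have hRδ : R δ = δ⁻¹ := by
    rw [hδ, map_div, hRy, hd, hDapp, map_div, hαR, hRy', map_inv]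
    apply Additive.ofMul.injective
    simp only [ofMul_div, ofMul_inv]
    abel
  have hd3 : d ^ 3 = α (y' ^ 3) / y' ^ 3 := by rw [hd, hDapp, div_pow, map_pow]
  have hαΩ : ∀ v : V, (v : s.G) ∈ Ω → ((α v : V) : s.G) ∈ Ω := fun v hv => hΩn.conj_mem _ hv a
  have hψd : ψ (d ^ 3) = ψ e := by
    rw [hd3, hψdiv _ _ (hαΩ _ he'Ω) he'Ω, hψcv a _ he'Ω, hρa]
    funext i
    fin_cases i
    · simp [coe_uSL, Matrix.mulVec, dotProduct, hτ, div_mul_cancel₀ _ hψ']
    · simp [coe_uSL, Matrix.mulVec, dotProduct, hψe1]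
  have hd3Ω : ((d ^ 3 : V) : s.G) ∈ Ω := by
    rw [hd3, Subgroup.coe_div, div_eq_mul_inv]
    exact mul_mem (hαΩ _ he'Ω) (inv_mem he'Ω)
  have hδ3Ω : ((δ ^ 3 : V) : s.G) ∈ Ω := by
    rw [hδ, div_pow, ← he, Subgroup.coe_div, div_eq_mul_inv]
    exact mul_mem hd3Ω (inv_mem heΩ)
  have hδ3X : ((δ ^ 3 : V) : s.G) ∈ X := by
    refine (hsect.ker _ hδ3Ω).mp ?_
    show ψ (δ ^ 3) = 0
    rw [hδ, div_pow, ← he, hψdiv _ _ hd3Ω heΩ, hψd, sub_self]
  have hδ3 : δ ^ 3 = 1 := by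
    have h1 : R (δ ^ 3) = δ ^ 3 := Subtype.ext (by
      rw [hcv, Subgroup.mem_center_iff.mp hδ3X.2 r, mul_inv_cancel_right])
    rw [map_pow, hRδ, inv_pow] at h1
    have h2 : (δ ^ 3) ^ 3 = 1 := Subtype.ext (by rw [Subgroup.coe_pow]; exact hδ3Ω.2)
    have h3 : (δ ^ 3) ^ 2 = 1 := by rw [pow_two]; nth_rewrite 1 [← h1]; exact inv_mul_cancel _
    have h4 : (δ ^ 3) ^ 3 = (δ ^ 3) ^ 2 * δ ^ 3 := pow_succ _ 2
    rwa [h3, one_mul, h2, eq_comm] at h4
  have hδΩ : (δ : s.G) ∈ Ω := ⟨δ.2, by rw [← Subgroup.coe_pow, hδ3, Subgroup.coe_one]⟩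
  have hDA : ∀ v : V, (v : s.G) ∈ Ω → ((D v : V) : s.G) ∈ A₀ := fun v hv => by
    rw [hDapp, Subgroup.coe_div, div_eq_mul_inv, hcv]
    exact hN.quad a ha _ hv
  have hDfix : ∀ v : V, (v : s.G) ∈ centralizer (P : Set s.G) → D v = 1 := fun v hv => Subtype.ext (by
    rw [hDapp, Subgroup.coe_div, div_eq_mul_inv, hcv, hv a ha, mul_inv_cancel_right, mul_inv_cancel]
    rfl)
  have hD2d : D (D d) = 1 := by
    have e1 : d = δ * y := by rw [hδ, div_mul_cancel]
    rw [e1, map_mul, map_mul, hDfix _ (hDA δ hδΩ).2, hDfix y hyP, map_one, one_mul]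
  have hid := cube_identity α hα3 y'
  rw [← hD, ← hd, hD2d, one_mul, ← map_pow, hd3] at hid
  have hDD : D (α (y' ^ 3) / y' ^ 3) = 1 := hDfix _ (hDA _ he'Ω).2
  rw [hDD, one_mul] at hid
  refine hψe ?_
  rw [← hψd, hd3, hid]
  exact hsect.map_one

end CfsgLib.PushPair
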