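import Mathlib
import Cfsg.Agent.Lib.PushPair.ThreeEngine
import Cfsg.Agent.Lib.PushPair.ThreePower
import Cfsg.Agent.Lib.PushPair.Reduce

/-!
For `p = 3`: a nontrivial characteristic subgroup normal in all bad situations over one group.
-/

set_option autoImplicit false
set_option linter.unusedSectionVars false

namespace CfsgLib.PushPair

open Cfsg Subgroup CfsgLib.PushUp CfsgLib.PushRankOne
open scoped commutatorElement

universe u

section Defs

variable {p : ℕ} [Fact p.Prime] {S : Type u} [Group S]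

/-- The residual moves the double commutators into central elements of the core of order `p`. -/
def Concl (s : Sit p S) : Prop :=
  ∀ a q : S, ∀ r ∈ Cfsg.pResidual p s.G,
    ⁅r, s.τ ⁅a, ⁅a, q⁆⁆⁆ ∈ centralizer (pCore p s.G : Set s.G) ∧ ⁅r, s.τ ⁅a, ⁅a, q⁆⁆⁆ ^ p = 1

/-- A situation with a moved centre and an elementary offender and without the conclusion. -/
def Bad (s : Sit p S) : Prop :=
  ¬ (zs s.P).Normal ∧ (∃ A ∈ CfsgLib.ZJ.goodMax p (s.P : Subgroup s.G), ¬ A ≤ pCore p s.G) ∧ ¬ Concl s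

variable (p S) in
/-- The join of the characteristic subgroups normal in all bad situations. -/
def kk : Subgroup S :=
  ⨆ X : {X : Subgroup S // X.Characteristic ∧ ∀ s : Sit p S, Bad s → (X.map s.τ).Normal}, (X : Subgroup S)

theorem kk_char : (kk p S).Characteristic := by
  refine Subgroup.characteristic_iff_map_le.mpr fun φ => ?_
  rw [kk, Subgroup.map_iSup]
  refine iSup_le fun X => le_trans ?_ (le_iSup (fun X : {X : Subgroup S // X.Characteristic ∧
    ∀ s : Sit p S, Bad s → (X.map s.τ).Normal} => (X : Subgroup S)) X)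
  exact Subgroup.characteristic_iff_map_le.mp X.2.1 φ

theorem kk_normal (s : Sit p S) (hs : Bad s) : ((kk p S).map s.τ).Normal := by
  rw [kk, Subgroup.map_iSup, ← Subgroup.normalizer_eq_top_iff, ← top_le_iff]
  intro g _
  refine mem_normalizer_of_conj fun x hx => ?_
  induction hx using Subgroup.iSup_induction' with
  | hp X x hx => exact mem_iSup_of_mem X ((X.2.2 s hs).conj_mem x hx g)
  | h1 => simp
  | hmul a b _ _ ha hb => rw [← conj_mul]; exact mul_mem ha hb

theorem le_kk {X : Subgroup S} (hX : X.Characteristic) (h : ∀ s : Sit p S, Bad s → (X.map s.τ).Normal) :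
    X ≤ kk p S :=
  le_iSup (fun X : {X : Subgroup S // X.Characteristic ∧
    ∀ s : Sit p S, Bad s → (X.map s.τ).Normal} => (X : Subgroup S)) ⟨X, hX, h⟩

end Defs

variable {p : ℕ} [Fact p.Prime] {S : Type u} [Group S] [Finite S]

theorem Good.concl {m : Member p S} (h : Good m.toSit) : Concl m.toSit := by
  intro a q r hr
  have hP := m.toSit.isPGroup
  haveI : (m.fix ⊔ center S).Normal := inferInstance
  have haq : ⁅a, q⁆ ∈ frattini S :=
    commutator_le_frattini_pGroup hP (Subgroup.commutator_mem_commutator (mem_top a) (mem_top q))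
  have h1 : ⁅a, ⁅a, q⁆⁆ ∈ center S ⊔ m.fix := by
    rw [← commutatorElement_inv]
    exact inv_mem (h.half _ haq a)
  obtain ⟨z, hz, f, hf, e⟩ := Subgroup.mem_sup_of_normal_right.mp h1
  have hzV : m.τ z ∈ vmod m.P := Subgroup.le_normalClosure (show m.τ z ∈ zs m.P from
    ⟨m.τ_mem z, m.center_iff.mpr hz⟩)
  have hV := vmod_mdl m.setting m.mild
  have hrf : r * m.τ f = m.τ f * r := hf r hr
  have e2 : ⁅r, m.τ ⁅a, ⁅a, q⁆⁆⁆ = r * m.τ z * r⁻¹ * (m.τ z)⁻¹ := by
    rw [← e, map_mul, commutatorElement_def]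
    calc r * (m.τ z * m.τ f) * r⁻¹ * (m.τ z * m.τ f)⁻¹
        = r * m.τ z * r⁻¹ * ((r * m.τ f) * r⁻¹ * (m.τ f)⁻¹) * (m.τ z)⁻¹ := by group
      _ = _ := by rw [hrf]; group
  rw [e2]
  exact ⟨fun x hx => hV.cent _ (hV.comm_mem hzV r) x hx, vmod_pow m.setting m.mild (hV.comm_mem hzV r)⟩

section Three

variable [Fact (Nat.Prime 3)]

theorem kk_ne_bot [Nontrivial S] (hP : IsPGroup 3 S) : kk 3 S ≠ ⊥ := by
  classical
  intro h0
  haveI := hP.center_nontrivial
  suffices h : ∃ X : Subgroup S, X ≠ ⊥ ∧ X.Characteristic ∧ ∀ s : Sit 3 S, Bad s → (X.map s.τ).Normal by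
    obtain ⟨X, hX, hc, hn⟩ := h
    exact hX (le_bot_iff.mp (h0 ▸ le_kk hc hn))
  by_cases hel : ∀ z ∈ center S, z ^ 3 = 1
  · -- the members
    let F : Member 3 S → Prop := fun m => Elem m ∧ ¬ Good m.toSit
    have hmem : ∀ s : Sit 3 S, Bad s → ∃ m : Member 3 S, m.toSit = s ∧ F m := by
      rintro s ⟨hn, ⟨A, hA, hAQ⟩, hc⟩
      have hm : Mild s.P := ⟨hn, ⟨3, Or.inr rfl, A, hA, hAQ⟩, fun x hx => by
        obtain ⟨z, hz, rfl⟩ := s.map_center.ge hx
        rw [← map_pow, hel z hz, map_one]⟩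
      exact ⟨{ toSit := s, mild := hm }, rfl, ⟨A, hA, hAQ⟩, fun hg => hc (Good.concl (m := { toSit := s, mild := hm }) hg)⟩
    by_cases hne : ∃ m, F m
    swap
    · exact ⟨⊤, top_ne_bot, inferInstance, fun s hs => by
        obtain ⟨m, -, hm⟩ := hmem s hs
        exact absurd ⟨m, hm⟩ hne⟩
    obtain ⟨m₀, hm₀⟩ := hne
    by_cases hfail : ∃ k, ∃ x y : (fam F).α, (fam F).Reach k x y ∧ ¬ (fam F).V x ≤ (fam F).Q y
    · obtain ⟨m, hm, hg⟩ := exists_good_of_fail (fun m hm => hm.1) hfail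
      exact absurd hg hm.2
    push Not at hfail
    obtain ⟨X, hX, hc, -, hn⟩ := exists_common_normal F m₀ hm₀ hfail
    exact ⟨X, hX, hc, fun s hs => by
      obtain ⟨m, rfl, hm⟩ := hmem s hs
      exact hn m hm⟩
  · push Not at hel
    obtain ⟨z₀, hz₀, hz₀'⟩ := hel
    obtain ⟨N, hN⟩ := (IsPGroup.iff_card).mp hP
    have hex : ∃ n, ∀ z ∈ center S, z ^ 3 ^ (n + 1) = 1 := ⟨N, fun z _ => by
      rw [pow_succ, pow_mul, ← hN, pow_card_eq_one', one_pow]⟩
    set n := Nat.find hex with hn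
    have hmax := Nat.find_spec hex
    have hn1 : 1 ≤ n := by
      by_contra h
      have := hmax z₀ hz₀
      rw [show Nat.find hex = 0 by omega] at this
      exact hz₀' (by simpa using this)
    refine ⟨Subgroup.closure {x | ∃ z ∈ center S, x = z ^ 3 ^ n}, fun h => ?_, ?_, fun s hs => ?_⟩
    · refine Nat.find_min hex (show n - 1 < Nat.find hex by omega) fun z hz => ?_
      rw [Nat.sub_add_cancel hn1]
      exact Subgroup.mem_bot.mp (h ▸ Subgroup.subset_closure ⟨z, hz, rfl⟩)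
    · refine Subgroup.characteristic_iff_map_le.mpr fun φ => ?_
      rw [MonoidHom.map_closure]
      refine Subgroup.closure_mono ?_
      rintro _ ⟨_, ⟨z, hz, rfl⟩, rfl⟩
      exact ⟨φ z, Subgroup.characteristic_iff_map_le.mp inferInstance φ ⟨z, hz, rfl⟩, map_pow φ z _⟩
    · obtain ⟨hzn, ⟨A, hA, hAQ⟩, -⟩ := hs
      refine normal_of_le_center ?_
      rw [MonoidHom.map_closure, Subgroup.closure_le]
      rintro _ ⟨_, ⟨z, hz, rfl⟩, rfl⟩
      obtain ⟨k, hk⟩ : ∃ k, n = k + 1 := ⟨n - 1, by omega⟩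
      have h9 : s.τ (z ^ 3 ^ k) ^ (3 * 3) = 1 := by
        rw [← map_pow, ← pow_mul, show 3 ^ k * (3 * 3) = 3 ^ (n + 1) by rw [hk]; ring, hmax z hz, map_one]
      have h1 := cube_central rfl s hzn hA hAQ (s.map_center.le ⟨_, pow_mem hz _, rfl⟩) h9
      rw [← map_pow, ← pow_mul, ← pow_succ, ← hk] at h1
      exact h1

end Three

end CfsgLib.PushPair
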